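import Mathlib
import Cfsg.Agent.Lib.TwoPointA5.Perm

/-!
# The affine group of the plane over the field with four elements
-/

set_option autoImplicit false
set_option linter.unusedSectionVars false
set_option linter.style.haveILetI false

namespace Cfsg.Agent.TwoPointA4

open MulAction Subgroup Polynomial

universe u v

/-- The polynomial of the field with four elements. -/
noncomputable abbrev fourPoly : Polynomial (ZMod 2) := X ^ 2 + X + 1

theorem fourPoly_natDegree : fourPoly.natDegree = 2 := by
  unfold fourPoly
  compute_degree!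

theorem fourPoly_irreducible : Irreducible fourPoly := by
  refine irreducible_of_degree_le_three_of_not_isRoot ?_ fun x => ?_
  · rw [fourPoly_natDegree]; decide
  · simp only [IsRoot.def, eval_add, eval_pow, eval_X, eval_one]
    revert x
    decide

instance fourPoly_fact : Fact (Irreducible fourPoly) := ⟨fourPoly_irreducible⟩

/-- A field with four elements. -/
abbrev FourField : Type := AdjoinRoot fourPoly

theorem fourPoly_monic : fourPoly.Monic := by
  unfold fourPoly
  monicity!

instance fourField_finite : Finite FourField :=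
  haveI := fourPoly_monic.finite_adjoinRoot
  Module.finite_of_finite (ZMod 2)

theorem card_fourField : Nat.card FourField = 4 := by
  rw [Module.natCard_eq_pow_finrank (K := ZMod 2), Nat.card_zmod,
    (AdjoinRoot.powerBasis fourPoly_monic.ne_zero).finrank, AdjoinRoot.powerBasis_dim, fourPoly_natDegree]
  norm_num

variable {G : Type u} [Group G] [Finite G] {Ω : Type v} [Fintype Ω] [MulAction G Ω] [FaithfulSMul G Ω]

/-- A regular elementary group of order sixteen with an element of order three acting without
fixed points and centralised by a point stabiliser of order 180. -/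
theorem affine_four {a : Ω} (E : Subgroup G) [hE : E.Normal] (hreg : TwoPointA5.Regular Ω E)
    (hsq : ∀ e ∈ E, e * e = 1) (h16 : Fintype.card Ω = 16) (hG : Nat.card G = 2880) {ω : G}
    (hω : ω ^ 3 = 1) (hfree : ∀ e ∈ E, ω * e * ω⁻¹ = e → e = 1)
    (hcen : ∀ g : G, g • a = a → g * ω = ω * g) :
    ∃ (F : Type) (_ : Field F) (_ : Fintype F), Fintype.card F = 4 ∧
      Nonempty (G ≃* ((Fin 2 → F) ≃ᵃ[F] (Fin 2 → F))) := by
  classical
  have hcomm : ∀ x ∈ E, ∀ y ∈ E, x * y = y * x := fun x hx y hy =>
    calc x * y = x * ((x * y) * (x * y)) * y := by rw [hsq _ (mul_mem hx hy), mul_one]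
      _ = (x * x) * (y * x) * (y * y) := by group
      _ = y * x := by rw [hsq x hx, hsq y hy, one_mul, mul_one]
  letI : CommGroup ↥E :=
    { (inferInstance : Group ↥E) with mul_comm := fun x y => Subtype.ext (hcomm x x.2 y y.2) }
  letI : Module (ZMod 2) (Additive ↥E) := AddCommGroup.zmodModule (n := 2) fun x => by
    rw [two_nsmul]; exact Subtype.ext (hsq _ x.toMul.2)
  let conjE : G → Module.End (ZMod 2) (Additive ↥E) := fun g =>
    (MonoidHom.toAdditive (MulAut.conjNormal g : MulAut ↥E).toMonoidHom).toZModLinearMap 2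
  have hconj : ∀ g x, ((conjE g x).toMul : G) = g * (x.toMul : G) * g⁻¹ := fun g x =>
    MulAut.conjNormal_apply g x.toMul
  have hext : ∀ x y : Additive ↥E, (x.toMul : G) = (y.toMul : G) → x = y := fun x y h =>
    Additive.toMul.injective (Subtype.ext h)
  -- the relation of degree two
  have hrel : Polynomial.aeval (conjE ω) fourPoly = 0 := by
    simp only [map_add, map_pow, Polynomial.aeval_X, map_one]
    refine LinearMap.ext fun x => hext _ _ ?_
    set e : G := (x.toMul : G)
    have he : e ∈ E := x.toMul.2
    show ((conjE ω (conjE ω x)).toMul : G) * ((conjE ω x).toMul : G) * e = 1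
    rw [hconj, hconj]
    have he1 : ω * e * ω⁻¹ ∈ E := hE.conj_mem e he ω
    have he2 : ω * (ω * e * ω⁻¹) * ω⁻¹ ∈ E := hE.conj_mem _ he1 ω
    refine hfree _ (mul_mem (mul_mem he2 he1) he) ?_
    have h3 : ω * (ω * (ω * e * ω⁻¹) * ω⁻¹) * ω⁻¹ = e := by
      calc ω * (ω * (ω * e * ω⁻¹) * ω⁻¹) * ω⁻¹ = (ω * ω * ω) * e * (ω * ω * ω)⁻¹ := by group
        _ = e := by rw [← pow_three', hω, one_mul, inv_one, mul_one]
    rw [← conj_mul, ← conj_mul, h3, mul_assoc, hcomm e he _ (mul_mem he2 he1)]
  -- the module over the field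
  let hom : FourField →+* Module.End (ZMod 2) (Additive ↥E) :=
    Ideal.Quotient.lift (Ideal.span {fourPoly}) (Polynomial.aeval (conjE ω)).toRingHom fun p hp => by
      obtain ⟨q, rfl⟩ := Ideal.mem_span_singleton'.1 hp
      show Polynomial.aeval (conjE ω) (q * fourPoly) = 0
      rw [map_mul, hrel, mul_zero]
  letI : Module FourField (Additive ↥E) := Module.compHom (Additive ↥E) hom
  haveI : Finite (Additive ↥E) := inferInstanceAs (Finite ↥E)
  letI : Fintype FourField := Fintype.ofFinite _
  have hF4 : Fintype.card FourField = 4 := by rw [← Nat.card_eq_fintype_card, card_fourField]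
  haveI : Module.Finite FourField (Additive ↥E) := Module.Finite.of_finite
  have hd : Module.finrank FourField (Additive ↥E) = 2 := by
    have h1 : Nat.card (Additive ↥E) = 16 := by
      rw [Nat.card_congr Additive.toMul, hreg.card a, h16]
    rw [Module.natCard_eq_pow_finrank (K := FourField), card_fourField] at h1
    exact Nat.pow_right_injective (le_refl 2 |>.trans (by norm_num : 2 ≤ 4)) (h1.trans (by norm_num))
  let φ : Additive ↥E ≃ₗ[FourField] (Fin 2 → FourField) :=
    (Module.finBasisOfFinrankEq FourField (Additive ↥E) hd).equivFun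
  -- conjugation is linear
  have hlin : ∀ g : G, Commute (conjE g) (conjE ω) := fun g => by
    refine LinearMap.ext fun x => hext _ _ ?_
    show ((conjE g (conjE ω x)).toMul : G) = ((conjE ω (conjE g x)).toMul : G)
    rw [hconj, hconj, hconj, hconj]
    set e : G := (x.toMul : G)
    have he : e ∈ E := x.toMul.2
    haveI := hreg.1
    obtain ⟨⟨e₀, he₀⟩, hga⟩ := exists_smul_eq E a (g • a)
    have hga' : e₀ • a = g • a := hga
    obtain ⟨h, rfl⟩ : ∃ h, g = e₀ * h := ⟨e₀⁻¹ * g, (mul_inv_cancel_left _ _).symm⟩
    have hh : h * ω = ω * h := hcen h (by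
      rw [mul_smul, smul_left_cancel_iff] at hga'
      exact hga'.symm)
    have key : ∀ y ∈ E, e₀ * y * e₀⁻¹ = y := fun y hy => by
      rw [hcomm _ he₀ _ hy, mul_inv_cancel_right]
    have hhe : h * e * h⁻¹ ∈ E := hE.conj_mem e he h
    have hhe' : h * (ω * e * ω⁻¹) * h⁻¹ ∈ E := hE.conj_mem _ (hE.conj_mem e he ω) h
    calc e₀ * h * (ω * e * ω⁻¹) * (e₀ * h)⁻¹ = e₀ * (h * (ω * e * ω⁻¹) * h⁻¹) * e₀⁻¹ := by group
      _ = h * (ω * e * ω⁻¹) * h⁻¹ := key _ hhe'
      _ = (h * ω) * e * (h * ω)⁻¹ := by group
      _ = ω * (h * e * h⁻¹) * ω⁻¹ := by rw [hh]; group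
      _ = ω * (e₀ * (h * e * h⁻¹) * e₀⁻¹) * ω⁻¹ := by rw [key _ hhe]
      _ = _ := by group
  have hsmul : ∀ (g : G) (c : FourField) (x : Additive ↥E), conjE g (c • x) = c • conjE g x := by
    intro g c x
    obtain ⟨p, rfl⟩ := Ideal.Quotient.mk_surjective c
    have hp : Commute (conjE g) (Polynomial.aeval (conjE ω) p) := by
      induction p using Polynomial.induction_on with
      | C r => rw [Polynomial.aeval_C]; exact (Algebra.commutes r (conjE g)).symm
      | add p q hp hq => rw [map_add]; exact hp.add_right hq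
      | monomial i r ih =>
        rw [map_mul, map_pow, Polynomial.aeval_C, Polynomial.aeval_X]
        exact (show Commute (conjE g) (algebraMap (ZMod 2) _ r) from
          (Algebra.commutes r (conjE g)).symm).mul_right ((hlin g).pow_right _)
    exact LinearMap.congr_fun hp.eq x
  have hconj_inv : ∀ g x, conjE g⁻¹ (conjE g x) = x := fun g x => hext _ _ (by
    rw [hconj, hconj]; group)
  let lin : G → ((Fin 2 → FourField) ≃ₗ[FourField] (Fin 2 → FourField)) := fun g =>
    φ.symm.trans (LinearEquiv.trans
      { toFun := conjE g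
        map_add' := map_add _
        map_smul' := hsmul g
        invFun := conjE g⁻¹
        left_inv := hconj_inv g
        right_inv := fun x => by simpa only [inv_inv] using hconj_inv g⁻¹ x } φ)
  -- the points
  haveI := hreg.1
  let P : (Fin 2 → FourField) ≃ Ω := Equiv.ofBijective (fun w => (((φ.symm w).toMul : ↥E) : G) • a) (by
    constructor
    · intro x y h
      refine φ.symm.injective (hext _ _ (inv_mul_eq_one.1 ?_))
      refine hreg.2 a _ (mul_mem (inv_mem (φ.symm x).toMul.2) (φ.symm y).toMul.2) ?_
      rw [mul_smul, ← show ((φ.symm x).toMul : G) • a = ((φ.symm y).toMul : G) • a from h, inv_smul_smul]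
    · intro z
      obtain ⟨⟨e, he⟩, hez⟩ := exists_smul_eq E a z
      refine ⟨φ (Additive.ofMul ⟨e, he⟩), ?_⟩
      show (((φ.symm (φ (Additive.ofMul ⟨e, he⟩))).toMul : ↥E) : G) • a = z
      rw [φ.symm_apply_apply]
      exact hez)
  have hP : ∀ w, P w = (((φ.symm w).toMul : ↥E) : G) • a := fun w => rfl
  have hPadd : ∀ v w, P (v + w) = (((φ.symm v).toMul : ↥E) : G) • P w := fun v w => by
    rw [hP, hP, ← mul_smul, map_add]
    rfl
  let Θ : G →* ((Fin 2 → FourField) ≃ᵃ[FourField] (Fin 2 → FourField)) :=
    { toFun := fun g =>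
        { toEquiv := P.trans ((MulAction.toPerm g).trans P.symm)
          linear := lin g
          map_vadd' := fun p v => by
            show P.symm (g • P (v + p)) = lin g v + P.symm (g • P p)
            rw [P.symm_apply_eq, hPadd, hPadd, P.apply_symm_apply, ← mul_smul, ← mul_smul]
            congr 1
            show g * ((φ.symm v).toMul : G) = ((φ.symm (φ (conjE g (φ.symm v)))).toMul : G) * g
            rw [φ.symm_apply_apply, hconj]
            group }
      map_one' := AffineEquiv.ext fun w => by
        show P.symm ((1 : G) • P w) = w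
        rw [one_smul, P.symm_apply_apply]
      map_mul' := fun g h => AffineEquiv.ext fun w => by
        show P.symm ((g * h) • P w) = P.symm (g • P (P.symm (h • P w)))
        rw [P.apply_symm_apply, mul_smul] }
  have hinj : Function.Injective Θ := fun g h e => eq_of_smul_eq_smul (α := Ω) fun z => by
    obtain ⟨w, rfl⟩ := P.surjective z
    exact P.symm.injective (congrArg (fun f => f w) e)
  let split : ((Fin 2 → FourField) ≃ᵃ[FourField] (Fin 2 → FourField)) →
      (Fin 2 → FourField) × ((Fin 2 → FourField) ≃ₗ[FourField] (Fin 2 → FourField)) :=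
    fun f => (f 0, f.linear)
  have hsplit : Function.Injective split := fun f g e => AffineEquiv.ext fun w => by
    have h1 := f.map_vadd 0 w
    have h2 := g.map_vadd 0 w
    simp only [vadd_eq_add, add_zero] at h1 h2
    rw [h1, h2, show f 0 = g 0 from congrArg Prod.fst e, show f.linear = g.linear from congrArg Prod.snd e]
  let eGL : ((Fin 2 → FourField) ≃ₗ[FourField] (Fin 2 → FourField)) ≃ GL (Fin 2) FourField :=
    ((LinearMap.GeneralLinearGroup.generalLinearEquiv FourField (Fin 2 → FourField)).symm.trans
      Matrix.GeneralLinearGroup.toLin.symm).toEquiv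
  haveI : Finite ((Fin 2 → FourField) ≃ₗ[FourField] (Fin 2 → FourField)) := Finite.of_equiv _ eGL.symm
  haveI : Finite ((Fin 2 → FourField) ≃ᵃ[FourField] (Fin 2 → FourField)) := Finite.of_injective _ hsplit
  have hle : Nat.card ((Fin 2 → FourField) ≃ᵃ[FourField] (Fin 2 → FourField)) ≤ Nat.card G := by
    refine (Nat.card_le_card_of_injective _ hsplit).trans (le_of_eq ?_)
    rw [Nat.card_prod, Nat.card_congr eGL, Matrix.card_GL_field, Nat.card_fun, card_fourField, Nat.card_fin,
      hF4, hG]
    simp [Fin.prod_univ_two]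
  exact ⟨FourField, inferInstance, inferInstance, hF4,
    ⟨MulEquiv.ofBijective Θ ((Nat.bijective_iff_injective_and_card Θ).2
      ⟨hinj, le_antisymm (Nat.card_le_card_of_injective _ hinj) hle⟩)⟩⟩

end Cfsg.Agent.TwoPointA4
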