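import Mathlib

/-!
# The alternating group of degree four and its automorphisms
-/

set_option autoImplicit false
set_option synthInstance.maxSize 1024
set_option synthInstance.maxHeartbeats 100000

namespace Cfsg.Agent.TwoPointA4.Alt

open Equiv

/-- The alternating group on four letters. -/
abbrev A4 : Type := alternatingGroup (Fin 4)

theorem sq_mul : ∀ x y : A4, x * x = 1 → y * y = 1 → x * y = y * x := by decide +kernel

theorem exists_conj : ∀ x y : A4, x * x = 1 → x ≠ 1 → y * y = 1 → y ≠ 1 →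
    ∃ k : A4, k * x * k⁻¹ = y := by decide +kernel

theorem cent : ∀ x k : A4, x * x = 1 → x ≠ 1 → k * x = x * k → k * k = 1 := by decide +kernel

theorem order_two_or_three : ∀ k : A4, k * k = 1 ∨ k * k * k = 1 := by decide +kernel

theorem card : Nat.card A4 = 12 := by
  rw [Nat.card_eq_fintype_card]; decide +kernel

theorem card_sq : (Finset.univ.filter fun x : A4 => x * x = 1).card = 4 := by decide +kernel

theorem exists_three : ∃ k : A4, k * k * k = 1 ∧ k ≠ 1 := by decide +kernel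

theorem exists_invol : ∃ x : A4, x * x = 1 ∧ x ≠ 1 := by decide +kernel

/-- The generators used to recognise automorphisms. -/
def gen3 : A4 :=
  ⟨swap 0 1 * swap 1 2, by rw [Perm.mem_alternatingGroup]; decide +kernel⟩

/-- The generators used to recognise automorphisms. -/
def gen2 : A4 :=
  ⟨swap 0 1 * swap 2 3, by rw [Perm.mem_alternatingGroup]; decide +kernel⟩

theorem gen_eq : ∀ x : A4, ∃ i < 3, ∃ a < 2, ∃ b < 2,
    x = gen3 ^ i * gen2 ^ a * (gen3 * gen2 * gen3⁻¹) ^ b := by decide +kernel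

theorem gen_facts : gen3 * gen3 * gen3 = 1 ∧ gen3 ≠ 1 ∧ gen2 * gen2 = 1 ∧ gen2 ≠ 1 := by
  decide +kernel

theorem exists_perm : ∀ x y : A4, x * x * x = 1 → x ≠ 1 → y * y = 1 → y ≠ 1 →
    ∃ p : Perm (Fin 4), p * (gen3 : Perm (Fin 4)) * p⁻¹ = x ∧
      p * (gen2 : Perm (Fin 4)) * p⁻¹ = y := by decide +kernel

theorem perm_eq_one : ∀ p : Perm (Fin 4), (p * (gen3 : Perm (Fin 4)) = gen3 * p) →
    (p * (gen2 : Perm (Fin 4)) = gen2 * p) → p = 1 := by decide +kernel

/-- Every automorphism is the conjugation by a permutation. -/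
theorem exists_perm_of_aut (α : MulAut A4) :
    ∃ p : Perm (Fin 4), ∀ x : A4, (α x : Perm (Fin 4)) = p * x * p⁻¹ := by
  obtain ⟨h1, h2, h3, h4⟩ := gen_facts
  obtain ⟨p, hp3, hp2⟩ := exists_perm (α gen3) (α gen2) (by rw [← map_mul, ← map_mul, h1, map_one])
    (fun h => h2 (α.injective (h.trans (map_one α).symm))) (by rw [← map_mul, h3, map_one])
    (fun h => h4 (α.injective (h.trans (map_one α).symm)))
  refine ⟨p, fun x => ?_⟩
  let f : A4 →* Perm (Fin 4) := (alternatingGroup (Fin 4)).subtype.comp α.toMonoidHom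
  let g : A4 →* Perm (Fin 4) := (MulAut.conj p).toMonoidHom.comp (alternatingGroup (Fin 4)).subtype
  obtain ⟨i, -, a, -, b, -, rfl⟩ := gen_eq x
  have e3 : f gen3 = g gen3 := hp3.symm
  have e2 : f gen2 = g gen2 := hp2.symm
  show f (gen3 ^ i * gen2 ^ a * (gen3 * gen2 * gen3⁻¹) ^ b) =
    g (gen3 ^ i * gen2 ^ a * (gen3 * gen2 * gen3⁻¹) ^ b)
  simp only [map_mul, map_pow, map_inv, e3, e2]

theorem eq_of_conj_eq {p q : Perm (Fin 4)}
    (h : ∀ x : A4, p * x * p⁻¹ = q * (x : Perm (Fin 4)) * q⁻¹) : p = q := by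
  have key : ∀ x : A4, (q⁻¹ * p) * (x : Perm (Fin 4)) = x * (q⁻¹ * p) := fun x =>
    calc (q⁻¹ * p) * (x : Perm (Fin 4)) = q⁻¹ * (p * x * p⁻¹) * p := by group
      _ = q⁻¹ * (q * x * q⁻¹) * p := by rw [h x]
      _ = x * (q⁻¹ * p) := by group
  exact (inv_mul_eq_one.1 (perm_eq_one _ (key gen3) (key gen2))).symm

/-- The six transpositions: an involutive outer element and its products with the alternating group. -/
theorem swap_facts : ∀ p : Perm (Fin 4), p * p = 1 → Perm.sign p = -1 →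
    ((Finset.univ.filter fun x : A4 => p * (x : Perm (Fin 4)) * (p * x) = 1).card = 6) := by
  decide +kernel

theorem swap_conj : ∀ p q : Perm (Fin 4), p * p = 1 → Perm.sign p = -1 → q * q = 1 →
    Perm.sign q = -1 → ∃ k : A4, (k : Perm (Fin 4)) * p * (k : Perm (Fin 4))⁻¹ = q := by
  decide +kernel

theorem swap_cen : ∀ x : A4, x * x = 1 → x ≠ 1 → ∃ p : Perm (Fin 4), p * p = 1 ∧
    Perm.sign p = -1 ∧ p * (x : Perm (Fin 4)) = x * p ∧
    ∀ y : A4, y * y = 1 → y ≠ 1 → y ≠ x → p * (y : Perm (Fin 4)) * p⁻¹ = y * x := by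
  decide +kernel

end Cfsg.Agent.TwoPointA4.Alt
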