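import Cfsg.Agent.Lib.TwoPointA4.Alt
import Cfsg.Agent.Lib.TwoPointA5.Perm

/-!
# A doubly transitive action with two-point stabiliser `A₄`: first counts
-/

set_option autoImplicit false
set_option linter.unusedSectionVars false
set_option linter.style.haveILetI false

namespace Cfsg.Agent.TwoPointA4

open MulAction Subgroup

universe u v

/-- The setting. -/
structure Data (G : Type u) (Ω : Type v) [Group G] [MulAction G Ω] where
  h2 : IsMultiplyPretransitive G Ω 2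
  a : Ω
  b : Ω
  hab : a ≠ b
  e : ↥(stabilizer G a ⊓ stabilizer G b) ≃* Alt.A4

variable {G : Type u} [Group G] [Finite G] {Ω : Type v} [Fintype Ω] [MulAction G Ω]
  [FaithfulSMul G Ω] (D : Data G Ω)

/-- The two-point stabiliser. -/
abbrev Data.K : Subgroup G := stabilizer G D.a ⊓ stabilizer G D.b

theorem mem_K {g : G} : g ∈ D.K ↔ g • D.a = D.a ∧ g • D.b = D.b := Iff.rfl

theorem sq_one_iff {x : G} (hx : x ∈ D.K) : x * x = 1 ↔ D.e ⟨x, hx⟩ * D.e ⟨x, hx⟩ = 1 := by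
  rw [← map_mul, MulEquiv.map_eq_one_iff, Subtype.ext_iff]
  rfl

theorem ne_one_iff {x : G} (hx : x ∈ D.K) : x ≠ 1 ↔ D.e ⟨x, hx⟩ ≠ 1 := by
  rw [ne_eq, ne_eq, MulEquiv.map_eq_one_iff, Subtype.ext_iff]
  rfl

theorem comm_of_sq {x y : G} (hx : x ∈ D.K) (hy : y ∈ D.K) (hx2 : x * x = 1) (hy2 : y * y = 1) :
    x * y = y * x := by
  have h := Alt.sq_mul _ _ ((sq_one_iff D hx).1 hx2) ((sq_one_iff D hy).1 hy2)
  rw [← map_mul, ← map_mul] at h
  exact congrArg Subtype.val (D.e.injective h)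

theorem conj_in_K {x y : G} (hx : x ∈ D.K) (hy : y ∈ D.K) (hx2 : x * x = 1) (hy2 : y * y = 1)
    (hx1 : x ≠ 1) (hy1 : y ≠ 1) : ∃ k ∈ D.K, k * x * k⁻¹ = y := by
  obtain ⟨k, hk⟩ := Alt.exists_conj _ _ ((sq_one_iff D hx).1 hx2) ((ne_one_iff D hx).1 hx1)
    ((sq_one_iff D hy).1 hy2) ((ne_one_iff D hy).1 hy1)
  refine ⟨(D.e.symm k : G), (D.e.symm k).2, ?_⟩
  have h : D.e (D.e.symm k * ⟨x, hx⟩ * (D.e.symm k)⁻¹) = D.e ⟨y, hy⟩ := by
    rw [map_mul, map_mul, map_inv, MulEquiv.apply_symm_apply, hk]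
  exact congrArg Subtype.val (D.e.injective h)

theorem sq_of_commute {x k : G} (hx : x ∈ D.K) (hk : k ∈ D.K) (hx2 : x * x = 1) (hx1 : x ≠ 1)
    (h : k * x = x * k) : k * k = 1 := by
  refine (sq_one_iff D hk).2 (Alt.cent _ _ ((sq_one_iff D hx).1 hx2) ((ne_one_iff D hx).1 hx1) ?_)
  rw [← map_mul, ← map_mul]
  exact congrArg D.e (Subtype.ext h)

theorem two_or_three {k : G} (hk : k ∈ D.K) : k * k = 1 ∨ k * k * k = 1 := by
  rcases Alt.order_two_or_three (D.e ⟨k, hk⟩) with h | h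
  · exact Or.inl ((sq_one_iff D hk).2 h)
  · right
    rw [← map_mul, ← map_mul, MulEquiv.map_eq_one_iff, Subtype.ext_iff] at h
    exact h

theorem card_K : Nat.card D.K = 12 :=
  (Nat.card_congr D.e.toEquiv).trans Alt.card

/-- The four-group of the two-point stabiliser. -/
def Data.V : Subgroup G where
  carrier := {x | x ∈ D.K ∧ x * x = 1}
  one_mem' := ⟨one_mem _, one_mul 1⟩
  mul_mem' := by
    rintro x y ⟨hx, hx2⟩ ⟨hy, hy2⟩
    refine ⟨mul_mem hx hy, ?_⟩
    have h : Commute x y := comm_of_sq D hx hy hx2 hy2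
    rw [h.symm.mul_mul_mul_comm, hx2, hy2, one_mul]
  inv_mem' := by
    rintro x ⟨hx, hx2⟩
    exact ⟨inv_mem hx, by rw [← _root_.mul_inv_rev, hx2, inv_one]⟩

theorem mem_V {x : G} : x ∈ D.V ↔ x ∈ D.K ∧ x * x = 1 := Iff.rfl

theorem card_V : Nat.card D.V = 4 := by
  let f : D.V ≃ {x : Alt.A4 // x * x = 1} :=
    { toFun := fun x => ⟨D.e ⟨x, x.2.1⟩, (sq_one_iff D x.2.1).1 x.2.2⟩
      invFun := fun y => ⟨(D.e.symm y.1 : G), (D.e.symm y.1).2,
        (sq_one_iff D (D.e.symm y.1).2).2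
          ((congrArg (fun z => z * z) (D.e.apply_symm_apply y.1)).trans y.2)⟩
      left_inv := fun x => Subtype.ext (congrArg (fun z : ↥D.K => (z : G)) (D.e.symm_apply_apply _))
      right_inv := fun y => Subtype.ext (D.e.apply_symm_apply _) }
  rw [Nat.card_congr f, Nat.card_eq_fintype_card, Fintype.card_subtype]
  exact Alt.card_sq

theorem exists_invol_K : ∃ x ∈ D.K, x * x = 1 ∧ x ≠ 1 := by
  obtain ⟨x, hx, hx1⟩ := Alt.exists_invol
  refine ⟨(D.e.symm x : G), (D.e.symm x).2, (sq_one_iff D (D.e.symm x).2).2 ?_,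
    (ne_one_iff D (D.e.symm x).2).2 ?_⟩
  · exact (congrArg (fun z => z * z) (D.e.apply_symm_apply x)).trans hx
  · exact fun h => hx1 ((D.e.apply_symm_apply x).symm.trans h)

/-- A chosen involution fixing both base points. -/
noncomputable def Data.t : G := (exists_invol_K D).choose

theorem t_mem : D.t ∈ D.K := (exists_invol_K D).choose_spec.1
theorem t_sq : D.t * D.t = 1 := (exists_invol_K D).choose_spec.2.1
theorem t_ne : D.t ≠ 1 := (exists_invol_K D).choose_spec.2.2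
theorem t_mem_V : D.t ∈ D.V := ⟨t_mem D, t_sq D⟩

theorem exists_map {c d : Ω} (hcd : c ≠ d) : ∃ g : G, g • D.a = c ∧ g • D.b = d :=
  is_two_pretransitive_iff.1 D.h2 D.hab hcd

theorem mem_K_of_fix {c d : Ω} {g x : G} (hgc : g • D.a = c) (hgd : g • D.b = d) (hc : x • c = c)
    (hd : x • d = d) : g⁻¹ * x * g ∈ D.K := by
  rw [mem_K, mul_smul, mul_smul, mul_smul, mul_smul, hgc, hgd, hc, hd, inv_smul_eq_iff,
    inv_smul_eq_iff]
  exact ⟨hgc.symm, hgd.symm⟩

/-- An involution fixing two points is a conjugate of `t`. -/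
theorem exists_conj_t {x : G} (hx2 : x * x = 1) (hx1 : x ≠ 1) {c d : Ω} (hcd : c ≠ d)
    (hc : x • c = c) (hd : x • d = d) :
    ∃ g : G, g * D.t * g⁻¹ = x ∧ g • D.a = c ∧ g • D.b = d := by
  obtain ⟨g, hgc, hgd⟩ := exists_map D hcd
  have hmem := mem_K_of_fix D hgc hgd hc hd
  obtain ⟨k, hk, hkx⟩ := conj_in_K D (t_mem D) hmem (t_sq D)
    (by rw [show g⁻¹ * x * g * (g⁻¹ * x * g) = g⁻¹ * (x * x) * g by group, hx2, mul_one,
      inv_mul_cancel])
    (t_ne D) (fun h => hx1 (by rw [show x = g * (g⁻¹ * x * g) * g⁻¹ by group, h]; group))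
  refine ⟨g * k, ?_, ?_, ?_⟩
  · rw [show g * k * D.t * (g * k)⁻¹ = g * (k * D.t * k⁻¹) * g⁻¹ by group, hkx]
    group
  · rw [mul_smul, hk.1]; exact hgc
  · rw [mul_smul, hk.2]; exact hgd

/-- The number of fixed points of `t`. -/
noncomputable def Data.f : ℕ := TwoPointA5.fixCard Ω D.t

theorem fixCard_conj (g x : G) :
    TwoPointA5.fixCard Ω (g * x * g⁻¹) = TwoPointA5.fixCard Ω x := by
  refine (Nat.card_congr ((MulAction.toPerm g).subtypeEquiv fun w => ?_)).symm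
  show x • w = w ↔ (g * x * g⁻¹) • g • w = g • w
  rw [mul_smul, mul_smul, inv_smul_smul]
  exact ⟨fun h => by rw [h], fun h => MulAction.injective g h⟩

theorem fixCard_of_conj {g x : G} (h : g * D.t * g⁻¹ = x) : TwoPointA5.fixCard Ω x = D.f := by
  rw [← h, fixCard_conj]; rfl

theorem two_le_f : 2 ≤ D.f := by
  haveI : Nontrivial {x : Ω // D.t • x = x} :=
    ⟨⟨D.a, (t_mem D).1⟩, ⟨D.b, (t_mem D).2⟩, fun h => D.hab (congrArg Subtype.val h)⟩
  exact Finite.one_lt_card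

theorem f_le : D.f ≤ Fintype.card Ω := by
  rw [← Nat.card_eq_fintype_card]
  exact Nat.card_le_card_of_injective _ Subtype.val_injective

/-- The swappers of the base pair in the class of `t`. -/
def Data.Sw : Set G := {x | (∃ g : G, g * D.t * g⁻¹ = x) ∧ x • D.a = D.b}

/-- Their number. -/
noncomputable def Data.k : ℕ := D.Sw.ncard

theorem count : 3 * (Fintype.card Ω - D.f) = D.k * (D.f * (D.f - 1)) := by
  classical
  haveI := Fintype.ofFinite G
  set C : Finset G := Finset.univ.filter fun x => ∃ g : G, g * D.t * g⁻¹ = x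
  have hC : ∀ {x : G}, x ∈ C ↔ ∃ g : G, g * D.t * g⁻¹ = x := by simp [C]
  have hconj : ∀ g : G, ∀ u ∈ C, g * u * g⁻¹ ∈ C := fun g u hu => by
    obtain ⟨h, rfl⟩ := hC.1 hu
    exact hC.2 ⟨g * h, by group⟩
  have hsq : ∀ u ∈ C, u * u = 1 := fun u hu => by
    obtain ⟨h, rfl⟩ := hC.1 hu
    rw [show h * D.t * h⁻¹ * (h * D.t * h⁻¹) = h * (D.t * D.t) * h⁻¹ by group, t_sq D, mul_one,
      mul_inv_cancel]
  have hf : ∀ u ∈ C, TwoPointA5.fixCard Ω u = D.f := fun u hu =>
    fixCard_of_conj D (hC.1 hu).choose_spec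
  have e1 := TwoPointA5.card_fixed D.h2 C hconj hf D.hab
  have e2 := TwoPointA5.card_swapped D.h2 C hconj hsq hf D.hab
  have hk : (C.filter fun u => u • D.a = D.b ∧ u • D.b = D.a).card = D.k := by
    rw [Data.k, ← Set.ncard_coe_finset]
    congr 1
    ext x
    simp only [Finset.coe_filter, hC, Data.Sw, Set.mem_ofPred_eq]
    refine ⟨fun h => ⟨h.1, h.2.1⟩, fun h => ⟨h.1, h.2, ?_⟩⟩
    rw [← h.2, ← mul_smul, hsq x (hC.2 h.1), one_smul]
  have hthree : (C.filter fun x => x • D.a = D.a ∧ x • D.b = D.b).card = 3 := by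
    have h4 := card_V D
    rw [← SetLike.coe_sort_coe, Nat.card_coe_set_eq] at h4
    have he : ((C.filter fun x => x • D.a = D.a ∧ x • D.b = D.b : Finset G) : Set G) =
        (D.V : Set G) \ {1} := by
      ext x
      simp only [Finset.coe_filter, Set.mem_ofPred_eq, hC, Set.mem_sdiff, Set.mem_singleton_iff,
        SetLike.mem_coe, mem_V, mem_K]
      constructor
      · rintro ⟨⟨g, rfl⟩, hfix⟩
        exact ⟨⟨hfix, hsq _ (hC.2 ⟨g, rfl⟩)⟩, fun h => t_ne D (conj_eq_one_iff.1 h)⟩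
      · rintro ⟨⟨hxK, hx2⟩, hx1⟩
        obtain ⟨g, hg, -, -⟩ := exists_conj_t D hx2 hx1 D.hab hxK.1 hxK.2
        exact ⟨⟨g, hg⟩, hxK⟩
    rw [← Set.ncard_coe_finset, he, Set.ncard_sdiff_singleton_of_mem (one_mem D.V), h4]
  rw [hthree] at e1
  rw [hk] at e2
  set P := Fintype.card Ω * (Fintype.card Ω - 1)
  have hP : 0 < P := by
    have : 1 < Fintype.card Ω := Fintype.one_lt_card_iff.2 ⟨D.a, D.b, D.hab⟩
    exact Nat.mul_pos (by omega) (by omega)
  refine Nat.eq_of_mul_eq_mul_left hP ?_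
  calc P * (3 * (Fintype.card Ω - D.f)) = P * 3 * (Fintype.card Ω - D.f) := (mul_assoc _ _ _).symm
    _ = C.card * (D.f * (D.f - 1)) * (Fintype.card Ω - D.f) := by rw [e1]
    _ = C.card * (Fintype.card Ω - D.f) * (D.f * (D.f - 1)) := by ring
    _ = P * D.k * (D.f * (D.f - 1)) := by rw [e2]
    _ = P * (D.k * (D.f * (D.f - 1))) := mul_assoc _ _ _

include D in
/-- The order of the group. -/
theorem card_G : Nat.card G = 12 * (Fintype.card Ω * (Fintype.card Ω - 1)) := by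
  classical
  haveI := D.h2
  haveI : IsPretransitive G Ω := isPretransitive_of_is_two_pretransitive
  have h1 := (stabilizer G D.a).card_mul_index
  rw [index_stabilizer_of_transitive, Nat.card_eq_fintype_card (α := Ω)] at h1
  have hK : (D.K.subgroupOf (stabilizer G D.a)) =
      stabilizer (stabilizer G D.a) D.b := by
    ext ⟨g, hg⟩
    simp only [mem_subgroupOf, mem_K, mem_stabilizer_iff]
    exact ⟨fun h => h.2, fun h => ⟨hg, h⟩⟩
  have h2 := (D.K.subgroupOf (stabilizer G D.a)).card_mul_index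
  have hle : D.K ≤ stabilizer G D.a := inf_le_left
  rw [Nat.card_congr (subgroupOfEquivOfLe hle).toEquiv, card_K D, hK, index_stabilizer] at h2
  have horb : orbit (stabilizer G D.a) D.b = {D.a}ᶜ := by
    ext w
    constructor
    · rintro ⟨⟨g, hg⟩, rfl⟩
      intro h
      have h' : g • D.b = D.a := h
      exact D.hab.symm (MulAction.injective g (h'.trans hg.symm))
    · intro hw
      obtain ⟨g, hga, hgb⟩ := exists_map D (Ne.symm hw : D.a ≠ w)
      exact ⟨⟨g, hga⟩, hgb⟩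
  rw [horb, Set.ncard_compl, Set.ncard_singleton, Nat.card_eq_fintype_card (α := Ω)] at h2
  rw [← h1, ← h2]
  ring

end Cfsg.Agent.TwoPointA4
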