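import Cfsg.Agent.Lib.TwoPointA4.TauClass
import Cfsg.Agent.Lib.TwoPointA5.GWFacts
import Cfsg.Agent.Lib.GW.KleinPSL

/-!
# The quotient by the core of a group with a fused four-group as Sylow subgroup
-/

set_option autoImplicit false
set_option linter.unusedSectionVars false
set_option linter.style.haveILetI false

namespace Cfsg.Agent.TwoPointA4

open Subgroup
open scoped MatrixGroups

universe u

variable {X : Type u} [Group X] [Finite X]

instance oddCoreNormal (X : Type u) [Group X] : (Cfsg.oddCore X).Normal := by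
  unfold Cfsg.oddCore; infer_instance

theorem core_pow {o : X} (ho : o ∈ Cfsg.oddCore X) : ∃ i : ℕ, o ^ (2 * i + 1) = 1 := by
  obtain ⟨i, hi⟩ := InvChar.Core.odd_card_oddCore (G := X)
  refine ⟨i, ?_⟩
  have := pow_card_eq_one' (x := (⟨o, ho⟩ : Cfsg.oddCore X))
  rw [hi] at this
  exact congrArg Subtype.val this

/-- An element centralising `t` modulo the core lifts to the centralizer, by a factor centralised by
everything centralising the defect. -/
theorem lift_cent {t x : X} (ht : t * t = 1) (h : (x * t * x⁻¹) * t⁻¹ ∈ Cfsg.oddCore X) :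
    ∃ i ∈ Cfsg.oddCore X, Commute (i * x) t ∧
      ∀ z : X, Commute z (x * t * x⁻¹) → Commute z t → Commute z i := by
  have hti : t⁻¹ = t := inv_eq_of_mul_eq_one_left ht
  set o := t * (x * t * x⁻¹) with ho
  have hoO : o ∈ Cfsg.oddCore X := by
    have := (oddCoreNormal X).conj_mem _ h t
    rwa [show t * (x * t * x⁻¹ * t⁻¹) * t⁻¹ = t * (x * t * x⁻¹) * (t * t)⁻¹ by group, ht, inv_one,
      mul_one] at this
  -- `t` inverts `o`
  have hinv : t * o * t⁻¹ = o⁻¹ := by
    rw [ho, hti, _root_.mul_inv_rev, hti, show t * (t * (x * t * x⁻¹)) * t = (t * t) * (x * t * x⁻¹) * t by group,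
      ht, one_mul, show (x * t * x⁻¹)⁻¹ = x * t⁻¹ * x⁻¹ by group, hti]
  obtain ⟨m, hm⟩ := core_pow hoO
  set i := o ^ (m + 1) with hi
  have hii : i * i = o := by
    rw [hi, ← pow_add, show m + 1 + (m + 1) = 2 * m + 1 + 1 by omega, pow_succ, hm, one_mul]
  have hinvi : t * i * t⁻¹ = i⁻¹ := by rw [hi, ← conj_pow, hinv, inv_pow]
  refine ⟨i, pow_mem hoO _, ?_, fun z hz1 hz2 => ?_⟩
  · show i * x * t = t * (i * x)
    have e : x * t * x⁻¹ = t * (i * i) := by rw [hii, ho, ← mul_assoc, ht, one_mul]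
    calc i * x * t = i * (x * t * x⁻¹) * x := by group
      _ = (i * t) * (i * i) * x := by rw [e]; group
      _ = (t * i⁻¹) * (i * i) * x := by
        congr 2
        rw [← hinvi, hti, show t * (t * i * t) = (t * t) * (i * t) by group, ht, one_mul]
      _ = t * (i * x) := by group
  · rw [hi]
    exact ((hz2.mul_right hz1)).pow_right _

variable (S : Sylow 2 X) (hS4 : Nat.card (S : Subgroup X) = 4)
  (hsq : ∀ x ∈ (S : Subgroup X), x * x = 1)

/-- The image of the Sylow subgroup. -/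
noncomputable def sylowQuot : Sylow 2 (X ⧸ Cfsg.oddCore X) :=
  haveI := Fact.mk Nat.prime_two
  S.mapSurjective (QuotientGroup.mk'_surjective _)

theorem mem_sylowQuot {x : X} (hx : x ∈ (S : Subgroup X)) :
    (x : X ⧸ Cfsg.oddCore X) ∈ (sylowQuot S : Subgroup (X ⧸ Cfsg.oddCore X)) := ⟨x, hx, rfl⟩

include hsq in
theorem sylowQuot_inj {x y : X} (hx : x ∈ (S : Subgroup X)) (hy : y ∈ (S : Subgroup X))
    (h : (x : X ⧸ Cfsg.oddCore X) = y) : x = y := by
  obtain ⟨i, hi⟩ := core_pow (QuotientGroup.eq.1 h)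
  rw [pow_succ, pow_mul, pow_two, hsq _ (mul_mem (inv_mem hx) hy), one_pow, one_mul] at hi
  exact inv_mul_eq_one.1 hi

include hS4 hsq in
theorem sylowQuot_facts :
    Nat.card (sylowQuot S : Subgroup (X ⧸ Cfsg.oddCore X)) = 4 ∧
      ∀ x ∈ (sylowQuot S : Subgroup (X ⧸ Cfsg.oddCore X)), x * x = 1 := by
  constructor
  · rw [← hS4]
    refine (Nat.card_congr (Equiv.ofBijective
      (fun x : (S : Subgroup X) =>
        (⟨(x : X), mem_sylowQuot S x.2⟩ : (sylowQuot S : Subgroup (X ⧸ Cfsg.oddCore X))))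
      ⟨fun x y h => Subtype.ext (sylowQuot_inj S hsq x.2 y.2 (congrArg Subtype.val h)), ?_⟩)).symm
    rintro ⟨_, x, hx, rfl⟩
    exact ⟨⟨x, hx⟩, rfl⟩
  · rintro _ ⟨x, hx, rfl⟩
    rw [← map_mul, hsq x hx, map_one]

include hS4 hsq in
theorem quot_shape
    (hfus : ∃ r ∈ normalizer ((S : Subgroup X) : Set X), ∃ x ∈ (S : Subgroup X), r * x * r⁻¹ ≠ x) :
    TwoPointA5.GWFacts.FourShape (sylowQuot S) := by
  obtain ⟨h4, h2⟩ := sylowQuot_facts S hS4 hsq
  refine TwoPointA5.GWFacts.four_shape _ h4 h2 ?_ InvChar.Core.oddCore_quotient_oddCore_eq_bot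
  obtain ⟨r, hr, x, hx, hrx⟩ := hfus
  refine ⟨r, mem_normalizer_iff.2 fun y => ⟨?_, ?_⟩, x, mem_sylowQuot S hx, fun h => hrx ?_⟩
  · rintro ⟨z, hz, rfl⟩
    exact ⟨r * z * r⁻¹, (mem_normalizer_iff.1 hr z).1 hz, by simp⟩
  · rintro ⟨z, hz, hzy⟩
    refine ⟨r⁻¹ * z * r, (mem_normalizer_iff''.1 hr z).1 hz, ?_⟩
    rw [map_mul, map_mul, map_inv, hzy]
    simp [mul_assoc]
  · exact sylowQuot_inj S hsq ((mem_normalizer_iff.1 hr x).1 hx) hx (by simpa using h)

/-- The centralizer in the quotient is the image of the centralizer. -/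
theorem card_cent_quot {t : X} (ht : t * t = 1) :
    Nat.card (centralizer ({(t : X ⧸ Cfsg.oddCore X)} : Set (X ⧸ Cfsg.oddCore X))) *
      Nat.card ↥(Cfsg.oddCore X ⊓ centralizer ({t} : Set X)) = Nat.card (centralizer ({t} : Set X)) := by
  set q := (QuotientGroup.mk' (Cfsg.oddCore X)).domRestrict (centralizer ({t} : Set X))
  have hker : Nat.card q.ker = Nat.card ↥(Cfsg.oddCore X ⊓ centralizer ({t} : Set X)) :=
    Nat.card_congr
      { toFun := fun x => ⟨x.1.1, (QuotientGroup.eq_one_iff _).1 x.2, x.1.2⟩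
        invFun := fun x => ⟨⟨x.1, x.2.2⟩, (QuotientGroup.eq_one_iff _).2 x.2.1⟩ }
  have hrange : q.range = centralizer ({(t : X ⧸ Cfsg.oddCore X)} : Set (X ⧸ Cfsg.oddCore X)) := by
    refine le_antisymm ?_ fun y hy => ?_
    · rintro _ ⟨x, rfl⟩
      exact mem_centralizer_singleton_iff.2
        ((show Commute (x : X) t from mem_centralizer_singleton_iff.1 x.2).map (QuotientGroup.mk' _)).eq
    · obtain ⟨x, rfl⟩ := QuotientGroup.mk'_surjective _ y
      have hmem : x * t * x⁻¹ * t⁻¹ ∈ Cfsg.oddCore X := by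
        rw [← QuotientGroup.eq_one_iff]
        have := mem_centralizer_singleton_iff.1 hy
        show QuotientGroup.mk' _ (x * t * x⁻¹ * t⁻¹) = 1
        rw [map_mul, map_mul, map_mul, map_inv, map_inv, show QuotientGroup.mk' _ x * QuotientGroup.mk' _ t =
          QuotientGroup.mk' _ t * QuotientGroup.mk' _ x from this, mul_inv_cancel_right, mul_inv_cancel]
      obtain ⟨i, hi, hc, -⟩ := lift_cent ht hmem
      refine ⟨⟨i * x, mem_centralizer_singleton_iff.2 hc.eq⟩, ?_⟩
      show QuotientGroup.mk' _ (i * x) = _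
      rw [map_mul, show QuotientGroup.mk' _ i = 1 from (QuotientGroup.eq_one_iff i).2 hi, one_mul]
  have h := q.ker.card_mul_index
  rw [index_ker, hker, hrange] at h
  rw [← h, mul_comm]

/-- The same for the centralizer of a four-group. -/
theorem card_cent_pair_quot {t w : X} (ht : t * t = 1) (hw : w * w = 1) (htw : Commute w t) :
    Nat.card (centralizer ({(t : X ⧸ Cfsg.oddCore X), (w : X ⧸ Cfsg.oddCore X)} : Set (X ⧸ Cfsg.oddCore X))) *
      Nat.card ↥(Cfsg.oddCore X ⊓ centralizer ({t, w} : Set X)) =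
        Nat.card (centralizer ({t, w} : Set X)) := by
  have hmem2 : ∀ {Y : Type u} [Group Y] {a b x : Y},
      x ∈ centralizer ({a, b} : Set Y) ↔ Commute x a ∧ Commute x b := by
    intro Y _ a b x
    simp only [mem_centralizer_iff, Set.mem_insert_iff, Set.mem_singleton_iff, forall_eq_or_imp, forall_eq]
    exact ⟨fun h => ⟨h.1.symm, h.2.symm⟩, fun h => ⟨h.1.eq.symm, h.2.eq.symm⟩⟩
  set q := (QuotientGroup.mk' (Cfsg.oddCore X)).domRestrict (centralizer ({t, w} : Set X))
  have hker : Nat.card q.ker = Nat.card ↥(Cfsg.oddCore X ⊓ centralizer ({t, w} : Set X)) :=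
    Nat.card_congr
      { toFun := fun x => ⟨x.1.1, (QuotientGroup.eq_one_iff _).1 x.2, x.1.2⟩
        invFun := fun x => ⟨⟨x.1, x.2.2⟩, (QuotientGroup.eq_one_iff _).2 x.2.1⟩ }
  have hrange : q.range =
      centralizer ({(t : X ⧸ Cfsg.oddCore X), (w : X ⧸ Cfsg.oddCore X)} : Set (X ⧸ Cfsg.oddCore X)) := by
    refine le_antisymm ?_ fun y hy => ?_
    · rintro _ ⟨x, rfl⟩
      obtain ⟨h1, h2⟩ := hmem2.1 x.2
      exact hmem2.2 ⟨h1.map (QuotientGroup.mk' _), h2.map (QuotientGroup.mk' _)⟩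
    · obtain ⟨x, rfl⟩ := QuotientGroup.mk'_surjective _ y
      obtain ⟨hy1, hy2⟩ := hmem2.1 hy
      have hmem : ∀ (x : X) (z : X), Commute (QuotientGroup.mk' (Cfsg.oddCore X) x) (QuotientGroup.mk' _ z) →
          x * z * x⁻¹ * z⁻¹ ∈ Cfsg.oddCore X := fun x z h => by
        rw [← QuotientGroup.eq_one_iff]
        show QuotientGroup.mk' _ (x * z * x⁻¹ * z⁻¹) = 1
        rw [map_mul, map_mul, map_mul, map_inv, map_inv, h.eq, mul_inv_cancel_right, mul_inv_cancel]
      obtain ⟨i, hi, hc, -⟩ := lift_cent ht (hmem x t hy1)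
      have hq : QuotientGroup.mk' (Cfsg.oddCore X) (i * x) = QuotientGroup.mk' _ x := by
        rw [map_mul, show QuotientGroup.mk' _ i = 1 from (QuotientGroup.eq_one_iff i).2 hi, one_mul]
      obtain ⟨j, hj, hc', hz⟩ := lift_cent hw (hmem (i * x) w (by rw [hq]; exact hy2))
      have htj : Commute t j := hz t (by
        exact ((hc.symm.mul_right htw.symm).mul_right hc.symm.inv_right)) htw.symm
      refine ⟨⟨j * (i * x), hmem2.2 ⟨htj.symm.mul_left hc, hc'⟩⟩, ?_⟩
      show QuotientGroup.mk' _ (j * (i * x)) = _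
      rw [map_mul, show QuotientGroup.mk' _ j = 1 from (QuotientGroup.eq_one_iff j).2 hj, one_mul, hq]
  have h := q.ker.card_mul_index
  rw [index_ker, hker, hrange] at h
  rw [← h, mul_comm]

/-- The consequences of the case `PSL₂`: with `N` involutions, `c = |C_L(t)|`. -/
theorem psl_facts {Q : Type u} [Group Q] [Finite Q] {F : Type} [Field F] [Fintype F] {L : Subgroup Q}
    [L.Normal] (hodd : Odd (Fintype.card F)) (ε : L ≃* Matrix.ProjectiveSpecialLinearGroup (Fin 2) F)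
    (hinv : ∀ z : Q, orderOf z = 2 → z ∈ L) {t w : Q} (ht : orderOf t = 2) (hw : orderOf w = 2)
    (hne : w ≠ t) (hc : Commute w t) :
    ∃ N : ℕ, ∃ δ : ℤ, (δ = 1 ∨ δ = -1) ∧ 0 < N ∧
      Nat.card Q = N * Nat.card (centralizer ({t} : Set Q)) ∧
      2 * (N : ℤ) = (Fintype.card F : ℤ) * ((Fintype.card F : ℤ) + δ) ∧
      (Nat.card ↥(L ⊓ centralizer ({t} : Set Q)) : ℤ) = Fintype.card F - δ ∧
      4 ∣ (Fintype.card F : ℤ) - δ ∧ Nat.card L = N * Nat.card ↥(L ⊓ centralizer ({t} : Set Q)) ∧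
      (∀ x ∈ L, Commute x t → Commute x w → x = 1 ∨ x = t ∨ x = w ∨ x = t * w) := by
  classical
  have h2 := GW.ComponentPSL.two_ne_zero_of_odd hodd
  have htL := hinv t ht
  have hwL := hinv w hw
  have hεt : orderOf (ε ⟨t, htL⟩) = 2 := by rw [MulEquiv.orderOf_eq, Subgroup.orderOf_mk, ht]
  set S : Set Q := {z | orderOf z = 2} with hS
  have hconj : ∀ g : Q, orderOf (g * t * g⁻¹) = 2 := fun g => by
    rw [show g * t * g⁻¹ = MulAut.conj g t from rfl, MulEquiv.orderOf_eq, ht]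
  have htr : ∀ z ∈ S, ∃ g ∈ L, g * t * g⁻¹ = z := by
    intro z hz
    obtain ⟨g, hg⟩ := isConj_iff.1 (Forms.KleinPSL.involutions_isConj h2 _ (ε ⟨z, hinv z hz⟩) hεt
      (by rw [MulEquiv.orderOf_eq, Subgroup.orderOf_mk]; exact hz))
    obtain ⟨g', rfl⟩ := ε.surjective g
    rw [← map_inv, ← map_mul, ← map_mul, ε.injective.eq_iff] at hg
    exact ⟨g', g'.2, congrArg Subtype.val hg⟩
  have hL := card_conj_orbit L t S (fun g _ => hconj g) htr
  have hQ := card_conj_orbit (⊤ : Subgroup Q) t S (fun g _ => hconj g)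
    fun z hz => (htr z hz).imp fun g hg => ⟨mem_top g, hg.2⟩
  rw [top_inf_eq, card_top] at hQ
  have hcard : Nat.card ↥(L ⊓ centralizer ({t} : Set Q)) =
      Nat.card (centralizer ({ε ⟨t, htL⟩} : Set (Matrix.ProjectiveSpecialLinearGroup (Fin 2) F))) := by
    refine Nat.card_congr ((Equiv.trans
      { toFun := fun x => (⟨⟨x.1, x.2.1⟩, x.2.2⟩ : {z : L // (z : Q) ∈ centralizer ({t} : Set Q)})
        invFun := fun z => ⟨z.1.1, z.1.2, z.2⟩ }
      (ε.toEquiv.subtypeEquiv fun z => ?_)))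
    show (z : Q) ∈ centralizer ({t} : Set Q) ↔ ε z ∈ centralizer ({ε ⟨t, htL⟩} : Set _)
    rw [mem_centralizer_singleton_iff, mem_centralizer_singleton_iff, ← map_mul, ← map_mul,
      ε.injective.eq_iff]
    exact ⟨fun h => Subtype.ext h, congrArg Subtype.val⟩
  obtain ⟨δ, hδ, hC, h4, -⟩ := GW.KleinPSL.centralizers hodd hεt
  refine ⟨S.ncard, δ, hδ, (Set.ncard_pos (Set.toFinite _)).2 ⟨t, ht⟩, hQ, ?_, by rw [hcard]; exact hC, h4,
    hL, fun x hx h1 h1' => ?_⟩
  · have h1 := GW.KleinPSL.two_mul_card (F := F) hodd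
    rw [← Nat.card_congr ε.toEquiv, hL, hcard] at h1
    set C := Nat.card (centralizer ({ε ⟨t, htL⟩} : Set (Matrix.ProjectiveSpecialLinearGroup (Fin 2) F)))
    have hC0 : (C : ℤ) ≠ 0 := by exact_mod_cast (Nat.card_pos (α := centralizer
      ({ε ⟨t, htL⟩} : Set (Matrix.ProjectiveSpecialLinearGroup (Fin 2) F)))).ne'
    apply mul_right_cancel₀ hC0
    push_cast at h1
    rw [hC] at h1 ⊢
    rcases hδ with rfl | rfl <;> linear_combination h1
  · have hcom : ∀ {z : Q} (hz : z ∈ L), Commute x z → Commute (ε ⟨x, hx⟩) (ε ⟨z, hz⟩) :=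
      fun hz e => (show Commute (⟨x, hx⟩ : L) ⟨_, hz⟩ from Subtype.ext e.eq).map ε
    have hεw : orderOf (ε ⟨w, hwL⟩) = 2 := by rw [MulEquiv.orderOf_eq, Subgroup.orderOf_mk, hw]
    rcases PSLBinary.mem_four h2 hεt hεw (fun e => hne (congrArg Subtype.val (ε.injective e)).symm)
      ((show Commute (⟨t, htL⟩ : L) ⟨w, hwL⟩ from Subtype.ext hc.symm.eq).map ε) (hcom htL h1)
      (hcom hwL h1') with e | e | e | e
    · left; rw [MulEquiv.map_eq_one_iff] at e; exact congrArg Subtype.val e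
    · right; left; exact congrArg Subtype.val (ε.injective e)
    · right; right; left; exact congrArg Subtype.val (ε.injective e)
    · right; right; right
      rw [← map_mul] at e
      exact congrArg Subtype.val (ε.injective e)

end Cfsg.Agent.TwoPointA4
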