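import Cfsg.Agent.Lib.TwoPointA4.Local

/-!
# The induced group when only `⟨t⟩` fixes the fixed points of `t`
-/

set_option autoImplicit false
set_option linter.unusedSectionVars false
set_option linter.style.haveILetI false

namespace Cfsg.Agent.TwoPointA4

open MulAction Subgroup

universe u v

variable {G : Type u} [Group G] [Finite G] {Ω : Type v} [Fintype Ω] [MulAction G Ω]
  [FaithfulSMul G Ω] (D : Data G Ω)

/-- The induced group. -/
noncomputable abbrev Data.X : Subgroup (Equiv.Perm (TwoPointA5.FixSet Ω D.t)) := TwoPointA5.Ind Ω D.t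

/-- The fixed points of `t`. -/
abbrev Data.Ft : Type v := TwoPointA5.FixSet Ω D.t

noncomputable instance : Fintype D.Ft := Fintype.ofFinite _

/-- The image in the induced group. -/
noncomputable def Data.img : centralizer ({D.t} : Set G) →* D.X := (TwoPointA5.fixHom Ω D.t).rangeRestrict

theorem img_smul (g : centralizer ({D.t} : Set G)) (x : D.Ft) :
    ((D.img g • x : D.Ft) : Ω) = (g : G) • (x : Ω) := rfl

theorem img_surj : Function.Surjective D.img := MonoidHom.rangeRestrict_surjective _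

theorem img_eq_one (h : ¬ D.KerV) {g : centralizer ({D.t} : Set G)} :
    D.img g = 1 ↔ (g : G) = 1 ∨ (g : G) = D.t := by
  constructor
  · exact fun hg => ind_kernel D h (congrArg Subtype.val hg)
  · intro hg
    refine Subtype.ext (Equiv.ext fun x => Subtype.ext ?_)
    show (g : G) • (x : Ω) = x
    rcases hg with hg | hg <;> rw [hg]
    · exact one_smul _ _
    · exact x.2

theorem img_eq_iff (h : ¬ D.KerV) {g g' : centralizer ({D.t} : Set G)} :
    D.img g = D.img g' ↔ (g' : G) = g ∨ (g' : G) = (g : G) * D.t := by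
  rw [← inv_mul_eq_one, ← map_inv, ← map_mul, img_eq_one D h]
  simp only [coe_mul, InvMemClass.coe_inv, inv_mul_eq_iff_eq_mul, mul_one]

/-- An element of `V` in the centraliser. -/
def Data.vC {v : G} (hv : v ∈ D.V) : centralizer ({D.t} : Set G) :=
  ⟨v, mem_centralizer_singleton_iff.2 (comm_of_sq D hv.1 (t_mem D) hv.2 (t_sq D))⟩

/-- An involution of `V` different from `t`. -/
noncomputable def Data.w : G := (exists_v D).choose

theorem w_mem : D.w ∈ D.V := (exists_v D).choose_spec.1
theorem w_ne : D.w ≠ 1 := (exists_v D).choose_spec.2.1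
theorem w_ne_t : D.w ≠ D.t := (exists_v D).choose_spec.2.2
theorem w_sq : D.w * D.w = 1 := (w_mem D).2

theorem V_list {x : G} (hx : x ∈ D.V) : x = 1 ∨ x = D.t ∨ x = D.w ∨ x = D.w * D.t :=
  V_cases D (w_mem D) (w_ne D) (w_ne_t D) hx rfl

/-- The induced group has two-point stabilisers of order two. -/
noncomputable def Data.X2 (h : ¬ D.KerV) : TwoPointA5.TwoTwo D.X D.Ft where
  h2 := ind_two D
  a := ⟨D.a, (t_mem D).1⟩
  b := ⟨D.b, (t_mem D).2⟩
  hab := fun e => D.hab (congrArg Subtype.val e)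
  s := D.img (D.vC (w_mem D))
  hss := by
    rw [← map_mul]
    exact (img_eq_one D h).2 (Or.inl (w_sq D))
  hs1 := fun e => ((img_eq_one D h).1 e).elim (w_ne D) (w_ne_t D)
  hsa := Subtype.ext (w_mem D).1.1
  hsb := Subtype.ext (w_mem D).1.2
  hstab := by
    intro g ha hb
    obtain ⟨k, rfl⟩ := img_surj D g
    have hk : (k : G) ∈ D.V := by
      rw [← cent_inf_K D]
      exact ⟨k.2, congrArg Subtype.val ha, congrArg Subtype.val hb⟩
    rcases V_list D hk with e | e | e | e
    · exact Or.inl ((img_eq_one D h).2 (Or.inl e))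
    · exact Or.inl ((img_eq_one D h).2 (Or.inr e))
    · exact Or.inr (congrArg D.img (Subtype.ext e))
    · refine Or.inr ((img_eq_iff D h).2 (Or.inl ?_) |>.trans ((img_eq_iff D h).2 (Or.inr e)).symm)
      rfl

theorem X2_r (h : ¬ D.KerV) : (D.X2 h).r = D.r := by
  refine Nat.card_congr
    { toFun := fun x => ⟨(x.1 : Ω), fun v hv => ?_⟩
      invFun := fun x => ⟨⟨x.1, FV_le D x.2⟩, Subtype.ext (x.2 _ (w_mem D))⟩
      left_inv := fun _ => rfl
      right_inv := fun _ => rfl }
  have hw : D.w • (x.1 : Ω) = (x.1 : Ω) := congrArg Subtype.val x.2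
  rcases V_list D hv with rfl | rfl | rfl | rfl
  · exact one_smul _ _
  · exact x.1.2
  · exact hw
  · rw [mul_smul, x.1.2, hw]

theorem card_Ft : Fintype.card D.Ft = D.f := (Nat.card_eq_fintype_card).symm

/-- A member of the class of the induced `w` comes from a conjugate of `w` or of `w t`. -/
theorem cls_lift (h : ¬ D.KerV) {g : centralizer ({D.t} : Set G)} (hg : D.img g ∈ (D.X2 h).cls) :
    ∃ c : G, c * D.t = D.t * c ∧ ((g : G) = c * D.w * c⁻¹ ∨ (g : G) = c * (D.w * D.t) * c⁻¹) := by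
  obtain ⟨x, hx⟩ := (D.X2 h).mem_cls.1 hg
  obtain ⟨c, rfl⟩ := img_surj D x
  have hx' : D.img g = D.img (c * D.vC (w_mem D) * c⁻¹) := by rw [map_mul, map_mul, map_inv]; exact hx
  have hc : Commute (c : G) D.t := mem_centralizer_singleton_iff.1 c.2
  refine ⟨c, hc.eq, ?_⟩
  rcases (img_eq_iff D h).1 hx'.symm with e | e
  · exact Or.inl e
  · right
    rw [e, coe_mul, coe_mul, InvMemClass.coe_inv]
    show (c : G) * D.w * (c : G)⁻¹ * D.t = _
    rw [mul_assoc, hc.inv_left.eq]
    group

theorem cls_isT (h : ¬ D.KerV) {g : centralizer ({D.t} : Set G)} (hg : D.img g ∈ (D.X2 h).cls) :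
    D.IsT (g : G) ∧ D.IsT ((g : G) * D.t) := by
  have hw : D.IsT D.w := isT_of_fix D (w_sq D) (w_ne D) D.hab (w_mem D).1.1 (w_mem D).1.2
  have hwtV : D.w * D.t ∈ D.V := mul_mem (w_mem D) (t_mem_V D)
  have hwt : D.IsT (D.w * D.t) := isT_of_fix D hwtV.2 (fun e => w_ne_t D (by
    rw [← mul_one D.w, ← t_sq D, ← mul_assoc, e, one_mul])) D.hab hwtV.1.1 hwtV.1.2
  obtain ⟨c, hc, e | e⟩ := cls_lift D h hg
  · refine ⟨e ▸ isT_conj D hw c, ?_⟩
    have hc' : Commute c D.t := hc
    rw [e, mul_assoc, hc'.inv_left.eq, ← mul_assoc, mul_assoc c]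
    exact isT_conj D hwt c
  · refine ⟨e ▸ isT_conj D hwt c, ?_⟩
    have hc' : Commute c D.t := hc
    rw [e, mul_assoc, hc'.inv_left.eq, ← mul_assoc, mul_assoc c, mul_assoc D.w, t_sq, mul_one]
    exact isT_conj D hw c

end Cfsg.Agent.TwoPointA4
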