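import Cfsg.Agent.Lib.TwoPointA4.Pair
import Cfsg.Agent.Lib.TwoPointA5.Sharp
import Cfsg.Agent.Lib.TwoPointA5.TwoTwo

/-!
# The centraliser of `t` on the fixed points of `t` and of the four-group
-/

set_option autoImplicit false
set_option linter.unusedSectionVars false
set_option linter.style.haveILetI false

namespace Cfsg.Agent.TwoPointA4

open MulAction Subgroup

universe u v

variable {G : Type u} [Group G] {Ω : Type v} [MulAction G Ω]

/-- The action of a subgroup on an invariant set. -/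
def setHom (H : Subgroup G) (F : Set Ω) (hinv : ∀ g ∈ H, ∀ x ∈ F, g • x ∈ F) : H →* Equiv.Perm F where
  toFun g :=
    { toFun := fun x => ⟨(g : G) • (x : Ω), hinv g g.2 x x.2⟩
      invFun := fun x => ⟨(g : G)⁻¹ • (x : Ω), hinv _ (inv_mem g.2) x x.2⟩
      left_inv := fun _ => Subtype.ext (inv_smul_smul _ _)
      right_inv := fun _ => Subtype.ext (smul_inv_smul _ _) }
  map_one' := Equiv.ext fun x => Subtype.ext (one_smul G (x : Ω))
  map_mul' g h := Equiv.ext fun x => Subtype.ext (mul_smul (g : G) h (x : Ω))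

variable [Finite G] [Fintype Ω] [FaithfulSMul G Ω] (D : Data G Ω)

/-- The points fixed by the four-group. -/
def Data.FV : Set Ω := {x | ∀ v ∈ D.V, v • x = x}

/-- Their number. -/
noncomputable def Data.r : ℕ := Nat.card D.FV

theorem a_mem_FV : D.a ∈ D.FV := fun _ hv => hv.1.1
theorem b_mem_FV : D.b ∈ D.FV := fun _ hv => hv.1.2

theorem FV_le {x : Ω} (hx : x ∈ D.FV) : D.t • x = x := hx _ (t_mem_V D)

theorem two_le_r : 2 ≤ D.r := by
  haveI : Nontrivial D.FV :=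
    ⟨⟨D.a, a_mem_FV D⟩, ⟨D.b, b_mem_FV D⟩, fun h => D.hab (congrArg Subtype.val h)⟩
  exact Finite.one_lt_card

theorem r_le : D.r ≤ D.f :=
  Nat.card_le_card_of_injective (fun x : D.FV => (⟨x, FV_le D x.2⟩ : {x : Ω // D.t • x = x}))
    fun _ _ h => Subtype.ext (congrArg (fun z : {x : Ω // D.t • x = x} => (z : Ω)) h)

/-- The stabiliser in `C(t)` of two fixed points of `t` is conjugate to `V`. -/
theorem pair_conj {c d : Ω} (hcd : c ≠ d) (hc : D.t • c = c) (hd : D.t • d = d) :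
    ∃ h : G, h * D.t = D.t * h ∧ h • D.a = c ∧ h • D.b = d ∧
      ∀ g : G, g * D.t = D.t * g ∧ g • c = c ∧ g • d = d ↔ h⁻¹ * g * h ∈ D.V := by
  obtain ⟨h, ht, ha, hb⟩ := witt D D.hab hcd (t_mem D).1 (t_mem D).2 hc hd
  refine ⟨h, ht, ha, hb, fun g => ?_⟩
  have hc' : Commute h D.t := ht
  constructor
  · rintro ⟨hg, hgc, hgd⟩
    have hg' : Commute g D.t := hg
    rw [← cent_inf_K D]
    refine ⟨mem_centralizer_singleton_iff.2 ((hc'.inv_left.mul_left hg').mul_left hc').eq, ?_⟩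
    exact mem_K_of_fix D ha hb hgc hgd
  · intro hg
    rw [← cent_inf_K D] at hg
    have h1 : Commute (h⁻¹ * g * h) D.t := mem_centralizer_singleton_iff.1 hg.1
    have he : g = h * (h⁻¹ * g * h) * h⁻¹ := by group
    refine ⟨?_, ?_, ?_⟩
    · rw [he]; exact ((hc'.mul_left h1).mul_left hc'.inv_left).eq
    · rw [he, mul_smul, mul_smul, inv_smul_eq_iff.2 ha.symm, hg.2.1, ha]
    · rw [he, mul_smul, mul_smul, inv_smul_eq_iff.2 hb.symm, hg.2.2, hb]

/-- The stabiliser in `C(t)` of two points fixed by `V` is `V`. -/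
theorem pair_V {c d : Ω} (hcd : c ≠ d) (hc : c ∈ D.FV) (hd : d ∈ D.FV) {g : G}
    (hg : g * D.t = D.t * g) (hgc : g • c = c) (hgd : g • d = d) : g ∈ D.V := by
  obtain ⟨h, -, -, -, hmem⟩ := pair_conj D hcd (FV_le D hc) (FV_le D hd)
  have hsub : ∀ v ∈ D.V, h⁻¹ * v * h ∈ D.V := fun v hv => (hmem v).1
    ⟨comm_of_sq D hv.1 (t_mem D) hv.2 (t_sq D), hc v hv, hd v hv⟩
  -- conjugation by `h⁻¹` maps `V` onto `V`
  have hsurj : Function.Surjective (fun v : D.V => (⟨h⁻¹ * v * h, hsub v v.2⟩ : D.V)) :=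
    Finite.injective_iff_surjective.1 fun v w e =>
      Subtype.ext (mul_left_cancel (mul_right_cancel (congrArg Subtype.val e)))
  obtain ⟨⟨v, hv⟩, e⟩ := hsurj ⟨h⁻¹ * g * h, (hmem g).1 ⟨hg, hgc, hgd⟩⟩
  have := mul_left_cancel (mul_right_cancel (congrArg Subtype.val e))
  exact this ▸ hv

/-- The elements of `C(t)` preserving the fixed points of `V`. -/
def Data.N : Subgroup G := centralizer ({D.t} : Set G) ⊓ normalizer (D.V : Set G)

theorem mem_N {g : G} : g ∈ D.N ↔ g * D.t = D.t * g ∧ g ∈ normalizer (D.V : Set G) := by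
  rw [Data.N, mem_inf, mem_centralizer_singleton_iff]

theorem V_le_N : D.V ≤ D.N := fun _ hv =>
  (mem_N D).2 ⟨comm_of_sq D hv.1 (t_mem D) hv.2 (t_sq D), le_normalizer hv⟩

theorem N_inv : ∀ g ∈ D.N, ∀ x ∈ D.FV, g • x ∈ D.FV := fun g hg x hx v hv => by
  have h1 : g⁻¹ * v * g ∈ D.V := (mem_normalizer_iff''.1 ((mem_N D).1 hg).2 v).1 hv
  calc v • g • x = g • (g⁻¹ * v * g) • x := by rw [← mul_smul, ← mul_smul]; group
    _ = g • x := by rw [hx _ h1]

/-- An element of `C(t)` mapping two points fixed by `V` to such points normalises `V`. -/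
theorem mem_N_of_pair {c d : Ω} (hcd : c ≠ d) (hc : c ∈ D.FV) (hd : d ∈ D.FV) {g : G}
    (hg : g * D.t = D.t * g) (hgc : g • c ∈ D.FV) (hgd : g • d ∈ D.FV) : g ∈ D.N := by
  refine (mem_N D).2 ⟨hg, mem_normalizer_iff.2 fun v => ?_⟩
  have hg' : Commute g D.t := hg
  constructor
  · intro hv
    refine pair_V D (fun e => hcd (MulAction.injective g e)) hgc hgd
      ((hg'.mul_left (comm_of_sq D hv.1 (t_mem D) hv.2 (t_sq D))).mul_left hg'.inv_left).eq ?_ ?_
    · rw [mul_smul, mul_smul, inv_smul_smul, hc v hv]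
    · rw [mul_smul, mul_smul, inv_smul_smul, hd v hv]
  · intro hv
    have hc1 : Commute (g * v * g⁻¹) D.t := comm_of_sq D hv.1 (t_mem D) hv.2 (t_sq D)
    have hv' : Commute v D.t := by
      have := (hg'.inv_left.mul_left hc1).mul_left hg'
      rwa [show g⁻¹ * (g * v * g⁻¹) * g = v by group] at this
    refine pair_V D hcd hc hd hv'.eq ?_ ?_
    · have h := hgc _ hv
      rwa [mul_smul, mul_smul, inv_smul_smul, smul_left_cancel_iff] at h
    · have h := hgd _ hv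
      rwa [mul_smul, mul_smul, inv_smul_smul, smul_left_cancel_iff] at h

theorem witt_N {c d c' d' : Ω} (hcd : c ≠ d) (hcd' : c' ≠ d') (hc : c ∈ D.FV) (hd : d ∈ D.FV)
    (hc' : c' ∈ D.FV) (hd' : d' ∈ D.FV) : ∃ g ∈ D.N, g • c = c' ∧ g • d = d' := by
  obtain ⟨g, hg, h1, h2⟩ := witt D hcd hcd' (FV_le D hc) (FV_le D hd) (FV_le D hc') (FV_le D hd')
  exact ⟨g, mem_N_of_pair D hcd hc hd hg (h1 ▸ hc') (h2 ▸ hd'), h1, h2⟩

theorem swaps_mem_N {g : G} (hg : g * D.t = D.t * g) (hs : D.Swaps g) : g ∈ D.N :=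
  mem_N_of_pair D D.hab (a_mem_FV D) (b_mem_FV D) hg (hs.1 ▸ b_mem_FV D) (hs.2 ▸ a_mem_FV D)

theorem card_N : Nat.card D.N = 4 * (D.r * (D.r - 1)) := by
  have h := TwoPointA5.card_pairs D.N D.FV (N_inv D)
    (fun c hc d hd c' hc' d' hd' h h' => witt_N D h h' hc hd hc' hd') (a_mem_FV D) (b_mem_FV D) D.hab
  have he : D.N ⊓ (stabilizer G D.a ⊓ stabilizer G D.b) = D.V := by
    refine le_antisymm (fun g hg => ?_) (le_inf (V_le_N D) fun v hv => hv.1)
    exact pair_V D D.hab (a_mem_FV D) (b_mem_FV D) ((mem_N D).1 hg.1).1 hg.2.1 hg.2.2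
  rw [he, card_V] at h
  exact h

/-- The action of `N` on the fixed points of `V`. -/
def Data.vHom : D.N →* Equiv.Perm D.FV := setHom D.N D.FV (N_inv D)

/-- The induced group. -/
abbrev Data.A : Subgroup (Equiv.Perm D.FV) := D.vHom.range

theorem vHom_apply (g : D.N) (x : D.FV) : ((D.vHom g x : D.FV) : Ω) = (g : G) • (x : Ω) := rfl

theorem vHom_eq_one {g : D.N} : D.vHom g = 1 ↔ (g : G) ∈ D.V := by
  constructor
  · intro h
    exact pair_V D D.hab (a_mem_FV D) (b_mem_FV D) ((mem_N D).1 g.2).1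
      (congrArg Subtype.val (Equiv.ext_iff.1 h ⟨D.a, a_mem_FV D⟩))
      (congrArg Subtype.val (Equiv.ext_iff.1 h ⟨D.b, b_mem_FV D⟩))
  · exact fun h => Equiv.ext fun x => Subtype.ext (x.2 _ h)

theorem A_two : IsMultiplyPretransitive D.A D.FV 2 := by
  refine is_two_pretransitive_iff.2 fun {c d c' d'} hcd hcd' => ?_
  obtain ⟨g, hg, h1, h2⟩ := witt_N D (fun e => hcd (Subtype.ext e)) (fun e => hcd' (Subtype.ext e))
    c.2 d.2 c'.2 d'.2
  exact ⟨⟨D.vHom ⟨g, hg⟩, _, rfl⟩, Subtype.ext h1, Subtype.ext h2⟩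

theorem A_sharp : TwoPointA5.SharpModKer D.A D.FV := by
  rintro ⟨_, g, rfl⟩ x y hxy hx hy z
  have h : (g : G) ∈ D.V := pair_V D (fun e => hxy (Subtype.ext e)) x.2 y.2 ((mem_N D).1 g.2).1
    (congrArg Subtype.val hx) (congrArg Subtype.val hy)
  exact Subtype.ext (z.2 _ h)

instance : Nontrivial D.FV :=
  ⟨⟨D.a, a_mem_FV D⟩, ⟨D.b, b_mem_FV D⟩, fun h => D.hab (congrArg Subtype.val h)⟩

theorem exists_trans_FV [Fintype D.FV] : Nonempty (TwoPointA5.Translations D.A D.FV) :=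
  TwoPointA5.exists_translations (A_two D) (A_sharp D)

/-! ### the action of `N` on `V` -/

theorem V_cases {v w x : G} (hv : v ∈ D.V) (hv1 : v ≠ 1) (hvt : v ≠ D.t) (hw : w ∈ D.V)
    (hx : x = w) : x = 1 ∨ x = D.t ∨ x = v ∨ x = v * D.t := by
  classical
  subst hx
  have h4 := card_V D
  rw [← SetLike.coe_sort_coe, Nat.card_coe_set_eq] at h4
  have hset : (D.V : Set G) = {1, D.t, v, v * D.t} := by
    refine (Set.eq_of_subset_of_ncard_le ?_ ?_).symm
    · simp only [Set.insert_subset_iff, Set.singleton_subset_iff, SetLike.mem_coe]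
      exact ⟨one_mem _, t_mem_V D, hv, mul_mem hv (t_mem_V D)⟩
    · rw [h4, Set.ncard_insert_of_notMem, Set.ncard_insert_of_notMem, Set.ncard_pair]
      · exact fun h => t_ne D (mul_eq_left.1 h.symm)
      · simp only [Set.mem_insert_iff, Set.mem_singleton_iff, not_or]
        exact ⟨hvt.symm, fun h => hv1 (mul_eq_right.1 h.symm)⟩
      · simp only [Set.mem_insert_iff, Set.mem_singleton_iff, not_or]
        refine ⟨(t_ne D).symm, hv1.symm, fun h => hvt ?_⟩
        rw [← mul_one v, ← t_sq D, ← mul_assoc, ← h, one_mul]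
  have : x ∈ ({1, D.t, v, v * D.t} : Set G) := by rw [← hset]; exact hw
  simpa only [Set.mem_insert_iff, Set.mem_singleton_iff] using this

theorem exists_v : ∃ v ∈ D.V, v ≠ 1 ∧ v ≠ D.t := by
  classical
  by_contra! h
  have hsub : (D.V : Set G) ⊆ {1, D.t} := fun x hx => by
    by_cases h1 : x = 1
    · exact Or.inl h1
    · exact Or.inr (h x hx h1)
  have h1 := Set.ncard_le_ncard hsub
  have h4 := card_V D
  rw [← SetLike.coe_sort_coe, Nat.card_coe_set_eq] at h4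
  rw [h4, Set.ncard_pair (t_ne D).symm] at h1
  omega

/-- An element of `N` centralises `V` or exchanges the involutions different from `t`. -/
def Data.Cen (g : G) : Prop := ∀ v ∈ D.V, g * v * g⁻¹ = v

theorem cen_or_swap {g : G} (hg : g ∈ D.N) :
    D.Cen g ∨ ∀ v ∈ D.V, v ≠ 1 → v ≠ D.t → g * v * g⁻¹ = v * D.t := by
  obtain ⟨hgt, hgn⟩ := (mem_N D).1 hg
  have ht : g * D.t * g⁻¹ = D.t := by rw [hgt, mul_inv_cancel_right]
  obtain ⟨v, hv, hv1, hvt⟩ := exists_v D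
  have hne : g * v * g⁻¹ ≠ 1 ∧ g * v * g⁻¹ ≠ D.t := ⟨fun h => hv1 (conj_eq_one_iff.1 h),
    fun h => hvt (mul_left_cancel (mul_right_cancel (h.trans ht.symm)))⟩
  rcases V_cases D hv hv1 hvt ((mem_normalizer_iff.1 hgn v).1 hv) rfl with h | h | h | h
  · exact absurd h hne.1
  · exact absurd h hne.2
  · left
    intro w hw
    rcases V_cases D hv hv1 hvt hw rfl with rfl | rfl | rfl | rfl
    · group
    · exact ht
    · exact h
    · rw [show g * (v * D.t) * g⁻¹ = (g * v * g⁻¹) * (g * D.t * g⁻¹) by group, h, ht]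
  · right
    intro w hw hw1 hwt
    rcases V_cases D hv hv1 hvt hw rfl with rfl | rfl | rfl | rfl
    · exact absurd rfl hw1
    · exact absurd rfl hwt
    · exact h
    · rw [show g * (v * D.t) * g⁻¹ = (g * v * g⁻¹) * (g * D.t * g⁻¹) by group, h, ht, mul_assoc,
        t_sq, mul_one]

theorem cen_one : D.Cen 1 := fun v _ => by group

theorem cen_mul {g h : G} (hg : D.Cen g) (hh : D.Cen h) : D.Cen (g * h) := fun v hv => by
  rw [show g * h * v * (g * h)⁻¹ = g * (h * v * h⁻¹) * g⁻¹ by group, hh v hv, hg v hv]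

theorem cen_inv {g : G} (hg : D.Cen g) : D.Cen g⁻¹ := fun v hv => by
  conv_lhs => rw [← hg v hv]
  group

theorem cen_of_mem_V {g : G} (hg : g ∈ D.V) : D.Cen g := fun v hv => by
  rw [show g * v = v * g from comm_of_sq D hg.1 hv.1 hg.2 hv.2, mul_inv_cancel_right]

theorem cen_mul_of_not {g h : G} (hg : g ∈ D.N) (hh : h ∈ D.N) (hg' : ¬ D.Cen g) (hh' : ¬ D.Cen h) :
    D.Cen (g * h) := by
  have h1 := (cen_or_swap D hg).resolve_left hg'
  have h2 := (cen_or_swap D hh).resolve_left hh'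
  intro v hv
  by_cases hv1 : v = 1
  · rw [hv1]; group
  by_cases hvt : v = D.t
  · subst hvt
    rw [((mem_N D).1 (mul_mem hg hh)).1, mul_inv_cancel_right]
  rw [show g * h * v * (g * h)⁻¹ = g * (h * v * h⁻¹) * g⁻¹ by group, h2 v hv hv1 hvt,
    h1 _ (mul_mem hv (t_mem_V D)) (fun e => hvt (by
      rw [← mul_one v, ← t_sq D, ← mul_assoc, e, one_mul]))
      (fun e => hv1 (mul_eq_right.1 e)), mul_assoc, t_sq, mul_one]

theorem cen_conj {g y : G} (hg : g ∈ D.N) (hy : y ∈ D.N) : D.Cen (g * y * g⁻¹) ↔ D.Cen y := by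
  have key : ∀ a b : G, a ∈ D.N → b ∈ D.N → D.Cen b → D.Cen (a * b * a⁻¹) := by
    intro a b ha hb h
    by_cases hac : D.Cen a
    · exact cen_mul D (cen_mul D hac h) (cen_inv D hac)
    · refine cen_mul_of_not D (mul_mem ha hb) (inv_mem ha) (fun h' => hac ?_) fun h' => hac ?_
      · have := cen_mul D h' (cen_inv D h)
        rwa [mul_inv_cancel_right] at this
      · simpa using cen_inv D h'
  refine ⟨fun h => ?_, key g y hg hy⟩
  have := key g⁻¹ _ (inv_mem hg) (mul_mem (mul_mem hg hy) (inv_mem hg)) h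
  rwa [show g⁻¹ * (g * y * g⁻¹) * g⁻¹⁻¹ = y by group] at this

theorem cen_of_pow {g : G} (hg : g ∈ D.N) {m : ℕ} (hm : Odd m) (h : D.Cen (g ^ m)) : D.Cen g := by
  by_contra hc
  have h2 : D.Cen (g * g) := cen_mul_of_not D hg hg hc hc
  obtain ⟨i, rfl⟩ := hm
  have h3 : ∀ j : ℕ, D.Cen ((g * g) ^ j) := fun j => by
    induction j with
    | zero => rw [pow_zero]; exact cen_one D
    | succ j ih => rw [pow_succ]; exact cen_mul D ih h2
  rw [pow_succ, pow_mul, pow_two] at h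
  have := cen_mul D (cen_inv D (h3 i)) h
  rw [inv_mul_cancel_left] at this
  exact hc this

theorem cen_of_odd {g : G} (hg : g ∈ D.N) (h : Odd (orderOf g)) : D.Cen g :=
  cen_of_pow D hg h (by rw [pow_orderOf_eq_one]; exact cen_one D)

/-- Two fixed point free elements are conjugate in `N` modulo `V`. -/
theorem translation_conj {y z : G} (hy : y ∈ D.N) (hz : z ∈ D.N)
    (hyf : ∀ x ∈ D.FV, y • x ≠ x) (hzf : ∀ x ∈ D.FV, z • x ≠ x) :
    ∃ g ∈ D.N, (g * y * g⁻¹)⁻¹ * z ∈ D.V := by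
  classical
  obtain ⟨g, hg, hga, hgb⟩ := witt_N D (c := D.a) (d := y • D.a) (c' := D.a) (d' := z • D.a)
    (fun e => hyf _ (a_mem_FV D) e.symm) (fun e => hzf _ (a_mem_FV D) e.symm) (a_mem_FV D)
    (N_inv D y hy _ (a_mem_FV D)) (a_mem_FV D) (N_inv D z hz _ (a_mem_FV D))
  obtain ⟨T⟩ := exists_trans_FV D
  refine ⟨g, hg, ?_⟩
  have hm : ∀ u (hu : u ∈ D.N), (∀ x ∈ D.FV, u • x ≠ x) → (⟨D.vHom ⟨u, hu⟩, _, rfl⟩ : D.A) ∈ T.N :=
    fun u hu h => (T.mem_iff _).2 (Or.inr fun x e => h x x.2 (congrArg Subtype.val e))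
  have hgy : ∀ x ∈ D.FV, (g * y * g⁻¹) • x ≠ x := fun x hx e => by
    refine hyf (g⁻¹ • x) (N_inv D _ (inv_mem hg) x hx) ?_
    have h1 := congrArg (g⁻¹ • ·) e
    simpa only [mul_smul, inv_smul_smul] using h1
  have hgN : g * y * g⁻¹ ∈ D.N := mul_mem (mul_mem hg hy) (inv_mem hg)
  have ha : ((g * y * g⁻¹)⁻¹ * z) • D.a = D.a := by
    rw [mul_smul, ← hgb, inv_smul_eq_iff, mul_smul, mul_smul, inv_smul_eq_iff.2 hga.symm]
  have hprod : (⟨D.vHom ⟨_, mul_mem (inv_mem hgN) hz⟩, _, rfl⟩ : D.A) ∈ T.N := by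
    have e : (⟨D.vHom ⟨_, mul_mem (inv_mem hgN) hz⟩, _, rfl⟩ : D.A) =
        (⟨D.vHom ⟨_, hgN⟩, _, rfl⟩ : D.A)⁻¹ * ⟨D.vHom ⟨z, hz⟩, _, rfl⟩ :=
      Subtype.ext (show D.vHom _ = (D.vHom ⟨_, hgN⟩)⁻¹ * D.vHom ⟨z, hz⟩ by rw [← map_inv, ← map_mul]; rfl)
    rw [e]
    exact mul_mem (inv_mem (hm _ hgN hgy)) (hm _ hz hzf)
  rcases (T.mem_iff _).1 hprod with h | h
  · exact (vHom_eq_one D).1 (Equiv.ext fun x => h x)
  · exact absurd (Subtype.ext ha) (h ⟨D.a, a_mem_FV D⟩)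

/-- The fixed point free elements all centralise `V`, or none does. -/
theorem translation_cen {y z : G} (hy : y ∈ D.N) (hz : z ∈ D.N)
    (hyf : ∀ x ∈ D.FV, y • x ≠ x) (hzf : ∀ x ∈ D.FV, z • x ≠ x) (h : D.Cen y) : D.Cen z := by
  obtain ⟨g, hg, hv⟩ := translation_conj D hy hz hyf hzf
  have := cen_mul D ((cen_conj D hg hy).2 h) (cen_of_mem_V D hv)
  rwa [mul_inv_cancel_left] at this

/-! ### the action of `C(t)` on its fixed points -/

theorem ind_two : IsMultiplyPretransitive (TwoPointA5.Ind Ω D.t) (TwoPointA5.FixSet Ω D.t) 2 :=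
  TwoPointA5.ind_two_transitive fun _ _ _ _ h h' h1 h2 h3 h4 => witt D h h' h1 h2 h3 h4

/-- The four-group fixes all fixed points of `t`. -/
def Data.KerV : Prop := D.r = D.f

theorem kerV_FV (h : D.KerV) {x : Ω} (hx : D.t • x = x) : x ∈ D.FV := by
  have hbij := (Nat.bijective_iff_injective_and_card
    (fun x : D.FV => (⟨x, FV_le D x.2⟩ : {x : Ω // D.t • x = x}))).2
    ⟨fun _ _ e => Subtype.ext (congrArg (fun z : {x : Ω // D.t • x = x} => (z : Ω)) e), h⟩
  obtain ⟨y, hy⟩ := hbij.2 ⟨x, hx⟩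
  have hy' : (y : Ω) = x := congrArg (fun z : {x : Ω // D.t • x = x} => (z : Ω)) hy
  exact hy' ▸ y.2

theorem kerV_N (h : D.KerV) {g : G} (hg : g * D.t = D.t * g) : g ∈ D.N := by
  have hg' : g ∈ centralizer ({D.t} : Set G) := mem_centralizer_singleton_iff.2 hg
  exact mem_N_of_pair D D.hab (a_mem_FV D) (b_mem_FV D) hg
    (kerV_FV D h (TwoPointA5.smul_mem_fix hg' (t_mem D).1))
    (kerV_FV D h (TwoPointA5.smul_mem_fix hg' (t_mem D).2))

theorem exists_moved (h : ¬ D.KerV) :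
    ∃ x : Ω, D.t • x = x ∧ ∀ v ∈ D.V, v ≠ 1 → v ≠ D.t → v • x ≠ x := by
  have hlt : D.r < D.f := lt_of_le_of_ne (r_le D) h
  obtain ⟨x, hx, hxV⟩ : ∃ x : Ω, D.t • x = x ∧ x ∉ D.FV := by
    by_contra! hall
    refine absurd (Nat.card_le_card_of_injective
      (fun x : {x : Ω // D.t • x = x} => (⟨x, hall x x.2⟩ : D.FV)) fun _ _ e =>
        Subtype.ext (congrArg (fun z : D.FV => (z : Ω)) e)) ?_
    exact not_le.2 hlt
  refine ⟨x, hx, fun v hv hv1 hvt hvx => hxV fun w hw => ?_⟩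
  rcases V_cases D hv hv1 hvt hw rfl with rfl | rfl | rfl | rfl
  · exact one_smul _ _
  · exact hx
  · exact hvx
  · rw [mul_smul, hx, hvx]

theorem ind_kernel (h : ¬ D.KerV) {g : centralizer ({D.t} : Set G)}
    (hg : TwoPointA5.fixHom Ω D.t g = 1) : (g : G) = 1 ∨ (g : G) = D.t := by
  have hfix : ∀ x : Ω, D.t • x = x → (g : G) • x = x := fun x hx =>
    congrArg Subtype.val (Equiv.ext_iff.1 hg ⟨x, hx⟩)
  have hV : (g : G) ∈ D.V := by
    rw [← cent_inf_K D]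
    exact ⟨g.2, hfix _ (t_mem D).1, hfix _ (t_mem D).2⟩
  by_contra! hne
  obtain ⟨x, hx, hmv⟩ := exists_moved D h
  exact hmv g hV hne.1 hne.2 (hfix x hx)

end Cfsg.Agent.TwoPointA4
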