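import Cfsg.Agent.Lib.TwoPointA4.Basic
import Cfsg.Agent.Lib.TwoPointA5.Fix
import Cfsg.Agent.S2119

/-!
# The stabiliser of the pair, and the classes of involutions
-/

set_option autoImplicit false
set_option linter.unusedSectionVars false
set_option linter.style.haveILetI false

namespace Cfsg.Agent.TwoPointA4

open MulAction Subgroup

universe u v

namespace Alt

theorem center_eq : ∀ x : A4, (∀ k : A4, k * x = x * k) → x = 1 := by decide +kernel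

theorem sym_odd_sq : (Finset.univ.filter fun p : Equiv.Perm (Fin 4) =>
    p * p = 1 ∧ Equiv.Perm.sign p = -1).card = 6 := by decide +kernel

end Alt

variable {G : Type u} [Group G] [Finite G] {Ω : Type v} [Fintype Ω] [MulAction G Ω]
  [FaithfulSMul G Ω] (D : Data G Ω)

/-- The setwise stabiliser of the base pair. -/
def Data.B : Subgroup G where
  carrier := {g | (g • D.a = D.a ∧ g • D.b = D.b) ∨ (g • D.a = D.b ∧ g • D.b = D.a)}
  one_mem' := Or.inl ⟨one_smul _ _, one_smul _ _⟩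
  mul_mem' := by
    rintro g h (⟨g1, g2⟩ | ⟨g1, g2⟩) (⟨h1, h2⟩ | ⟨h1, h2⟩) <;>
      [left; right; right; left] <;>
      exact ⟨by rw [mul_smul, h1]; assumption, by rw [mul_smul, h2]; assumption⟩
  inv_mem' := by
    rintro g (⟨g1, g2⟩ | ⟨g1, g2⟩)
    · exact Or.inl ⟨inv_smul_eq_iff.2 g1.symm, inv_smul_eq_iff.2 g2.symm⟩
    · exact Or.inr ⟨inv_smul_eq_iff.2 g2.symm, inv_smul_eq_iff.2 g1.symm⟩

/-- An element exchanging the base points. -/
def Data.Swaps (g : G) : Prop := g • D.a = D.b ∧ g • D.b = D.a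

theorem K_le_B : D.K ≤ D.B := fun _ hg => Or.inl hg

theorem swaps_mem_B {g : G} (hg : D.Swaps g) : g ∈ D.B := Or.inr hg

theorem swaps_notMem_K {g : G} (hg : D.Swaps g) : g ∉ D.K :=
  fun h => D.hab (h.1.symm.trans hg.1)

theorem mem_B_cases {g : G} (hg : g ∈ D.B) : g ∈ D.K ∨ D.Swaps g := hg

theorem exists_swaps : ∃ σ : G, D.Swaps σ := exists_map D D.hab.symm

theorem swaps_mul_K {g k : G} (hg : D.Swaps g) (hk : k ∈ D.K) : D.Swaps (g * k) :=
  ⟨by rw [mul_smul, hk.1, hg.1], by rw [mul_smul, hk.2, hg.2]⟩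

theorem K_mul_swaps {g k : G} (hg : D.Swaps g) (hk : k ∈ D.K) : D.Swaps (k * g) :=
  ⟨by rw [mul_smul, hg.1, hk.2], by rw [mul_smul, hg.2, hk.1]⟩

theorem conj_mem_K {g k : G} (hg : g ∈ D.B) (hk : k ∈ D.K) : g * k * g⁻¹ ∈ D.K := by
  rcases hg with ⟨g1, g2⟩ | ⟨g1, g2⟩
  · exact ⟨show (g * k * g⁻¹) • D.a = D.a by
      rw [mul_smul, mul_smul, inv_smul_eq_iff.2 g1.symm, hk.1, g1],
      show (g * k * g⁻¹) • D.b = D.b by
      rw [mul_smul, mul_smul, inv_smul_eq_iff.2 g2.symm, hk.2, g2]⟩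
  · exact ⟨show (g * k * g⁻¹) • D.a = D.a by
      rw [mul_smul, mul_smul, inv_smul_eq_iff.2 g2.symm, hk.2, g2],
      show (g * k * g⁻¹) • D.b = D.b by
      rw [mul_smul, mul_smul, inv_smul_eq_iff.2 g1.symm, hk.1, g1]⟩

/-- An element exchanging the base points and centralising their stabiliser. -/
def Data.IsTau (τ : G) : Prop := D.Swaps τ ∧ τ * τ = 1 ∧ ∀ k ∈ D.K, k * τ = τ * k

/-- The stabiliser of the pair is the symmetric group on four letters. -/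
def Data.IsSym (Φ : D.B →* Equiv.Perm (Fin 4)) : Prop :=
  Function.Bijective Φ ∧ (∀ k : D.K, Φ ⟨k, K_le_B D k.2⟩ = (D.e k : Equiv.Perm (Fin 4))) ∧
    ∀ g : D.B, Equiv.Perm.sign (Φ g) = 1 ↔ (g : G) ∈ D.K

theorem center_K {z : G} (hz : z ∈ D.K) (h : ∀ k ∈ D.K, k * z = z * k) : z = 1 := by
  by_contra hne
  refine (ne_one_iff D hz).1 hne (Alt.center_eq _ fun k => ?_)
  obtain ⟨m, rfl⟩ := D.e.surjective k
  rw [← map_mul, ← map_mul]
  exact congrArg D.e (Subtype.ext (h m m.2))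

/-- The two shapes of the stabiliser of the pair. -/
theorem tau_or_sym : (∃ τ, D.IsTau τ) ∨ ∃ Φ : D.B →* Equiv.Perm (Fin 4), D.IsSym Φ := by
  classical
  let K' := D.K.subgroupOf D.B
  haveI : K'.Normal := ⟨fun n hn g => conj_mem_K D g.2 hn⟩
  let eK : K' ≃* Alt.A4 := (subgroupOfEquivOfLe (K_le_B D)).trans D.e
  let e4 := MulEquiv.ofBijective _ (S2119.result 4 le_rfl (by norm_num))
  let Φ : D.B →* Equiv.Perm (Fin 4) :=
    e4.symm.toMonoidHom.comp ((MulAut.congr eK).toMonoidHom.comp MulAut.conjNormal)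
  have hΦ : ∀ g : D.B, ∀ k : K', eK (MulAut.conjNormal g k) = MulAut.conjNormal (Φ g) (eK k) := by
    intro g k
    have h1 : e4 (Φ g) = (MulAut.congr eK) (MulAut.conjNormal g) := e4.apply_symm_apply _
    have h2 := congrArg (fun φ : MulAut Alt.A4 => φ (eK k)) h1
    exact (h2.trans (by simp [MulAut.congr])).symm
  have hK : ∀ k : D.K, Φ ⟨k, K_le_B D k.2⟩ = (D.e k : Equiv.Perm (Fin 4)) := fun k => e4.injective (by
    refine MulEquiv.ext fun x => ?_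
    have h2 := hΦ ⟨k, K_le_B D k.2⟩ (eK.symm x)
    rw [eK.apply_symm_apply] at h2
    refine h2.symm.trans ?_
    obtain ⟨y, rfl⟩ := eK.surjective x
    rw [eK.symm_apply_apply]
    refine Subtype.ext ?_
    have h3 : (MulAut.conjNormal (⟨k, K_le_B D k.2⟩ : D.B) y : K') =
        (⟨⟨k, K_le_B D k.2⟩, k.2⟩ : K') * y * (⟨⟨k, K_le_B D k.2⟩, k.2⟩ : K')⁻¹ := Subtype.ext rfl
    rw [h3, map_mul, map_mul, map_inv]
    rfl)
  obtain ⟨σ, hσ⟩ := exists_swaps D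
  by_cases hinj : Function.Injective Φ
  · right
    refine ⟨Φ, ⟨hinj, ?_⟩, hK, ?_⟩
    · have hlt : K' ≠ ⊤ := fun h => swaps_notMem_K D hσ (by
        have : (⟨σ, swaps_mem_B D hσ⟩ : D.B) ∈ K' := h ▸ mem_top _
        exact this)
      have h1 := K'.card_mul_index
      have h2 : K'.index ≠ 1 := fun h => hlt (index_eq_one.1 h)
      have h3 : Nat.card K' = 12 := by
        rw [Nat.card_congr (subgroupOfEquivOfLe (K_le_B D)).toEquiv, card_K]
      have h4 : K'.index ≠ 0 := index_ne_zero_of_finite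
      rw [h3] at h1
      have h5 : Nat.card (Equiv.Perm (Fin 4)) = 24 := by
        rw [Nat.card_perm, Nat.card_eq_fintype_card, Fintype.card_fin]; rfl
      have h6 := Nat.card_le_card_of_injective Φ hinj
      exact ((Nat.bijective_iff_injective_and_card Φ).2 ⟨hinj, by omega⟩).2
    · intro g
      refine ⟨fun h => ?_, fun h => ?_⟩
      · obtain ⟨k, hk⟩ := D.e.surjective ⟨Φ g, h⟩
        have hg : g = ⟨k, K_le_B D k.2⟩ := hinj (by rw [hK, hk])
        rw [hg]; exact k.2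
      · have := hK ⟨g, h⟩
        rw [show (⟨((⟨g, h⟩ : D.K) : G), _⟩ : D.B) = g from rfl] at this
        rw [this]; exact (D.e ⟨g, h⟩).2
  · left
    rw [injective_iff_map_eq_one] at hinj
    push Not at hinj
    obtain ⟨τ, hτ, hτ1⟩ := hinj
    have hcomm : ∀ k ∈ D.K, k * (τ : G) = τ * k := fun k hk => by
      have h1 := hΦ τ ⟨⟨k, K_le_B D hk⟩, hk⟩
      rw [hτ, map_one, MulAut.one_apply] at h1
      have h2 : (τ : G) * k * (τ : G)⁻¹ = k := congrArg (fun z : K' => ((z : D.B) : G)) (eK.injective h1)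
      exact (mul_inv_eq_iff_eq_mul.1 h2).symm
    rcases τ.2 with h | h
    · exact absurd (Subtype.ext (center_K D h hcomm)) hτ1
    · refine ⟨τ, h, center_K D ⟨show _ • D.a = D.a by rw [mul_smul, h.1, h.2],
        show _ • D.b = D.b by rw [mul_smul, h.2, h.1]⟩ fun k hk => ?_, hcomm⟩
      rw [← mul_assoc, hcomm k hk, mul_assoc, hcomm k hk, mul_assoc]

theorem t_moves : ∃ x : Ω, D.t • x ≠ x := by
  by_contra! h
  exact t_ne D (eq_of_smul_eq_smul (α := Ω) fun x => by rw [h x, one_smul])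

theorem f_lt : D.f < Fintype.card Ω := by
  classical
  obtain ⟨x, hx⟩ := t_moves D
  show Nat.card {x : Ω // D.t • x = x} < _
  rw [Nat.card_eq_fintype_card]
  exact Fintype.card_subtype_lt (p := fun x : Ω => D.t • x = x) hx

theorem k_pos : D.k ≠ 0 := by
  intro h
  have h1 := count D
  have h2 := f_lt D
  rw [h, zero_mul] at h1
  omega

/-- Conjugacy to `t`. -/
def Data.IsT (x : G) : Prop := ∃ g : G, g * D.t * g⁻¹ = x

theorem isT_sq {x : G} (hx : D.IsT x) : x * x = 1 := by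
  obtain ⟨g, rfl⟩ := hx
  rw [show g * D.t * g⁻¹ * (g * D.t * g⁻¹) = g * (D.t * D.t) * g⁻¹ by group, t_sq, mul_one,
    mul_inv_cancel]

theorem isT_ne_one {x : G} (hx : D.IsT x) : x ≠ 1 := by
  obtain ⟨g, rfl⟩ := hx
  exact fun h => t_ne D (conj_eq_one_iff.1 h)

theorem isT_conj {x : G} (hx : D.IsT x) (g : G) : D.IsT (g * x * g⁻¹) := by
  obtain ⟨h, rfl⟩ := hx
  exact ⟨g * h, by group⟩

theorem isT_conj_iff {x g : G} : D.IsT (g * x * g⁻¹) ↔ D.IsT x := by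
  refine ⟨fun h => ?_, fun h => isT_conj D h g⟩
  have := isT_conj D h g⁻¹
  rwa [show g⁻¹ * (g * x * g⁻¹) * g⁻¹⁻¹ = x by group] at this

theorem isT_of_fix {x : G} (hx2 : x * x = 1) (hx1 : x ≠ 1) {c d : Ω} (hcd : c ≠ d)
    (hc : x • c = c) (hd : x • d = d) : D.IsT x :=
  (exists_conj_t D hx2 hx1 hcd hc hd).imp fun _ h => h.1

theorem mem_Sw {x : G} : x ∈ D.Sw ↔ D.IsT x ∧ D.Swaps x := by
  refine ⟨fun h => ⟨h.1, h.2, ?_⟩, fun h => ⟨h.1, h.2.1⟩⟩
  rw [← h.2, ← mul_smul, isT_sq D h.1, one_smul]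

/-- An involution which is no conjugate of `t` fixes at most one point and is conjugate to an
exchange of the base points. -/
theorem invol_cases {x : G} (hx2 : x * x = 1) (hx1 : x ≠ 1) :
    D.IsT x ∨ ∃ g : G, D.Swaps (g⁻¹ * x * g) := by
  obtain ⟨c, hc⟩ : ∃ c : Ω, x • c ≠ c := by
    by_contra! h
    exact hx1 (eq_of_smul_eq_smul (α := Ω) fun c => by rw [h c, one_smul])
  obtain ⟨g, hga, hgb⟩ := exists_map D (Ne.symm hc)
  refine Or.inr ⟨g, ?_, ?_⟩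
  · rw [mul_smul, mul_smul, hga, ← hgb, inv_smul_smul]
  · rw [mul_smul, mul_smul, hgb, ← mul_smul x, hx2, one_smul, ← hga, inv_smul_smul]

section Sym

variable {Φ : D.B →* Equiv.Perm (Fin 4)} (hΦ : D.IsSym Φ)

include hΦ in
theorem sym_sign {g : G} (hg : D.Swaps g) : Equiv.Perm.sign (Φ ⟨g, swaps_mem_B D hg⟩) = -1 :=
  (Int.units_eq_one_or _).resolve_left fun h => swaps_notMem_K D hg ((hΦ.2.2 _).1 h)

include hΦ in
theorem sym_swaps {g : D.B} (hg : Equiv.Perm.sign (Φ g) = -1) : D.Swaps (g : G) :=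
  (mem_B_cases D g.2).resolve_left fun h => by
    rw [(hΦ.2.2 g).2 h] at hg
    exact absurd hg (by decide)

include hΦ in
theorem swappers_conj {x y : G} (hx : D.Swaps x) (hy : D.Swaps y) (hx2 : x * x = 1) (hy2 : y * y = 1) :
    ∃ k ∈ D.K, k * x * k⁻¹ = y := by
  have hsq : ∀ {z : G} (hz : D.Swaps z), z * z = 1 →
      Φ ⟨z, swaps_mem_B D hz⟩ * Φ ⟨z, swaps_mem_B D hz⟩ = 1 := fun hz h => by
    rw [← map_mul, ← map_one Φ]; exact congrArg Φ (Subtype.ext h)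
  obtain ⟨k, hk⟩ := Alt.swap_conj _ _ (hsq hx hx2) (sym_sign D hΦ hx) (hsq hy hy2) (sym_sign D hΦ hy)
  refine ⟨(D.e.symm k : G), (D.e.symm k).2, ?_⟩
  have h : (⟨_, K_le_B D (D.e.symm k).2⟩ : D.B) * ⟨x, swaps_mem_B D hx⟩ *
      (⟨_, K_le_B D (D.e.symm k).2⟩ : D.B)⁻¹ = ⟨y, swaps_mem_B D hy⟩ := by
    apply hΦ.1.1
    rw [map_mul, map_mul, map_inv, hΦ.2.1, MulEquiv.apply_symm_apply, hk]
  exact congrArg Subtype.val h

include hΦ in
/-- With the symmetric group every involution is a conjugate of `t`. -/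
theorem sym_isT {x : G} (hx2 : x * x = 1) (hx1 : x ≠ 1) : D.IsT x := by
  rcases invol_cases D hx2 hx1 with h | ⟨g, hg⟩
  · exact h
  have hne : D.Sw.Nonempty := Set.nonempty_of_ncard_ne_zero (k_pos D)
  obtain ⟨y, hy⟩ := hne
  obtain ⟨hyT, hys⟩ := (mem_Sw D).1 hy
  obtain ⟨k, -, hk⟩ := swappers_conj D hΦ hys hg (isT_sq D hyT)
    (by rw [show g⁻¹ * x * g * (g⁻¹ * x * g) = g⁻¹ * (x * x) * g by group, hx2]; group)
  have h1 := isT_conj D hyT k
  rw [hk] at h1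
  have h2 := isT_conj D h1 g
  rwa [show g * (g⁻¹ * x * g) * g⁻¹ = x by group] at h2

include hΦ in
theorem sym_k : D.k = 6 := by
  classical
  let f : D.Sw ≃ {p : Equiv.Perm (Fin 4) // p * p = 1 ∧ Equiv.Perm.sign p = -1} :=
    { toFun := fun x => ⟨Φ ⟨x, swaps_mem_B D ((mem_Sw D).1 x.2).2⟩, by
        rw [← map_mul, ← map_one Φ]
        exact congrArg Φ (Subtype.ext (isT_sq D ((mem_Sw D).1 x.2).1)),
        sym_sign D hΦ ((mem_Sw D).1 x.2).2⟩
      invFun := fun p => ⟨((MulEquiv.ofBijective Φ hΦ.1).symm p.1 : G), by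
        set g := (MulEquiv.ofBijective Φ hΦ.1).symm p.1 with hg
        have hp : Φ g = p.1 := (MulEquiv.ofBijective Φ hΦ.1).apply_symm_apply p.1
        have hgs : D.Swaps (g : G) := sym_swaps D hΦ (by rw [hp]; exact p.2.2)
        refine (mem_Sw D).2 ⟨sym_isT D hΦ ?_ fun h => ?_, hgs⟩
        · have : g * g = 1 := hΦ.1.1 (by rw [map_mul, hp, map_one]; exact p.2.1)
          exact congrArg Subtype.val this
        · exact D.hab (by simpa [h] using hgs.1)⟩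
      left_inv := fun x => Subtype.ext (congrArg (fun g : D.B => (g : G))
        ((MulEquiv.ofBijective Φ hΦ.1).symm_apply_apply ⟨x, swaps_mem_B D ((mem_Sw D).1 x.2).2⟩))
      right_inv := fun p => Subtype.ext ((MulEquiv.ofBijective Φ hΦ.1).apply_symm_apply p.1) }
  rw [Data.k, ← Nat.card_coe_set_eq, Nat.card_congr f, Nat.card_eq_fintype_card, Fintype.card_subtype]
  exact Alt.sym_odd_sq

include hΦ in
theorem sym_deg : Fintype.card Ω = D.f * (2 * D.f - 1) := by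
  have h1 := count D
  rw [sym_k D hΦ] at h1
  have h2 := f_lt D
  have h3 := two_le_f D
  obtain ⟨m, hm⟩ : ∃ m, D.f = m + 2 := ⟨D.f - 2, by omega⟩
  rw [hm] at h1 h2 ⊢
  rw [show m + 2 - 1 = m + 1 by omega] at h1
  rw [show 2 * (m + 2) - 1 = 2 * m + 3 by omega]
  have h5 : (m + 2) * (2 * m + 3) = 2 * ((m + 2) * (m + 1)) + (m + 2) := by ring
  omega

end Sym

section Tau

variable {τ : G} (hτ : D.IsTau τ)

include hτ in
theorem tau_ne_one : τ ≠ 1 := fun h => D.hab (by simpa [h] using hτ.1.1)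

include hτ in
/-- The involutions exchanging the base points are the `τ v`, `v ∈ V`. -/
theorem tau_swappers {x : G} : D.Swaps x ∧ x * x = 1 ↔ ∃ v ∈ D.V, x = τ * v := by
  constructor
  · rintro ⟨hx, hx2⟩
    have hv : τ * x ∈ D.K :=
      ⟨show _ • D.a = D.a by rw [mul_smul, hx.1, hτ.1.2], show _ • D.b = D.b by rw [mul_smul, hx.2, hτ.1.1]⟩
    refine ⟨τ * x, ⟨hv, ?_⟩, by rw [← mul_assoc, hτ.2.1, one_mul]⟩
    have h1 := hτ.2.2 _ hv
    calc τ * x * (τ * x) = (τ * x * τ) * x := by group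
      _ = τ * (τ * x) * x := by rw [h1]
      _ = (τ * τ) * (x * x) := by group
      _ = 1 := by rw [hτ.2.1, hx2, one_mul]
  · rintro ⟨v, ⟨hv, hv2⟩, rfl⟩
    refine ⟨swaps_mul_K D hτ.1 hv, ?_⟩
    have h1 := hτ.2.2 _ hv
    calc τ * v * (τ * v) = τ * (v * τ) * v := by group
      _ = (τ * τ) * (v * v) := by rw [h1]; group
      _ = 1 := by rw [hτ.2.1, hv2, one_mul]

include hτ in
theorem tau_mul_conj {v w : G} (hv : v ∈ D.V) (hv1 : v ≠ 1) (hw : w ∈ D.V) (hw1 : w ≠ 1) :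
    ∃ k ∈ D.K, k * (τ * v) * k⁻¹ = τ * w := by
  obtain ⟨k, hk, hkv⟩ := conj_in_K D hv.1 hw.1 hv.2 hw.2 hv1 hw1
  refine ⟨k, hk, ?_⟩
  rw [← hkv, ← mul_assoc k, hτ.2.2 k hk]
  group

include hτ in
theorem tau_isT_mul {v w : G} (hv : v ∈ D.V) (hv1 : v ≠ 1) (hw : w ∈ D.V) (hw1 : w ≠ 1)
    (h : D.IsT (τ * v)) : D.IsT (τ * w) := by
  obtain ⟨k, -, hk⟩ := tau_mul_conj D hτ hv hv1 hw hw1
  exact hk ▸ isT_conj D h k

include hτ in
theorem Sw_eq : D.Sw = (fun v => τ * v) '' {v | v ∈ D.V ∧ D.IsT (τ * v)} := by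
  ext x
  constructor
  · intro hx
    obtain ⟨hxT, hxs⟩ := (mem_Sw D).1 hx
    obtain ⟨v, hv, rfl⟩ := (tau_swappers D hτ).1 ⟨hxs, isT_sq D hxT⟩
    exact ⟨v, ⟨hv, hxT⟩, rfl⟩
  · rintro ⟨v, ⟨hv, hvT⟩, rfl⟩
    exact (mem_Sw D).2 ⟨hvT, ((tau_swappers D hτ).2 ⟨v, hv, rfl⟩).1⟩

include hτ in
theorem k_eq_ncard : D.k = {v | v ∈ D.V ∧ D.IsT (τ * v)}.ncard := by
  rw [Data.k, Sw_eq D hτ, Set.ncard_image_of_injective _ (mul_right_injective τ)]

include hτ in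
theorem k_of_not (h : ¬ D.IsT τ) : D.k = 3 ∧ ∀ v ∈ D.V, v ≠ 1 → D.IsT (τ * v) := by
  have hall : ∀ v ∈ D.V, v ≠ 1 → D.IsT (τ * v) := by
    obtain ⟨v, hv, hvT⟩ : {v | v ∈ D.V ∧ D.IsT (τ * v)}.Nonempty :=
      Set.nonempty_of_ncard_ne_zero (k_eq_ncard D hτ ▸ k_pos D)
    have hv1 : v ≠ 1 := fun e => h (by rw [e, mul_one] at hvT; exact hvT)
    exact fun w hw hw1 => tau_isT_mul D hτ hv hv1 hw hw1 hvT
  refine ⟨?_, hall⟩
  rw [k_eq_ncard D hτ]
  have he : {v | v ∈ D.V ∧ D.IsT (τ * v)} = (D.V : Set G) \ {1} := by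
    ext v
    simp only [Set.mem_ofPred_eq, Set.mem_sdiff, SetLike.mem_coe, Set.mem_singleton_iff]
    exact ⟨fun hv => ⟨hv.1, fun e => h (by simpa [e] using hv.2)⟩, fun hv => ⟨hv.1, hall v hv.1 hv.2⟩⟩
  have h4 := card_V D
  rw [← SetLike.coe_sort_coe, Nat.card_coe_set_eq] at h4
  rw [he, Set.ncard_sdiff_singleton_of_mem (one_mem D.V), h4]

include hτ in
theorem k_of_isT (h : D.IsT τ) :
    (D.k = 4 ∧ ∀ v ∈ D.V, D.IsT (τ * v)) ∨ (D.k = 1 ∧ ∀ v ∈ D.V, v ≠ 1 → ¬ D.IsT (τ * v)) := by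
  by_cases he : ∃ v ∈ D.V, v ≠ 1 ∧ D.IsT (τ * v)
  · obtain ⟨v, hv, hv1, hvT⟩ := he
    have hall : ∀ w ∈ D.V, D.IsT (τ * w) := fun w hw => by
      by_cases hw1 : w = 1
      · rw [hw1, mul_one]; exact h
      · exact tau_isT_mul D hτ hv hv1 hw hw1 hvT
    refine Or.inl ⟨?_, hall⟩
    rw [k_eq_ncard D hτ, ← card_V D, ← SetLike.coe_sort_coe, Nat.card_coe_set_eq]
    congr 1
    ext w
    exact ⟨fun hw => hw.1, fun hw => ⟨hw, hall w hw⟩⟩
  · push Not at he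
    refine Or.inr ⟨?_, he⟩
    rw [k_eq_ncard D hτ, Set.ncard_eq_one]
    refine ⟨1, ?_⟩
    ext w
    simp only [Set.mem_ofPred_eq, Set.mem_singleton_iff]
    exact ⟨fun hw => by_contra fun hw1 => he w hw.1 hw1 hw.2, fun hw => hw ▸ ⟨one_mem _, by rwa [mul_one]⟩⟩

include hτ in
/-- An involution is a conjugate of `t`, of `τ`, or of `τ t`. -/
theorem tau_classes {x : G} (hx2 : x * x = 1) (hx1 : x ≠ 1) :
    D.IsT x ∨ (∃ g : G, g * τ * g⁻¹ = x) ∨ ∃ g : G, g * (τ * D.t) * g⁻¹ = x := by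
  rcases invol_cases D hx2 hx1 with h | ⟨g, hg⟩
  · exact Or.inl h
  obtain ⟨v, hv, hgv⟩ := (tau_swappers D hτ).1 ⟨hg,
    by rw [show g⁻¹ * x * g * (g⁻¹ * x * g) = g⁻¹ * (x * x) * g by group, hx2]; group⟩
  right
  by_cases hv1 : v = 1
  · left
    exact ⟨g, by rw [hv1, mul_one] at hgv; rw [← hgv]; group⟩
  · right
    obtain ⟨k, -, hk⟩ := tau_mul_conj D hτ (t_mem_V D) (t_ne D) hv hv1
    refine ⟨g * k, ?_⟩
    rw [show g * k * (τ * D.t) * (g * k)⁻¹ = g * (k * (τ * D.t) * k⁻¹) * g⁻¹ by group, hk, ← hgv]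
    group

end Tau

/-! ### the centraliser of `t` -/

theorem cent_inf_K : centralizer ({D.t} : Set G) ⊓ D.K = D.V := by
  ext x
  simp only [mem_inf, mem_centralizer_singleton_iff, mem_V]
  constructor
  · rintro ⟨hc, hx⟩
    exact ⟨hx, sq_of_commute D (t_mem D) hx (t_sq D) (t_ne D) hc⟩
  · rintro ⟨hx, hx2⟩
    exact ⟨comm_of_sq D hx (t_mem D) hx2 (t_sq D), hx⟩

theorem V_le_cent {v : G} (hv : v ∈ D.V) : D.V ≤ centralizer ({v} : Set G) := fun x hx =>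
  mem_centralizer_singleton_iff.2 (comm_of_sq D hx.1 hv.1 hx.2 hv.2)

/-- Witt's lemma. -/
theorem witt {c d c' d' : Ω} (hcd : c ≠ d) (hcd' : c' ≠ d') (hc : D.t • c = c) (hd : D.t • d = d)
    (hc' : D.t • c' = c') (hd' : D.t • d' = d') :
    ∃ g : G, g * D.t = D.t * g ∧ g • c = c' ∧ g • d = d' := by
  refine TwoPointA5.exists_commute_map D.h2 hcd hcd' hc hd hc' hd' fun u huc hud hu => ?_
  obtain ⟨g, hg⟩ := hu
  have hu2 : u * u = 1 := isT_sq D ⟨g, hg⟩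
  have hu1 : u ≠ 1 := isT_ne_one D ⟨g, hg⟩
  obtain ⟨m₁, hm₁, hma₁, hmb₁⟩ := exists_conj_t D hu2 hu1 hcd huc hud
  obtain ⟨m₂, hm₂, hma₂, hmb₂⟩ := exists_conj_t D (t_sq D) (t_ne D) hcd hc hd
  refine ⟨m₁ * m₂⁻¹, ?_, ?_, ?_⟩
  · rw [mul_smul, inv_smul_eq_iff.2 hma₂.symm, hma₁]
  · rw [mul_smul, inv_smul_eq_iff.2 hmb₂.symm, hmb₁]
  · rw [show m₁ * m₂⁻¹ * D.t * (m₁ * m₂⁻¹)⁻¹ = m₁ * (m₂⁻¹ * D.t * m₂) * m₁⁻¹ by group,
      show m₂⁻¹ * D.t * m₂ = D.t by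
        calc _ = m₂⁻¹ * (m₂ * D.t * m₂⁻¹) * m₂ := by rw [hm₂]
          _ = D.t := by group,
      hm₁]

theorem card_cent : Nat.card (centralizer ({D.t} : Set G)) = 4 * (D.f * (D.f - 1)) := by
  classical
  rw [TwoPointA5.card_pairs (centralizer ({D.t} : Set G)) {x | D.t • x = x} (fun g hg x hx => ?_)
    (fun c hc d hd c' hc' d' hd' h h' => ?_) (t_mem D).1 (t_mem D).2 D.hab,
    show centralizer ({D.t} : Set G) ⊓ (stabilizer G D.a ⊓ stabilizer G D.b) = D.V from cent_inf_K D,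
    card_V]
  · rfl
  · exact TwoPointA5.smul_mem_fix hg hx
  · obtain ⟨g, hg, h1, h2⟩ := witt D h h' hc hd hc' hd'
    exact ⟨g, mem_centralizer_singleton_iff.2 hg, h1, h2⟩

theorem card_cent_of_isT {x : G} (hx : D.IsT x) :
    Nat.card (centralizer ({x} : Set G)) = 4 * (D.f * (D.f - 1)) := by
  obtain ⟨g, rfl⟩ := hx
  rw [← card_cent D]
  refine (Nat.card_congr ((MulAut.conj g).toEquiv.subtypeEquiv fun y => ?_)).symm
  show y ∈ centralizer ({D.t} : Set G) ↔ MulAut.conj g y ∈ centralizer ({g * D.t * g⁻¹} : Set G)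
  rw [mem_centralizer_singleton_iff, mem_centralizer_singleton_iff, ← MulAut.conj_apply, ← map_mul,
    ← map_mul, (MulAut.conj g).injective.eq_iff]

end Cfsg.Agent.TwoPointA4
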