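import Cfsg.Agent.Lib.TwoPointA4.Trans
import Cfsg.Agent.Lib.TwoPointA4.FourQuot
import Cfsg.Agent.Lib.Jordan4.KleinCount

/-!
# The point stabiliser in even degree
-/

set_option autoImplicit false
set_option linter.unusedSectionVars false
set_option linter.style.haveILetI false

namespace Cfsg.Agent.TwoPointA4

open MulAction Subgroup

universe u v

variable {G : Type u} [Group G] [Finite G] {Ω : Type v} [Fintype Ω] [MulAction G Ω]
  [FaithfulSMul G Ω] (D : Data G Ω)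

/-- The point stabiliser. -/
abbrev Data.G0 : Subgroup G := stabilizer G D.a

theorem V_le_G0 : D.V ≤ D.G0 := fun _ hv => hv.1.1

/-- `t` in the point stabiliser. -/
noncomputable def Data.tX : D.G0 := ⟨D.t, V_le_G0 D (t_mem_V D)⟩

/-- `w` in the point stabiliser. -/
noncomputable def Data.wX : D.G0 := ⟨D.w, V_le_G0 D (w_mem D)⟩

theorem tX_sq : D.tX * D.tX = 1 := Subtype.ext (t_sq D)
theorem wX_sq : D.wX * D.wX = 1 := Subtype.ext (w_sq D)
theorem tX_ne : D.tX ≠ 1 := fun h => t_ne D (congrArg Subtype.val h)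
theorem wX_ne : D.wX ≠ 1 := fun h => w_ne D (congrArg Subtype.val h)
theorem wX_ne_tX : D.wX ≠ D.tX := fun h => w_ne_t D (congrArg Subtype.val h)

theorem wX_comm : Commute D.wX D.tX :=
  Subtype.ext (comm_of_sq D (w_mem D).1 (t_mem D) (w_sq D) (t_sq D))

theorem card_G0 : Nat.card D.G0 = 12 * (Fintype.card Ω - 1) := by
  haveI := D.h2
  haveI : IsPretransitive G Ω := isPretransitive_of_is_two_pretransitive
  have h1 := D.G0.card_mul_index
  rw [index_stabilizer_of_transitive, Nat.card_eq_fintype_card (α := Ω), card_G D] at h1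
  refine Nat.eq_of_mul_eq_mul_right (Fintype.card_pos_iff.2 ⟨D.a⟩) ?_
  rw [h1]
  ring

theorem exists_partner {x : Ω} (_hx : D.t • x = x) :
    ∃ y : Ω, y ≠ x ∧ D.t • y = y ∧ y ∈ D.FV := by
  by_cases h : x = D.a
  · exact ⟨D.b, h ▸ D.hab.symm, (t_mem D).2, b_mem_FV D⟩
  · exact ⟨D.a, Ne.symm h, (t_mem D).1, a_mem_FV D⟩

theorem card_cent_G0 : Nat.card ↥(centralizer ({D.t} : Set G) ⊓ D.G0) = 4 * (D.f - 1) := by
  set C := centralizer ({D.t} : Set G)
  have h1 := (stabilizer C D.a).card_mul_index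
  have horb : orbit C D.a = {x : Ω | D.t • x = x} := by
    ext x
    constructor
    · rintro ⟨g, rfl⟩
      exact TwoPointA5.smul_mem_fix g.2 (t_mem D).1
    · intro hx
      obtain ⟨y, hyx, hy, -⟩ := exists_partner D hx
      obtain ⟨g, hg, hga, -⟩ := witt D D.hab hyx.symm (t_mem D).1 (t_mem D).2 hx hy
      exact ⟨⟨g, mem_centralizer_singleton_iff.2 hg⟩, hga⟩
  have hst : Nat.card (stabilizer C D.a) = Nat.card ↥(C ⊓ D.G0) :=
    Nat.card_congr
      { toFun := fun x => ⟨x.1.1, x.1.2, x.2⟩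
        invFun := fun x => ⟨⟨x.1, x.2.1⟩, x.2.2⟩ }
  rw [index_stabilizer, horb, hst, card_cent D, ← Nat.card_coe_set_eq] at h1
  have h2 : Nat.card ↥{x : Ω | D.t • x = x} = D.f := rfl
  rw [h2] at h1
  refine Nat.eq_of_mul_eq_mul_right (show 0 < D.f by have := two_le_f D; omega) ?_
  rw [h1]
  ring

theorem card_N_G0 : Nat.card ↥(D.N ⊓ D.G0) = 4 * (D.r - 1) := by
  have h1 := (stabilizer D.N D.a).card_mul_index
  have horb : orbit D.N D.a = D.FV := by
    ext x
    constructor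
    · rintro ⟨g, rfl⟩
      exact N_inv D g g.2 _ (a_mem_FV D)
    · intro hx
      obtain ⟨y, hyx, -, hy⟩ := exists_partner D (FV_le D hx)
      obtain ⟨g, hg, hga, -⟩ := witt_N D D.hab hyx.symm (a_mem_FV D) (b_mem_FV D) hx hy
      exact ⟨⟨g, hg⟩, hga⟩
  have hst : Nat.card (stabilizer D.N D.a) = Nat.card ↥(D.N ⊓ D.G0) :=
    Nat.card_congr
      { toFun := fun x => ⟨x.1.1, x.1.2, x.2⟩
        invFun := fun x => ⟨⟨x.1, x.2.1⟩, x.2.2⟩ }
  rw [index_stabilizer, horb, hst, card_N D, ← Nat.card_coe_set_eq] at h1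
  have h2 : Nat.card ↥D.FV = D.r := rfl
  rw [h2] at h1
  refine Nat.eq_of_mul_eq_mul_right (show 0 < D.r by have := two_le_r D; omega) ?_
  rw [h1]
  ring

theorem cen_of_N_G0 (hev : Even D.r) {g : G} (hg : g ∈ D.N ⊓ D.G0) : D.Cen g := by
  set M := D.N ⊓ D.G0
  have hVM : D.V ≤ M := le_inf (V_le_N D) (V_le_G0 D)
  haveI : (D.V.subgroupOf M).Normal := ⟨fun v hv x =>
    (mem_normalizer_iff.1 ((mem_N D).1 x.2.1).2 v).1 hv⟩
  have h1 := (D.V.subgroupOf M).card_mul_index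
  rw [Nat.card_congr (subgroupOfEquivOfLe hVM).toEquiv, card_V, card_N_G0] at h1
  have hidx : (D.V.subgroupOf M).index = D.r - 1 := by omega
  have hmem := (D.V.subgroupOf M).pow_index_mem ⟨g, hg⟩
  rw [hidx] at hmem
  have h2 := two_le_r D
  exact cen_of_pow D hg.1 (Nat.Even.sub_odd (by omega) hev odd_one) (cen_of_mem_V D hmem)

theorem card_cent_tX : Nat.card (centralizer ({D.tX} : Set D.G0)) = 4 * (D.f - 1) := by
  rw [← card_cent_G0 D]
  exact Nat.card_congr
    { toFun := fun x => ⟨x.1.1, mem_centralizer_singleton_iff.2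
        (congrArg Subtype.val (mem_centralizer_singleton_iff.1 x.2)), x.1.2⟩
      invFun := fun x => ⟨⟨x.1, x.2.2⟩, mem_centralizer_singleton_iff.2
        (Subtype.ext (mem_centralizer_singleton_iff.1 x.2.1))⟩ }

theorem mem_cent_pair {Y : Type u} [Group Y] {a b x : Y} :
    x ∈ centralizer ({a, b} : Set Y) ↔ Commute x a ∧ Commute x b := by
  simp only [mem_centralizer_iff, Set.mem_insert_iff, Set.mem_singleton_iff, forall_eq_or_imp, forall_eq]
  exact ⟨fun h => ⟨h.1.symm, h.2.symm⟩, fun h => ⟨h.1.eq.symm, h.2.eq.symm⟩⟩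

theorem commute_wX_iff (hev : Even D.r) {x : D.G0} (hx : Commute x D.tX) :
    Commute x D.wX ↔ (x : G) ∈ D.N := by
  have ht : Commute (x : G) D.t := congrArg Subtype.val hx
  constructor
  · intro hw
    have hw' : Commute (x : G) D.w := congrArg Subtype.val hw
    refine (mem_N D).2 ⟨ht.eq, centralizer_le_normalizer _ (mem_centralizer_iff.2 fun v hv => ?_)⟩
    rcases V_list D hv with rfl | rfl | rfl | rfl
    · rw [one_mul, mul_one]
    · exact ht.eq.symm
    · exact hw'.eq.symm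
    · exact (hw'.mul_right ht).eq.symm
  · intro hN
    exact Subtype.ext (mul_inv_eq_iff_eq_mul.1 (cen_of_N_G0 D hev ⟨hN, x.2⟩ _ (w_mem D)))

theorem card_cent_pairX (hev : Even D.r) :
    Nat.card (centralizer ({D.tX, D.wX} : Set D.G0)) = 4 * (D.r - 1) := by
  rw [← card_N_G0 D]
  refine Nat.card_congr
    { toFun := fun x => ⟨x.1.1, ?_, x.1.2⟩
      invFun := fun x => ⟨⟨x.1, x.2.2⟩, ?_⟩ }
  · obtain ⟨h1, h2⟩ := mem_cent_pair.1 x.2
    exact (commute_wX_iff D hev h1).1 h2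
  · have h1 : Commute (⟨x.1, x.2.2⟩ : D.G0) D.tX := Subtype.ext ((mem_N D).1 x.2.1).1
    exact mem_cent_pair.2 ⟨h1, (commute_wX_iff D hev h1).2 x.2.1⟩

theorem cent_tX_of_kerV (h : D.KerV) (hev : Even D.r) {x : D.G0} (hx : Commute x D.tX) :
    Commute x D.wX :=
  (commute_wX_iff D hev hx).2 (kerV_N D h (congrArg Subtype.val hx))

/-- A Sylow 2-subgroup of the stabiliser, with its fusion, and the counts inside it. -/
theorem stab_facts (hf : Even D.f) (hn : Fintype.card Ω = D.f * D.f) :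
    ∃ S : Sylow 2 D.G0, Nat.card (S : Subgroup D.G0) = 4 ∧ (∀ x ∈ (S : Subgroup D.G0), x * x = 1) ∧
      D.tX ∈ (S : Subgroup D.G0) ∧ D.wX ∈ (S : Subgroup D.G0) ∧
      (∀ x ∈ (S : Subgroup D.G0), x = 1 ∨ x = D.tX ∨ x = D.wX ∨ x = D.tX * D.wX) ∧
      (∃ k ∈ normalizer ((S : Subgroup D.G0) : Set D.G0), k * D.tX * k⁻¹ = D.wX) ∧
      Nat.card ↥(Cfsg.oddCore D.G0) *
          Nat.card ↥(Cfsg.oddCore D.G0 ⊓ centralizer ({D.tX, D.wX} : Set D.G0)) ^ 2 =
        Nat.card ↥(Cfsg.oddCore D.G0 ⊓ centralizer ({D.tX} : Set D.G0)) ^ 3 := by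
  haveI := Fact.mk Nat.prime_two
  have h2 := two_le_f D
  have hnodd : Odd (Fintype.card Ω - 1) := by
    rw [hn]
    exact Nat.Even.sub_odd (Nat.mul_pos (by omega) (by omega)) (hf.mul_left _) odd_one
  have hfac : (Nat.card D.G0).factorization 2 = 2 := by
    have ho : Odd (3 * (Fintype.card Ω - 1)) := (show Odd 3 by decide).mul hnodd
    rw [card_G0, show 12 * (Fintype.card Ω - 1) = 2 ^ 2 * (3 * (Fintype.card Ω - 1)) by ring,
      Nat.factorization_mul (by norm_num) (fun e => by simp [e] at ho), Finsupp.add_apply,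
      Nat.Prime.factorization_pow Nat.prime_two, Finsupp.single_eq_same,
      Nat.factorization_eq_zero_of_not_dvd (fun hd => Nat.not_even_iff_odd.2 ho (even_iff_two_dvd.2 hd)),
      add_zero]
  have hS4 : Nat.card (D.V.subgroupOf D.G0) = 4 := by
    rw [Nat.card_congr (subgroupOfEquivOfLe (V_le_G0 D)).toEquiv, card_V]
  let S : Sylow 2 D.G0 := Sylow.ofCard (D.V.subgroupOf D.G0) (by rw [hS4, hfac]; rfl)
  refine ⟨S, hS4, fun x hx => Subtype.ext (mem_subgroupOf.1 hx).2, mem_subgroupOf.2 (t_mem_V D),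
    mem_subgroupOf.2 (w_mem D), ?_, ?_, ?_⟩
  · intro x hx
    rcases V_list D (mem_subgroupOf.1 hx) with h | h | h | h
    · exact Or.inl (Subtype.ext h)
    · exact Or.inr (Or.inl (Subtype.ext h))
    · exact Or.inr (Or.inr (Or.inl (Subtype.ext h)))
    · exact Or.inr (Or.inr (Or.inr (Subtype.ext (h.trans
        (comm_of_sq D (w_mem D).1 (t_mem D) (w_sq D) (t_sq D))))))
  · obtain ⟨k, hk, hkw⟩ := conj_in_K D (t_mem D) (w_mem D).1 (t_sq D) (w_sq D) (t_ne D) (w_ne D)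
    refine ⟨⟨k, hk.1⟩, mem_normalizer_iff.2 fun y => ⟨fun hy => ?_, fun hy => ?_⟩, Subtype.ext hkw⟩
    · obtain ⟨h1, h2'⟩ := mem_subgroupOf.1 hy
      refine mem_subgroupOf.2 ⟨mul_mem (mul_mem hk h1) (inv_mem hk), ?_⟩
      show k * (y : G) * k⁻¹ * (k * (y : G) * k⁻¹) = 1
      rw [show k * (y : G) * k⁻¹ * (k * (y : G) * k⁻¹) = k * ((y : G) * y) * k⁻¹ by group, h2']
      group
    · obtain ⟨h1, h2'⟩ := mem_subgroupOf.1 hy
      have h1' : k * (y : G) * k⁻¹ ∈ D.K := h1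
      have h2'' : k * (y : G) * k⁻¹ * (k * (y : G) * k⁻¹) = 1 := h2'
      refine mem_subgroupOf.2 ⟨?_, ?_⟩
      · rw [show (y : G) = k⁻¹ * (k * (y : G) * k⁻¹) * k by group]
        exact mul_mem (mul_mem (inv_mem hk) h1') hk
      · rw [show (y : G) * y = k⁻¹ * (k * (y : G) * k⁻¹ * (k * (y : G) * k⁻¹)) * k by group, h2'']
        group
  · have hO : (Cfsg.oddCore D.G0).Normal := oddCoreNormal _
    have hco : ∀ k u : D.G0, k * D.tX * k⁻¹ = u →
        Nat.card ↥(Cfsg.oddCore D.G0 ⊓ centralizer ({D.tX} : Set D.G0)) =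
          Nat.card ↥(Cfsg.oddCore D.G0 ⊓ centralizer ({u} : Set D.G0)) := by
      intro k u hk
      refine Nat.card_congr ((MulAut.conj k).toEquiv.subtypeEquiv fun z => ?_)
      show z ∈ Cfsg.oddCore D.G0 ⊓ _ ↔ MulAut.conj k z ∈ Cfsg.oddCore D.G0 ⊓ _
      simp only [mem_inf, mem_centralizer_singleton_iff, MulAut.conj_apply]
      refine and_congr ⟨fun h => hO.conj_mem z h k, fun h => ?_⟩ ?_
      · have := hO.conj_mem _ h k⁻¹
        rwa [show k⁻¹ * (k * z * k⁻¹) * k⁻¹⁻¹ = z by group] at this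
      · rw [← hk, ← MulAut.conj_apply, ← MulAut.conj_apply, ← map_mul, ← map_mul,
          (MulAut.conj k).injective.eq_iff]
    have hex : ∀ u : D.G0, (u : G) ∈ D.V → u ≠ 1 → ∃ k : D.G0, k * D.tX * k⁻¹ = u := by
      intro u hu hu1
      obtain ⟨k, hk, hku⟩ := conj_in_K D (t_mem D) hu.1 (t_sq D) hu.2 (t_ne D)
        (fun e => hu1 (Subtype.ext e))
      exact ⟨⟨k, hk.1⟩, Subtype.ext hku⟩
    obtain ⟨k, hk⟩ := hex D.wX (w_mem D) (wX_ne D)
    obtain ⟨k', hk'⟩ := hex (D.tX * D.wX) (mul_mem (t_mem_V D) (w_mem D)) (fun e => wX_ne_tX D (by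
      rw [← one_mul D.wX, ← tX_sq D, mul_assoc, e, mul_one]))
    rw [Jordan4.card_klein InvChar.Core.odd_card_oddCore (tX_sq D) (wX_sq D) (wX_comm D).eq.symm
      (fun x hx => hO.conj_mem x hx _) (fun x hx => hO.conj_mem x hx _), ← hco k _ hk, ← hco k' _ hk']
    ring

end Cfsg.Agent.TwoPointA4
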