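import Cfsg.Agent.Lib.TwoPointA4.TauInd

/-!
# The stabiliser of the pair is the symmetric group: common facts
-/

set_option autoImplicit false
set_option linter.unusedSectionVars false
set_option linter.style.haveILetI false

namespace Cfsg.Agent.TwoPointA4

open MulAction Subgroup

universe u v

namespace Alt

theorem cent_double : ∀ x : A4, x * x = 1 → x ≠ 1 →
    (Finset.univ.filter fun p : Equiv.Perm (Fin 4) =>
      p * (x : Equiv.Perm (Fin 4)) = (x : Equiv.Perm (Fin 4)) * p).card = 8 := by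
  decide +kernel

end Alt

variable {G : Type u} [Group G] [Finite G] {Ω : Type v} [Fintype Ω] [MulAction G Ω]
  [FaithfulSMul G Ω] (D : Data G Ω)

/-- An exchange of the base points of square one inducing the transposition fixing `t` on `V`. -/
structure Data.IsTransp (s : G) : Prop where
  swaps : D.Swaps s
  sq : s * s = 1
  comm : s * D.t = D.t * s
  not_cen : ¬ D.Cen s

theorem exists_transp {Φ : D.B →* Equiv.Perm (Fin 4)} (hΦ : D.IsSym Φ) : ∃ s, D.IsTransp s := by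
  have ht : D.e ⟨D.t, t_mem D⟩ * D.e ⟨D.t, t_mem D⟩ = 1 := (sq_one_iff D (t_mem D)).1 (t_sq D)
  obtain ⟨p, hp2, hps, hpc, hpmv⟩ := Alt.swap_cen _ ht ((ne_one_iff D (t_mem D)).1 (t_ne D))
  obtain ⟨s, hs⟩ := hΦ.1.2 p
  have hsw : D.Swaps (s : G) := sym_swaps D hΦ (by rw [hs]; exact hps)
  refine ⟨s, hsw, ?_, ?_, fun hcen => ?_⟩
  · have : s * s = 1 := hΦ.1.1 (by rw [map_mul, hs, map_one]; exact hp2)
    exact congrArg Subtype.val this
  · have : s * ⟨D.t, K_le_B D (t_mem D)⟩ = ⟨D.t, K_le_B D (t_mem D)⟩ * s := hΦ.1.1 (by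
      rw [map_mul, map_mul, hs, hΦ.2.1 ⟨D.t, t_mem D⟩]; exact hpc)
    exact congrArg Subtype.val this
  · obtain ⟨w, hw, hw1, hwt⟩ := exists_v D
    have hwy : s * ⟨w, K_le_B D hw.1⟩ * s⁻¹ = ⟨w, K_le_B D hw.1⟩ := Subtype.ext (hcen w hw)
    have h1 := congrArg Φ hwy
    rw [map_mul, map_mul, map_inv, hs, hΦ.2.1 ⟨w, hw.1⟩,
      hpmv _ ((sq_one_iff D hw.1).1 hw.2) ((ne_one_iff D hw.1).1 hw1) (fun e => hwt
        (congrArg (fun z : D.K => (z : G)) (D.e.injective e)))] at h1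
    exact (ne_one_iff D (t_mem D)).1 (t_ne D) (Subtype.ext (mul_eq_left.1 h1))

variable {s : G} (hs : D.IsTransp s)

include hs in
theorem transp_N : s ∈ D.N := swaps_mem_N D hs.comm hs.swaps

include hs in
theorem transp_notV : s ∉ D.V := fun h => hs.not_cen (cen_of_mem_V D h)

theorem exists_N_map {q x : Ω} (hq : q ∈ D.FV) (hx : x ∈ D.FV) : ∃ g ∈ D.N, g • q = x := by
  obtain ⟨q', hq', hne⟩ : ∃ z ∈ D.FV, q ≠ z := by
    by_cases e : q = D.a
    · exact ⟨D.b, b_mem_FV D, e ▸ D.hab⟩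
    · exact ⟨D.a, a_mem_FV D, e⟩
  obtain ⟨x', hx', hne'⟩ : ∃ z ∈ D.FV, x ≠ z := by
    by_cases e : x = D.a
    · exact ⟨D.b, b_mem_FV D, e ▸ D.hab⟩
    · exact ⟨D.a, a_mem_FV D, e⟩
  obtain ⟨g, hg, h1, -⟩ := witt_N D hne hne' hq hq' hx hx'
  exact ⟨g, hg, h1⟩

theorem four_dvd_witness (h4 : 4 ∣ D.r - 1) :
    ∃ g ∈ D.N, g • D.a = D.a ∧ g * g ∉ D.V ∧ g * g * (g * g) ∈ D.V := by
  classical
  haveI := Fact.mk Nat.prime_two
  obtain ⟨T⟩ := exists_trans_FV D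
  let pa : D.FV := ⟨D.a, a_mem_FV D⟩
  set H := stabilizer D.A pa with hH
  have hHcard : Nat.card H = D.r - 1 := by
    haveI := A_two D
    haveI : IsPretransitive D.A D.FV := isPretransitive_of_is_two_pretransitive
    have hA : Nat.card D.A = D.r * (D.r - 1) := by
      have hker : Nat.card D.vHom.ker = 4 := by
        rw [← card_V D]
        exact Nat.card_congr
          { toFun := fun g => ⟨(g.1 : G), (vHom_eq_one D).1 g.2⟩
            invFun := fun v => ⟨⟨v.1, V_le_N D v.2⟩, (vHom_eq_one D).2 v.2⟩ }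
      have h1 := D.vHom.ker.card_mul_index
      rw [index_ker, hker, card_N] at h1
      exact Nat.eq_of_mul_eq_mul_left (by norm_num) h1
    have h2 := H.card_mul_index
    rw [hH, index_stabilizer_of_transitive, hA, Nat.card_eq_fintype_card (α := D.FV), card_FV,
      mul_comm D.r] at h2
    rw [hH]
    exact Nat.eq_of_mul_eq_mul_right (by have := two_le_r D; omega) h2
  obtain ⟨Q, hQ⟩ := Sylow.exists_subgroup_card_pow_prime 2 (n := 2) (hHcard ▸ h4 : 2 ^ 2 ∣ Nat.card H)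
  have huniq : ∀ u ∈ Q, ∀ u' ∈ Q, u * u = 1 → u' * u' = 1 → u ≠ 1 → u' ≠ 1 → u = u' := by
    intro u _ u' _ h1 h1' hne hne'
    have mv : ∀ w : H, w ≠ 1 → ∃ z : D.FV, (w : D.A) • z ≠ z := fun w hw => by
      by_contra! e
      exact hw (Subtype.ext (Subtype.ext (Equiv.ext fun z => e z)))
    have inv2 : ∀ w : H, w * w = 1 → ∀ z : D.FV, (w : D.A) • (w : D.A) • z = z := fun w hw z => by
      rw [← mul_smul, ← coe_mul, hw, OneMemClass.coe_one, one_smul]
    exact Subtype.ext (Subtype.ext (Equiv.ext fun z =>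
      T.invol_eq (A_sharp D) (inv2 u h1) (inv2 u' h1') (mv u hne) (mv u' hne') u.2 u'.2 z))
  obtain ⟨u, huQ, hu2⟩ : ∃ u ∈ Q, u * u ≠ 1 := by
    by_contra! hall
    have hsub : (Q : Set H) ⊆ {1} ∪ {u | u ∈ Q ∧ u ≠ 1} := fun u hu => by
      by_cases e : u = 1
      · exact Or.inl e
      · exact Or.inr ⟨hu, e⟩
    have h1 : {u | u ∈ Q ∧ u ≠ 1}.ncard ≤ 1 := (Set.ncard_le_one_iff).2 fun {x y} hx hy =>
      huniq x hx.1 y hy.1 (hall x hx.1) (hall y hy.1) hx.2 hy.2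
    have h2 := (Set.ncard_le_ncard hsub).trans (Set.ncard_union_le _ _)
    rw [Set.ncard_singleton, ← Nat.card_coe_set_eq, SetLike.coe_sort_coe, hQ] at h2
    omega
  have hu4 : u ^ 4 = 1 := by
    have hc := pow_card_eq_one' (x := (⟨u, huQ⟩ : Q))
    rw [hQ] at hc
    exact congrArg Subtype.val hc
  obtain ⟨g, hg⟩ := (u : D.A).2
  have hgg : ((u * u : H) : D.A) = (⟨D.vHom (g * g), _, rfl⟩ : D.A) :=
    Subtype.ext (show ((u : D.A) : Equiv.Perm D.FV) * ((u : D.A) : Equiv.Perm D.FV) = D.vHom (g * g) by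
      rw [map_mul, hg])
  refine ⟨g, g.2, ?_, fun e => hu2 (Subtype.ext (hgg.trans (Subtype.ext
    ((vHom_eq_one D (g := g * g)).2 e)))), (vHom_eq_one D (g := g * g * (g * g))).1 (by
    have e := congrArg (fun z : H => ((z : D.A) : Equiv.Perm D.FV)) hu4
    simp only [show (4 : ℕ) = 2 + 2 from rfl, pow_add, pow_two, coe_mul, OneMemClass.coe_one,
      ← hg, ← map_mul] at e
    exact e)⟩
  have hfixa : (u : D.A) • pa = pa := u.2
  have h5 : ((u : D.A) : Equiv.Perm D.FV) pa = pa := hfixa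
  rw [← hg] at h5
  exact congrArg Subtype.val h5

include hs in
/-- For odd `r` the involutive elements outside `V` exchange the other involutions of `V`. -/
theorem not_cen_of_invol (hodd : Odd D.r) {g : G} (hg : g ∈ D.N) (hg2 : g * g ∈ D.V) (hgV : g ∉ D.V) :
    ¬ D.Cen g := by
  intro hcen
  obtain ⟨T⟩ := exists_trans_FV D
  obtain ⟨⟨q, hq⟩, hsq, -⟩ := (invol_N D (transp_N D hs) (by rw [hs.sq]; exact one_mem _)
    (transp_notV D hs)).1 hodd
  obtain ⟨⟨x, hx⟩, hgx, -⟩ := (invol_N D hg hg2 hgV).1 hodd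
  obtain ⟨n, hn, hnx⟩ := exists_N_map D hq hx
  set k := n * s * n⁻¹ with hkdef
  have hkN : k ∈ D.N := mul_mem (mul_mem hn (transp_N D hs)) (inv_mem hn)
  have hk2 : k * k = 1 := by
    rw [hkdef, show n * s * n⁻¹ * (n * s * n⁻¹) = n * (s * s) * n⁻¹ by group, hs.sq]; group
  have hkx : k • x = x := by
    rw [hkdef, mul_smul, mul_smul, inv_smul_eq_iff.2 hnx.symm, show s • q = q from hsq, hnx]
  have hkc : ¬ D.Cen k := fun e => hs.not_cen ((cen_conj D hn (transp_N D hs)).1 e)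
  have key := T.invol_eq (A_sharp D) (g := (⟨D.vHom ⟨k, hkN⟩, _, rfl⟩ : D.A))
    (h := (⟨D.vHom ⟨g, hg⟩, _, rfl⟩ : D.A)) (a := ⟨x, hx⟩)
    (fun z => Subtype.ext (show k • k • (z : Ω) = z by rw [← mul_smul, hk2, one_smul]))
    (fun z => Subtype.ext (show g • g • (z : Ω) = z by rw [← mul_smul]; exact z.2 _ hg2))
    (by by_contra! e; exact hkc (cen_of_mem_V D ((vHom_eq_one D).1 (Equiv.ext fun z => e z))))
    (by by_contra! e; exact hgV ((vHom_eq_one D).1 (Equiv.ext fun z => e z)))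
    (Subtype.ext hkx) (Subtype.ext hgx)
  have hv : k⁻¹ * g ∈ D.V := (vHom_eq_one D (g := ⟨_, mul_mem (inv_mem hkN) hg⟩)).1
    (Equiv.ext fun z => Subtype.ext (by
      show (k⁻¹ * g) • (z : Ω) = z
      have e : k • (z : Ω) = g • (z : Ω) := congrArg Subtype.val (key z)
      rw [mul_smul, ← e, inv_smul_smul]))
  refine hkc ?_
  have := cen_mul D hcen (cen_inv D (cen_of_mem_V D hv))
  rwa [show g * (k⁻¹ * g)⁻¹ = k by group] at this

include hs in
theorem not_four (hodd : Odd D.r) : ¬ 4 ∣ D.r - 1 := fun h4 => by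
  obtain ⟨g, hg, -, hg2, hg4⟩ := four_dvd_witness D h4
  refine not_cen_of_invol D hs hodd (mul_mem hg hg) hg4 hg2 ?_
  by_cases hc : D.Cen g
  · exact cen_mul D hc hc
  · exact cen_mul_of_not D hg hg hc hc

include hs in
/-- A translation of odd prime order made from a commutator with `s`. -/
theorem exists_odd_translation (hodd : Odd D.r) : ∃ p : ℕ, ∃ e ∈ D.N, ∃ i : ℕ, p.Prime ∧ p ≠ 2 ∧
    (∃ k, k ≠ 0 ∧ D.r = p ^ k) ∧ orderOf ((e * s * e⁻¹ * s⁻¹) ^ i) = p ∧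
      (e * s * e⁻¹ * s⁻¹) ^ i ∉ D.V := by
  classical
  obtain ⟨T⟩ := exists_trans_FV D
  set p := T.p with hpdef
  haveI := Fact.mk T.prime
  have hrp : D.r = p ^ T.k := (card_FV D).symm.trans T.card_eq
  have hp2 : p ≠ 2 := fun e => by
    rw [hrp, e] at hodd
    exact Nat.not_even_iff_odd.2 hodd (Nat.even_pow.2 ⟨even_two, T.k_ne⟩)
  have hsN := transp_N D hs
  obtain ⟨⟨q₀, hq₀⟩, hsq, hsu⟩ := (invol_N D hsN (by rw [hs.sq]; exact one_mem _)
    (transp_notV D hs)).1 hodd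
  obtain ⟨z₁, hz₁, hz₁q⟩ : ∃ z ∈ D.FV, z ≠ q₀ := by
    by_cases e : D.a = q₀
    · exact ⟨D.b, b_mem_FV D, fun e' => D.hab (e.trans e'.symm)⟩
    · exact ⟨D.a, a_mem_FV D, e⟩
  obtain ⟨⟨_, e, rfl⟩, heT, hez⟩ := T.trans ⟨q₀, hq₀⟩ ⟨z₁, hz₁⟩
  let y : D.N := e * ⟨s, hsN⟩ * e⁻¹ * ⟨s, hsN⟩⁻¹
  have hyT : (⟨D.vHom y, _, rfl⟩ : D.A) ∈ T.N := by
    have hn := T.normal.conj_mem _ (inv_mem heT) (⟨D.vHom ⟨s, hsN⟩, _, rfl⟩ : D.A)
    have := mul_mem heT hn
    convert this using 1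
    refine Subtype.ext ?_
    show D.vHom y = D.vHom e * (D.vHom ⟨s, hsN⟩ * (D.vHom e)⁻¹ * (D.vHom ⟨s, hsN⟩)⁻¹)
    simp only [y, map_mul, map_inv, mul_assoc]
  have hyV : (y : G) ∉ D.V := by
    intro hy
    have h2 := hq₀ _ (show (e : G) * s * (e : G)⁻¹ * s⁻¹ ∈ D.V from hy)
    rw [mul_smul, inv_smul_eq_iff.2 (show s • q₀ = q₀ from hsq).symm, mul_smul, mul_smul,
      smul_eq_iff_eq_inv_smul] at h2
    have hz' : (e : G) • q₀ = z₁ := congrArg Subtype.val hez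
    have h3 := hsu ⟨(e : G)⁻¹ • q₀, N_inv D _ (inv_mem e.2) _ hq₀⟩ h2
    have h4 : (e : G)⁻¹ • q₀ = q₀ := congrArg Subtype.val h3
    exact hz₁q (hz'.symm.trans (inv_smul_eq_iff.1 h4).symm)
  have hyp : ((y : G) ^ p) ∈ D.V := by
    have := (vHom_eq_one D (g := y ^ p)).1 (Equiv.ext fun z => by
      have := T.pow_eq _ hyT z
      show D.vHom (y ^ p) z = z
      rw [map_pow]
      exact this)
    simpa using this
  have hup : ((y : G) ^ 4) ^ p = 1 := by
    rw [← pow_mul, mul_comm, pow_mul, show (4 : ℕ) = 2 + 2 from rfl, pow_add, pow_two, hyp.2,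
      one_mul]
  have huV : (y : G) ^ 4 ∉ D.V := fun huV => hyV (by
    have hcop : Nat.Coprime 4 p := by
      rw [show 4 = 2 ^ 2 from rfl]
      exact Nat.Coprime.pow_left _ ((Nat.coprime_primes Nat.prime_two T.prime).2 (Ne.symm hp2))
    have hbez := Nat.gcd_eq_gcd_ab 4 p
    rw [hcop.gcd_eq_one] at hbez
    have : (y : G) = ((y : G) ^ 4) ^ Nat.gcdA 4 p * ((y : G) ^ p) ^ Nat.gcdB 4 p := by
      rw [← zpow_natCast _ 4, ← zpow_natCast _ p, ← zpow_mul, ← zpow_mul, ← zpow_add]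
      norm_num at hbez ⊢
      rw [← hbez, zpow_one]
    rw [this]
    exact mul_mem (zpow_mem huV _) (zpow_mem hyp _))
  exact ⟨p, e, e.2, 4, T.prime, hp2, ⟨T.k, T.k_ne, hrp⟩,
    orderOf_eq_prime hup (fun e1 => huV (e1 ▸ one_mem _)), huV⟩

end Cfsg.Agent.TwoPointA4
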