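import Cfsg.Agent.Lib.TwoPointA4.SymCommon

/-!
# The symmetric case with kernel `⟨t⟩`: the induced group, and even `r`
-/

set_option autoImplicit false
set_option linter.unusedSectionVars false
set_option linter.style.haveILetI false

namespace Cfsg.Agent.TwoPointA4

open MulAction Subgroup

universe u v

theorem seven_divisors {d : ℕ} (h : d ∣ 2 ^ 4 * 3 ^ 4) (h7 : d ≡ 1 [MOD 7]) :
    d = 1 ∨ d = 8 ∨ d = 36 ∨ d = 162 ∨ d = 1296 := by
  obtain ⟨a, b, ha, hb, rfl⟩ := Nat.dvd_mul.1 h
  obtain ⟨i, hi, rfl⟩ := (Nat.dvd_prime_pow Nat.prime_two).1 ha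
  obtain ⟨j, hj, rfl⟩ := (Nat.dvd_prime_pow Nat.prime_three).1 hb
  interval_cases i <;> interval_cases j <;> simp_all [Nat.ModEq]

variable {G : Type u} [Group G] [Finite G] {Ω : Type v} [Fintype Ω] [MulAction G Ω]
  [FaithfulSMul G Ω] (D : Data G Ω) {s : G} (hs : D.IsTransp s)

include hs in
theorem transp_conj_w : s * D.w * s⁻¹ = D.w * D.t :=
  ((cen_or_swap D (transp_N D hs)).resolve_left hs.not_cen) _ (w_mem D) (w_ne D) (w_ne_t D)

include hs in
/-- The exchanges of the base points in `C(t)`: the involutions are `s` and `s t`, the others have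
square `t`. -/
theorem transp_swappers {x : G} (hx : x * D.t = D.t * x) (hsw : D.Swaps x) :
    x = s ∨ x = s * D.t ∨ x * x = D.t := by
  have hv : s * x ∈ D.V := by
    rw [← cent_inf_K D]
    refine ⟨mem_centralizer_singleton_iff.2 ?_, ⟨?_, ?_⟩⟩
    · rw [mul_assoc, hx, ← mul_assoc, hs.comm, mul_assoc]
    · show _ • D.a = D.a
      rw [mul_smul, hsw.1, hs.swaps.2]
    · show _ • D.b = D.b
      rw [mul_smul, hsw.2, hs.swaps.1]
  have hsi : s⁻¹ = s := inv_eq_of_mul_eq_one_left hs.sq
  have e : x = s * (s * x) := by rw [← mul_assoc, hs.sq, one_mul]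
  have hw2 := w_sq D
  have hc := transp_conj_w D hs
  rw [hsi] at hc
  rcases V_list D hv with h | h | h | h
  · left; rw [e, h, mul_one]
  · right; left; rw [e, h]
  · right; right
    rw [e, h, show s * D.w * (s * D.w) = (s * D.w * s) * D.w by group, hc]
    rw [mul_assoc, comm_of_sq D (t_mem D) (w_mem D).1 (t_sq D) hw2, ← mul_assoc, hw2, one_mul]
  · right; right
    rw [e, h, show s * (D.w * D.t) * (s * (D.w * D.t)) = (s * D.w * (D.t * s)) * (D.w * D.t) by group,
      ← hs.comm, show s * D.w * (s * D.t) * (D.w * D.t) = (s * D.w * s) * (D.t * (D.w * D.t)) by group,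
      hc, comm_of_sq D (t_mem D) (mul_mem (w_mem D) (t_mem_V D)).1 (t_sq D)
        (mul_mem (w_mem D) (t_mem_V D)).2, ← mul_assoc, show D.w * D.t * (D.w * D.t) = 1 from
        (mul_mem (w_mem D) (t_mem_V D)).2, one_mul]

/-- The image of `s`. -/
noncomputable def Data.IsTransp.img' {s : G} (hs : D.IsTransp s) : D.X :=
  D.img ⟨s, mem_centralizer_singleton_iff.2 hs.comm⟩

include hs in
theorem swap_cls (h : ¬ D.KerV) {g : centralizer ({D.t} : Set G)} (hg : D.img g ∈ (D.X2 h).cls)
    (hsw : D.Swaps (g : G)) : (g : G) = s ∨ (g : G) = s * D.t := by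
  rcases transp_swappers D hs (mem_centralizer_singleton_iff.1 g.2) hsw with e | e | e
  · exact Or.inl e
  · exact Or.inr e
  · exact absurd (e.symm.trans (isT_sq D (cls_isT D h hg).1)) (t_ne D)

include hs in
theorem sym_k_one (h : ¬ D.KerV) : (D.X2 h).k = 1 ∧ Data.IsTransp.img' D hs ∈ (D.X2 h).cls := by
  classical
  have hb := (D.X2 h).k_bounds.1
  unfold TwoPointA5.TwoTwo.k at hb ⊢
  have key : ∀ u ∈ (D.X2 h).cls, u • (D.X2 h).a = (D.X2 h).b → u • (D.X2 h).b = (D.X2 h).a →
      u = Data.IsTransp.img' D hs := by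
    intro u hu hua hub
    obtain ⟨g, rfl⟩ := img_surj D u
    rcases swap_cls D hs h hu (X2_swap D hua hub) with e | e
    · exact congrArg D.img (Subtype.ext e)
    · exact ((img_eq_iff D h).2 (Or.inr e)).symm
  obtain ⟨u, hu⟩ := Finset.card_pos.1 (by exact hb)
  simp only [Finset.mem_filter] at hu
  refine ⟨le_antisymm (Finset.card_le_one.2 fun x hx y hy => ?_) hb, key u hu.1 hu.2.1 hu.2.2 ▸ hu.1⟩
  simp only [Finset.mem_filter] at hx hy
  rw [key x hx.1 hx.2.1 hx.2.2, key y hy.1 hy.2.1 hy.2.2]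

include hs in
theorem sym_even_r_two (h : ¬ D.KerV) (hev : Even D.r) : D.r = 2 ∧ D.f = 4 := by
  classical
  obtain ⟨hk, hscls⟩ := sym_k_one D hs h
  have hdeg := (D.X2 h).deg_of_k_one hk
  rw [X2_r, card_Ft] at hdeg
  obtain ⟨m, hm0, hm⟩ := r_two_pow D hev
  have hdeg2 : Fintype.card D.Ft = 2 ^ (2 * m) := by rw [card_Ft, hdeg, hm, ← pow_add, two_mul]
  obtain ⟨E, hE, hreg, hEc, hEsq, -⟩ := (D.X2 h).regular_of_even hk hdeg2
  haveI := hE
  haveI := hreg.1
  haveI := hEc
  let a' : D.Ft := (D.X2 h).a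
  set P₀ : Subgroup (centralizer ({D.t} : Set G)) := E.comap D.img with hP₀
  have hker : ∀ x ∈ P₀, ∀ z : D.Ft, D.img x • z = z → D.img x = 1 := fun x hx z e => hreg.2 z _ hx e
  -- the other elements have square `t`
  have hsq : ∀ x ∈ P₀, D.img x ≠ 1 → (x : G) * x = D.t := by
    intro x hx hx1
    have hxa : (x : G) • D.a ≠ D.a := fun e => hx1 (hker x hx a' (Subtype.ext e))
    have hxx : (x : G) • (x : G) • D.a = D.a := by
      have := congrArg (fun q : D.X => ((q • a' : D.Ft) : Ω)) (hEsq _ hx)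
      have e' : (x : G) • (x : G) • (a' : Ω) = (a' : Ω) := by simpa [mul_smul, img_smul] using this
      exact e'
    have hxt : Commute (x : G) D.t := mem_centralizer_singleton_iff.1 x.2
    obtain ⟨g, hg, hga, hgb⟩ := witt D D.hab (Ne.symm hxa) (t_mem D).1 (t_mem D).2 (t_mem D).1
      (TwoPointA5.smul_mem_fix x.2 (t_mem D).1)
    have hg' : Commute g D.t := hg
    let gC : centralizer ({D.t} : Set G) := ⟨g, mem_centralizer_singleton_iff.2 hg⟩
    have hsw : D.Swaps (g⁻¹ * x * g) :=
      ⟨by rw [mul_smul, mul_smul, hga, ← hgb, inv_smul_smul],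
        by rw [mul_smul, mul_smul, hgb, hxx, inv_smul_eq_iff, hga]⟩
    have hcom : g⁻¹ * (x : G) * g * D.t = D.t * (g⁻¹ * x * g) :=
      ((hg'.inv_left.mul_left hxt).mul_left hg').eq
    have hE' : D.img (gC⁻¹ * x * gC) ∈ E := by
      rw [map_mul, map_mul, map_inv]
      simpa using hE.conj_mem _ hx (D.img gC)⁻¹
    have hbad : D.img (gC⁻¹ * x * gC) ≠ Data.IsTransp.img' D hs := by
      intro e
      obtain ⟨z, hz⟩ : ∃ z : D.Ft, Data.IsTransp.img' D hs • z = z := by
        have h1 := (D.X2 h).cls_fix _ hscls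
        have h2 := (D.X2 h).two_le_r
        rw [← h1] at h2
        obtain ⟨⟨z, hz⟩⟩ := (Nat.card_pos_iff.1 (by
          unfold TwoPointA5.fixCard at h2; omega :
          0 < Nat.card {z : D.Ft // Data.IsTransp.img' D hs • z = z})).1
        exact ⟨z, hz⟩
      have h3 := hker _ hE' z (by rw [e]; exact hz)
      exact (D.X2 h).hs1 (by
        obtain ⟨c, hc⟩ := (D.X2 h).mem_cls.1 hscls
        rw [← e, h3] at hc
        exact conj_eq_one_iff.1 hc.symm)
    rcases transp_swappers D hs hcom hsw with e | e | e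
    · exact absurd (congrArg D.img (Subtype.ext e : gC⁻¹ * x * gC = ⟨s, _⟩)) hbad
    · exact absurd ((img_eq_iff D h).2 (Or.inr (show ((gC⁻¹ * x * gC : centralizer ({D.t} : Set G)) : G) =
        s * D.t from e))).symm hbad
    · rw [show (x : G) * x = g * (g⁻¹ * x * g * (g⁻¹ * x * g)) * g⁻¹ by group, e, hg,
        mul_inv_cancel_right]
  -- so the centraliser of such an element is small
  have hcard : Nat.card P₀ = 2 * D.f := by
    have h1 := P₀.card_mul_index
    rw [hP₀, index_comap_of_surjective _ (img_surj D)] at h1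
    have hX : Nat.card (centralizer ({D.t} : Set G)) = 2 * Nat.card D.X := by
      have hker' : Nat.card D.img.ker = 2 := by
        rw [Nat.card_eq_two_iff]
        refine ⟨1, ⟨D.vC (t_mem_V D), (img_eq_one D h).2 (Or.inr rfl)⟩, fun e => t_ne D
          (congrArg (fun z : D.img.ker => ((z : centralizer ({D.t} : Set G)) : G)) e).symm, ?_⟩
        ext ⟨g, hg⟩
        simp only [Set.mem_insert_iff, Set.mem_singleton_iff, Set.mem_univ, iff_true]
        rcases (img_eq_one D h).1 hg with e | e
        · exact Or.inl (Subtype.ext (Subtype.ext e))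
        · exact Or.inr (Subtype.ext (Subtype.ext e))
      rw [← D.img.ker.card_mul_index, index_ker, hker', MonoidHom.range_eq_top.2 (img_surj D), card_top]
    rw [hX, ← E.card_mul_index, hreg.card a', card_Ft, ← mul_assoc, ← hP₀] at h1
    exact Nat.eq_of_mul_eq_mul_right (Nat.pos_of_ne_zero index_ne_zero_of_finite) h1
  have hf4 : 4 ≤ D.f := by rw [hdeg]; exact Nat.mul_le_mul (two_le_r D) (two_le_r D)
  obtain ⟨⟨e₁, he₁⟩, hne₁⟩ : ∃ e : E, e ≠ 1 := by
    haveI : Nontrivial E := Finite.one_lt_card_iff_nontrivial.1 (by rw [hreg.card a', card_Ft]; omega)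
    exact exists_ne 1
  obtain ⟨x, rfl⟩ := img_surj D e₁
  have hx1 : D.img x ≠ 1 := fun e => hne₁ (Subtype.ext e)
  have hxt : Commute (x : G) D.t := mem_centralizer_singleton_iff.1 x.2
  -- the commutation classes
  let L : P₀ → Prop := fun y => (y : G) * (x : G) = x * y
  have htwo : ∀ y : P₀, L y ∨ (y : G) * x = x * y * D.t := by
    intro y
    have himg : D.img x * D.img (y : centralizer ({D.t} : Set G)) =
        D.img (y : centralizer ({D.t} : Set G)) * D.img x :=
      congrArg Subtype.val (mul_comm' (⟨_, he₁⟩ : E) ⟨_, y.2⟩)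
    rw [← map_mul, ← map_mul] at himg
    exact (img_eq_iff D h).1 himg
  have hsmall : ∀ z : P₀, L z → (z : G) ∈ ({1, D.t, (x : G), (x : G) * D.t} : Set G) := by
    intro z hz
    simp only [Set.mem_insert_iff, Set.mem_singleton_iff]
    by_cases h1 : D.img (z : centralizer ({D.t} : Set G)) = 1
    · rcases (img_eq_one D h).1 h1 with e | e
      · exact Or.inl e
      · exact Or.inr (Or.inl e)
    have hprod : D.img (x * (z : centralizer ({D.t} : Set G))) = 1 := by
      by_contra hne
      have h2 := hsq _ (mul_mem (show x ∈ P₀ from he₁) z.2) hne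
      have hz2 := hsq _ z.2 h1
      have hc : Commute (z : G) (x : G) := hz
      refine t_ne D ?_
      calc D.t = ((x : G) * (z : G)) * ((x : G) * z) := h2.symm
        _ = ((x : G) * x) * ((z : G) * z) := hc.mul_mul_mul_comm _ _
        _ = 1 := by rw [hsq x he₁ hx1, hz2, t_sq]
    have hxi : (x : G)⁻¹ = (x : G) * D.t := by
      refine inv_eq_of_mul_eq_one_right ?_
      rw [← mul_assoc, hsq x he₁ hx1, t_sq]
    rcases (img_eq_one D h).1 hprod with e | e
    · exact Or.inr (Or.inr (Or.inr ((eq_inv_of_mul_eq_one_right e).trans hxi)))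
    · refine Or.inr (Or.inr (Or.inl ?_))
      have e2 : (z : G) = (x : G)⁻¹ * D.t := eq_inv_mul_iff_mul_eq.2 e
      rw [e2, hxi, mul_assoc, t_sq, mul_one]
  have hcount : Nat.card P₀ ≤ 8 := by
    have h4 : ∀ y₀ : P₀, {y : P₀ | L (y₀⁻¹ * y)}.ncard ≤ 4 := by
      intro y₀
      refine le_trans (Set.ncard_le_ncard_of_injOn (fun y : P₀ => ((y₀⁻¹ * y : P₀) : G))
        (fun y hy => hsmall _ hy) ?_ (Set.toFinite _)) ?_
      · intro y _ y' _ e
        exact mul_left_cancel (Subtype.ext (Subtype.ext e) : y₀⁻¹ * y = y₀⁻¹ * y')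
      · refine le_trans (Set.ncard_insert_le _ _) (Nat.succ_le_succ ?_)
        refine le_trans (Set.ncard_insert_le _ _) (Nat.succ_le_succ ?_)
        refine le_trans (Set.ncard_insert_le _ _) (Nat.succ_le_succ ?_)
        rw [Set.ncard_singleton]
    by_cases hall : ∀ y : P₀, L y
    · have : Nat.card P₀ ≤ 4 := by
        have := h4 1
        rwa [show {y : P₀ | L (1⁻¹ * y)} = Set.univ by ext y; simp [hall], Set.ncard_univ] at this
      omega
    push Not at hall
    obtain ⟨y₀, hy₀⟩ := hall
    have hy₀' := (htwo y₀).resolve_left hy₀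
    have hu : (Set.univ : Set P₀) ⊆ {y : P₀ | L (1⁻¹ * y)} ∪ {y : P₀ | L (y₀⁻¹ * y)} := by
      intro y _
      rcases htwo y with hy | hy
      · left; simpa using hy
      · right
        show ((y₀ : G)⁻¹ * (y : G)) * (x : G) = x * ((y₀ : G)⁻¹ * (y : G))
        have ht' : Commute (y : G) D.t := mem_centralizer_singleton_iff.1 y.1.2
        have ht₀ : Commute (y₀ : G) D.t := mem_centralizer_singleton_iff.1 y₀.1.2
        have e1 : (y₀ : G)⁻¹ * ((x : G) * D.t) = (x : G) * (y₀ : G)⁻¹ := by
          rw [eq_mul_inv_iff_mul_eq, mul_assoc, inv_mul_eq_iff_eq_mul, mul_assoc, ← ht₀.eq, ← mul_assoc]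
          exact hy₀'.symm
        rw [mul_assoc, hy, mul_assoc (x : G), ht'.eq, ← mul_assoc (x : G), ← mul_assoc, e1, mul_assoc]
    have h1 := (Set.ncard_le_ncard hu).trans (Set.ncard_union_le _ _)
    rw [Set.ncard_univ] at h1
    have := h4 1
    have := h4 y₀
    omega
  rw [hcard, hdeg] at hcount
  have hr2 := two_le_r D
  have hr : D.r = 2 := by
    by_contra hne
    have : 3 * 3 ≤ D.r * D.r := Nat.mul_le_mul (by omega) (by omega)
    omega
  exact ⟨hr, by rw [hdeg, hr]⟩

include hs in
theorem sym_even_false {Φ : D.B →* Equiv.Perm (Fin 4)} (hΦ : D.IsSym Φ) (h : ¬ D.KerV) (hev : Even D.r) :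
    False := by
  classical
  obtain ⟨-, hf⟩ := sym_even_r_two D hs h hev
  have hn : Fintype.card Ω = 28 := by rw [sym_deg D hΦ, hf]
  have hG : Nat.card G = 2 ^ 4 * 3 ^ 4 * 7 := by rw [card_G D, hn]; norm_num
  haveI := Fact.mk Nat.prime_two
  haveI h7 : Fact (Nat.Prime 7) := ⟨by norm_num⟩
  obtain ⟨P⟩ := (inferInstance : Nonempty (Sylow 7 G))
  have hP : Nat.card (P : Subgroup G) = 7 := by
    rw [P.card_eq_multiplicity, hG, Nat.factorization_mul (by norm_num) (by norm_num), Finsupp.add_apply,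
      h7.out.factorization_self, Nat.factorization_eq_zero_of_not_dvd (show ¬ 7 ∣ 2 ^ 4 * 3 ^ 4 by norm_num),
      zero_add, pow_one]
  have hidx : (P : Subgroup G).index = 2 ^ 4 * 3 ^ 4 := by
    have := (P : Subgroup G).card_mul_index
    rw [hP, hG] at this
    norm_num at this ⊢
    omega
  set N := normalizer ((P : Subgroup G) : Set G) with hN
  set C := centralizer ((P : Subgroup G) : Set G) with hC
  -- no involution centralises `P`
  have hCodd : Odd (Nat.card C) := by
    rw [← Nat.not_even_iff_odd]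
    intro he
    obtain ⟨z, hz⟩ := exists_prime_orderOf_dvd_card' (G := C) 2 (even_iff_two_dvd.1 he)
    have hz' : orderOf (z : G) = 2 := by rw [Subgroup.orderOf_coe, hz]
    have hzT : D.IsT (z : G) := sym_isT D hΦ (by rw [← pow_two, ← hz', pow_orderOf_eq_one])
      fun e => by simp [e] at hz'
    have hle : (P : Subgroup G) ≤ centralizer ({(z : G)} : Set G) := fun y hy =>
      mem_centralizer_singleton_iff.2 (mem_centralizer_iff.1 z.2 y hy)
    have := card_dvd_of_le hle
    rw [hP, card_cent_of_isT D hzT, hf] at this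
    norm_num at this
  have hN4 : ¬ 4 ∣ Nat.card N := by
    intro h4
    set φ := Subgroup.normalizerMonoidHom (P : Subgroup G)
    have h6 : Nat.card (MulAut (P : Subgroup G)) = 6 := by
      haveI : IsCyclic (P : Subgroup G) := isCyclic_of_prime_card (p := 7) hP
      rw [IsCyclic.card_mulAut, hP]
      decide
    have hk : Nat.card φ.ker * Nat.card φ.range = Nat.card N := by
      rw [← index_ker, card_mul_index]
    have hkodd : Odd (Nat.card φ.ker) := by
      have hle : φ.ker.map N.subtype ≤ C := by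
        rw [Subgroup.normalizerMonoidHom_ker]
        exact map_comap_le _ _
      have hd := card_dvd_of_le hle
      rw [card_subtype] at hd
      exact hCodd.of_dvd_nat hd
    have hr6 : Nat.card φ.range ∣ 6 := h6 ▸ card_subgroup_dvd_card _
    rw [← hk] at h4
    have hcop : Nat.Coprime 4 (Nat.card φ.ker) := by
      rw [show 4 = 2 ^ 2 from rfl]
      exact Nat.Coprime.pow_left _ (Nat.coprime_two_left.2 hkodd)
    have := (hcop.dvd_of_dvd_mul_left h4).trans hr6
    norm_num at this
  have hn7 := card_sylow_modEq_one 7 G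
  have hcn := Sylow.card_eq_index_normalizer P
  have hNn : Nat.card N * Nat.card (Sylow 7 G) = Nat.card G := by rw [hcn]; exact card_mul_index _
  have hdvd : Nat.card (Sylow 7 G) ∣ 2 ^ 4 * 3 ^ 4 := hidx ▸ Sylow.card_dvd_index P
  have key : ∀ M : Subgroup G, M.Normal → M ≠ ⊥ → 28 ∣ Nat.card M := by
    intro M hMn hMb
    haveI := hMn
    haveI := TwoPointA5.transitive_of_normal D.h2 M hMb
    refine ⟨Nat.card (stabilizer M D.a), ?_⟩
    rw [← (stabilizer M D.a).card_mul_index, index_stabilizer_of_transitive, Nat.card_eq_fintype_card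
      (α := Ω), hn, mul_comm]
  obtain ⟨d, hd⟩ : ∃ d, Nat.card (Sylow 7 G) = d := ⟨_, rfl⟩
  rw [hd] at hn7 hNn hdvd
  have hd' : d = 1 ∨ d = 8 ∨ d = 36 ∨ d = 162 ∨ d = 1296 := by
    exact seven_divisors hdvd hn7
  have hPne : (P : Subgroup G) ≠ ⊥ := fun e => by
    rw [e, card_bot] at hP
    norm_num at hP
  rcases hd' with rfl | rfl | rfl | rfl | rfl
  · haveI := (Nat.card_eq_one_iff_unique.1 hd).1
    haveI : (P : Subgroup G).Characteristic := Sylow.characteristic_of_subsingleton P
    have := key _ inferInstance hPne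
    rw [hP] at this
    norm_num at this
  · let π := MulAction.toPermHom G (Sylow 7 G)
    by_cases hb : π.ker = ⊥
    · have hinj : Function.Injective π := (MonoidHom.ker_eq_bot_iff π).1 hb
      have := Subgroup.card_dvd_of_injective π hinj
      rw [Nat.card_perm, hd, hG] at this
      norm_num [Nat.factorial] at this
    · have hle : π.ker ≤ N := fun g hg => by
        have h1 : g • P = P := DFunLike.congr_fun (MonoidHom.mem_ker.1 hg) P
        exact Sylow.smul_eq_iff_mem_normalizer.1 h1
      have h28 := (key _ inferInstance hb).trans (card_dvd_of_le hle)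
      exact hN4 (dvd_trans (by norm_num) h28)
  · exact hN4 ⟨63, by rw [hG] at hNn; omega⟩
  · exact hN4 ⟨14, by rw [hG] at hNn; omega⟩
  · have hN7 : Nat.card N = 7 := by rw [hG] at hNn; omega
    have hPN : (P : Subgroup G) = N := eq_of_le_of_card_ge le_normalizer (by rw [hN7, hP])
    haveI : IsCyclic (P : Subgroup G) := isCyclic_of_prime_card (p := 7) hP
    have hcomm : normalizer ((P : Subgroup G) : Set G) ≤ centralizer ((P : Subgroup G) : Set G) := by
      rw [← hN, ← hPN]
      exact le_centralizer (P : Subgroup G)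
    set K := (MonoidHom.transferSylow P hcomm).ker
    have hc := (MonoidHom.ker_transferSylow_isComplement' P hcomm).card_mul_card
    rw [hP, hG] at hc
    have hKne : K ≠ ⊥ := fun e => by
      rw [show (MonoidHom.transferSylow P hcomm).ker = ⊥ from e, card_bot] at hc
      norm_num at hc
    have := key K (MonoidHom.normal_ker _) hKne
    have hK : Nat.card K = 1296 := by
      refine Nat.eq_of_mul_eq_mul_right (show 0 < 7 by norm_num) ?_
      exact hc.trans (by norm_num)
    rw [hK] at this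
    norm_num at this

end Cfsg.Agent.TwoPointA4
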