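import Cfsg.Agent.Lib.TwoPointA4.SymCommon
import Cfsg.Agent.Lib.TwoPointA5.GWSocle
import Cfsg.Agent.Lib.AutPOmega.Groups

/-!
# The symmetric case with kernel the four-group: six or fifteen points
-/

set_option autoImplicit false
set_option linter.unusedSectionVars false
set_option linter.style.haveILetI false

namespace Cfsg.Agent.TwoPointA4

open MulAction Subgroup
open scoped MatrixGroups

universe u v

variable {G : Type u} [Group G] [Finite G] {Ω : Type v} [Fintype Ω] [MulAction G Ω]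
  [FaithfulSMul G Ω] (D : Data G Ω)
  {Φ : D.B →* Equiv.Perm (Fin 4)} (hΦ : D.IsSym Φ)

include hΦ in
theorem sym_conj (y z : G) (hy : orderOf y = 2) (hz : orderOf z = 2) : ∃ g : G, g * y * g⁻¹ = z := by
  have key : ∀ x : G, orderOf x = 2 → D.IsT x := fun x hx => sym_isT D hΦ
    (by rw [← pow_two, ← hx, pow_orderOf_eq_one]) fun e => by simp [e] at hx
  obtain ⟨g, hg⟩ := key y hy
  obtain ⟨g', hg'⟩ := key z hz
  exact ⟨g' * g⁻¹, by rw [← hg, ← hg']; group⟩

include hΦ in
theorem card_cent_B : Nat.card ↥(D.B ⊓ centralizer ({D.t} : Set G)) = 8 := by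
  classical
  set x := D.e ⟨D.t, t_mem D⟩ with hxdef
  have hΦt : Φ ⟨D.t, K_le_B D (t_mem D)⟩ = (x : Equiv.Perm (Fin 4)) := hΦ.2.1 ⟨D.t, t_mem D⟩
  let E : D.B ≃* Equiv.Perm (Fin 4) := MulEquiv.ofBijective Φ hΦ.1
  let f : ↥(D.B ⊓ centralizer ({D.t} : Set G)) ≃
      {p : Equiv.Perm (Fin 4) // p * (x : Equiv.Perm (Fin 4)) = (x : Equiv.Perm (Fin 4)) * p} :=
    (Equiv.trans
      { toFun := fun g => (⟨⟨g, g.2.1⟩, g.2.2⟩ : {b : D.B // (b : G) ∈ centralizer ({D.t} : Set G)})
        invFun := fun b => ⟨b.1, b.1.2, b.2⟩ }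
      (E.toEquiv.subtypeEquiv fun b => by
        show (b : G) ∈ centralizer ({D.t} : Set G) ↔ Φ b * x = x * Φ b
        rw [mem_centralizer_singleton_iff, ← hΦt, ← map_mul, ← map_mul, hΦ.1.1.eq_iff]
        exact ⟨fun h => Subtype.ext h, congrArg Subtype.val⟩))
  rw [Nat.card_congr f, Nat.card_eq_fintype_card, Fintype.card_subtype]
  exact Alt.cent_double x ((sq_one_iff D (t_mem D)).1 (t_sq D)) ((ne_one_iff D (t_mem D)).1 (t_ne D))

variable {s : G} (hs : D.IsTransp s)

include hs in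
theorem sym_kerV_even (h : D.KerV) (hev : Even D.r) : D.f = 2 := by
  classical
  have hsN := transp_N D hs
  have hsf : ∀ x ∈ D.FV, s • x ≠ x :=
    (invol_N D hsN (by rw [hs.sq]; exact one_mem _) (transp_notV D hs)).2 hev
  by_contra hne
  obtain ⟨z, hz, hza, hzb⟩ : ∃ z ∈ D.FV, z ≠ D.a ∧ z ≠ D.b := by
    by_contra! hall
    have hsub : D.FV ⊆ {D.a, D.b} := fun z hz => by
      by_cases e : z = D.a
      · exact Or.inl e
      · exact Or.inr (hall z hz e)
    have h1 := Set.ncard_le_ncard hsub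
    rw [Set.ncard_pair D.hab, ← Nat.card_coe_set_eq] at h1
    have h2 : Nat.card D.FV = D.f := h
    have := two_le_f D
    omega
  obtain ⟨T⟩ := exists_trans_FV D
  obtain ⟨⟨_, g, rfl⟩, hgT, hgz⟩ := T.trans ⟨D.a, a_mem_FV D⟩ ⟨z, hz⟩
  have hgz' : (g : G) • D.a = z := congrArg Subtype.val hgz
  have hgf : ∀ x ∈ D.FV, (g : G) • x ≠ x := by
    rcases (T.mem_iff _).1 hgT with h' | h'
    · exact absurd (hgz'.symm.trans (congrArg Subtype.val (h' ⟨D.a, a_mem_FV D⟩))) hza
    · exact fun x hx e => h' ⟨x, hx⟩ (Subtype.ext e)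
  have hgc : ¬ D.Cen (g : G) := fun e => hs.not_cen (translation_cen D g.2 hsN hgf hsf e)
  have hgs : (g : G) * s ∈ D.V := by
    have hprodT : (⟨D.vHom (g * ⟨s, hsN⟩), _, rfl⟩ : D.A) ∈ T.N := by
      have := mul_mem hgT (invol_trans D hev T hsN (by rw [hs.sq]; exact one_mem _))
      convert this using 1
      exact Subtype.ext (map_mul D.vHom _ _)
    rcases (T.mem_iff _).1 hprodT with h' | h'
    · exact (vHom_eq_one D (g := g * ⟨s, hsN⟩)).1 (Equiv.ext fun x => h' x)
    · exact absurd (translation_cen D (mul_mem g.2 hsN) hsN (fun x hx e => h' ⟨x, hx⟩ (Subtype.ext e))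
        hsf (cen_mul_of_not D g.2 hsN hgc hs.not_cen)) hs.not_cen
  apply hzb
  rw [← hgz']
  have e : ((g : G) * s) • D.b = D.b := hgs.1.2
  rwa [mul_smul, hs.swaps.2] at e

include hΦ hs in
theorem sym_six (h : D.KerV) (hev : Even D.r) :
    Fintype.card Ω = 6 ∧ Nonempty (G ≃* ↥(alternatingGroup (Fin 6))) := by
  classical
  have hf := sym_kerV_even D hs h hev
  have hn : Fintype.card Ω = 6 := by rw [sym_deg D hΦ, hf]
  refine ⟨hn, ?_⟩
  let e6 : Ω ≃ Fin 6 := Fintype.equivFinOfCardEq hn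
  let π : G →* Equiv.Perm (Fin 6) := (e6.permCongrHom.toMonoidHom).comp (MulAction.toPermHom G Ω)
  have hinj : Function.Injective π := e6.permCongrHom.injective.comp MulAction.toPerm_injective
  have hidx : π.range.index = 2 := by
    have h1 := π.range.card_mul_index
    rw [← Nat.card_congr (MonoidHom.ofInjective hinj).toEquiv, card_G D, hn, Nat.card_perm,
      Nat.card_fin, show Nat.factorial 6 = 720 from rfl] at h1
    omega
  exact ⟨(MonoidHom.ofInjective hinj).trans
    (MulEquiv.subgroupCongr (Equiv.Perm.eq_alternatingGroup_of_index_eq_two hidx))⟩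

include hΦ hs in
theorem sym_fifteen (h : D.KerV) (hodd : Odd D.r) :
    Fintype.card Ω = 15 ∧ Nonempty (G ≃* ↥(alternatingGroup (Fin 7))) := by
  classical
  haveI := Fact.mk Nat.prime_two
  have hf2 := two_le_f D
  have hn := sym_deg D hΦ
  have h4 := not_four D hs hodd
  rw [h] at h4
  obtain ⟨j, hj⟩ : ∃ j, D.f = 2 * j + 1 := by rw [← h]; exact hodd
  have hjodd : Odd j := by
    rw [← Nat.not_even_iff_odd]
    rintro ⟨i, rfl⟩
    exact h4 ⟨i, by omega⟩
  have hn1 : Fintype.card Ω = (2 * j + 1) * (4 * j + 1) := by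
    rw [hn, hj, show 2 * (2 * j + 1) - 1 = 4 * j + 1 by omega]
  have hn2 : Fintype.card Ω - 1 = 2 * (j * (4 * j + 3)) := by
    rw [hn1]
    have : (2 * j + 1) * (4 * j + 1) = 2 * (j * (4 * j + 3)) + 1 := by ring
    omega
  have hG : Nat.card G = 2 ^ 3 * (3 * ((2 * j + 1) * (4 * j + 1) * (j * (4 * j + 3)))) := by
    rw [card_G D, hn2, hn1]; ring
  have hfac : (Nat.card G).factorization 2 = 3 := by
    have ho : Odd (3 * ((2 * j + 1) * (4 * j + 1) * (j * (4 * j + 3)))) :=
      (show Odd 3 by decide).mul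
        (((odd_two_mul_add_one j).mul ⟨2 * j, by ring⟩).mul (hjodd.mul ⟨2 * j + 1, by ring⟩))
    rw [hG, Nat.factorization_mul (by norm_num) (fun e => by simp [e] at ho), Finsupp.add_apply,
      Nat.Prime.factorization_pow Nat.prime_two, Finsupp.single_eq_same,
      Nat.factorization_eq_zero_of_not_dvd (fun hd => Nat.not_even_iff_odd.2 ho (even_iff_two_dvd.2 hd)),
      add_zero]
  let S : Sylow 2 G := Sylow.ofCard (D.B ⊓ centralizer ({D.t} : Set G)) (by
    rw [card_cent_B D hΦ, hfac]; rfl)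
  have hwC : D.w ∈ centralizer ({D.t} : Set G) := V_le_cent D (t_mem_V D) (w_mem D)
  have hwS : D.w ∈ (S : Subgroup G) := ⟨K_le_B D (w_mem D).1, hwC⟩
  have hsS : s ∈ (S : Subgroup G) := ⟨swaps_mem_B D hs.swaps, mem_centralizer_singleton_iff.2 hs.comm⟩
  have hsw : s * D.w ≠ D.w * s := by
    intro e
    rcases cen_or_swap D (transp_N D hs) with hc | hc
    · exact hs.not_cen hc
    · have := hc _ (w_mem D) (w_ne D) (w_ne_t D)
      rw [e, mul_inv_cancel_right] at this
      exact t_ne D (mul_eq_left.1 this.symm)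
  obtain ⟨eS⟩ := AutPOmega.Groups.dihedral_four (G := (S : Subgroup G)) (a := ⟨s, hsS⟩) (b := ⟨D.w, hwS⟩)
    (card_cent_B D hΦ) (Subtype.ext hs.sq) (Subtype.ext (w_sq D)) (fun e => hsw (congrArg Subtype.val e))
  have hO : Cfsg.oddCore G = ⊥ := by
    by_contra hO
    haveI : (Cfsg.oddCore G).Normal := ZStar.Main.oddCore_normal
    haveI : Group.IsSolvable ↥(Cfsg.oddCore G) := S0205.result InvChar.Core.odd_card_oddCore
    obtain ⟨E, l, hE, hEN, hreg, -, hl, hlg, -, -⟩ :=
      TwoPointA5.exists_regular D.h2 (Cfsg.oddCore G) hO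
    haveI := Fact.mk hl
    obtain ⟨i, hi⟩ := IsPGroup.iff_card.1 hlg
    rw [hreg.card D.a, hn1] at hi
    obtain ⟨i₁, -, hi₁⟩ := (Nat.dvd_prime_pow hl).1 (hi ▸ dvd_mul_right (2 * j + 1) (4 * j + 1))
    obtain ⟨i₂, -, hi₂⟩ := (Nat.dvd_prime_pow hl).1 (hi ▸ dvd_mul_left (4 * j + 1) (2 * j + 1))
    have hj1 : 1 ≤ j := by omega
    have hl1 : l ∣ 2 * j + 1 := by
      rw [hi₁]; refine dvd_pow_self l ?_; rintro rfl; rw [pow_zero] at hi₁; omega
    have hl2 : l ∣ 4 * j + 1 := by
      rw [hi₂]; refine dvd_pow_self l ?_; rintro rfl; rw [pow_zero] at hi₂; omega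
    have : l ∣ 2 * (2 * j + 1) - (4 * j + 1) := Nat.dvd_sub (hl1.mul_left 2) hl2
    rw [show 2 * (2 * j + 1) - (4 * j + 1) = 1 by omega] at this
    exact hl.ne_one (Nat.dvd_one.1 this)
  obtain ⟨M, hMn, hSM, hinvM, hCM, -, hcase⟩ := TwoPointA5.GWFacts.dihedral_socle hO S (by norm_num) eS
    ⟨s, hsS, D.w, hwS, hsw⟩ (sym_conj D hΦ)
  haveI := hMn
  rcases hcase with ⟨F, _, _, hFodd, -, ⟨ε⟩⟩ | ⟨⟨ε⟩⟩
  · exfalso
    obtain ⟨p, e, he, i, hp, hp2, -, hord, hnV⟩ := exists_odd_translation D hs hodd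
    set y := (e * s * e⁻¹ * s⁻¹) ^ i with hy
    have hyM : y ∈ M := pow_mem (mul_mem (hMn.conj_mem _ (hSM hsS) e) (inv_mem (hSM hsS))) i
    have hyN : y ∈ D.N := pow_mem (mul_mem (mul_mem (mul_mem he (transp_N D hs)) (inv_mem he))
      (inv_mem (transp_N D hs))) i
    have hyo : Odd (orderOf y) := hord ▸ hp.odd_of_ne_two hp2
    have hyc := cen_of_odd D hyN hyo
    have htM : D.t ∈ M := hinvM _ (orderOf_eq_prime (by rw [pow_two, t_sq]) (t_ne D))
    have hwM : D.w ∈ M := hinvM _ (orderOf_eq_prime (by rw [pow_two, w_sq]) (w_ne D))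
    have ho : ∀ {x : G} (hx : x ∈ M), x * x = 1 → x ≠ 1 → orderOf (ε ⟨x, hx⟩) = 2 := fun hx h1 h2 => by
      rw [MulEquiv.orderOf_eq, Subgroup.orderOf_mk]
      exact orderOf_eq_prime (by rw [pow_two, h1]) h2
    have hcomm : ∀ {x : G} (hx : x ∈ M), y * x = x * y → Commute (ε ⟨y, hyM⟩) (ε ⟨x, hx⟩) :=
      fun hx e' => (show Commute (⟨y, hyM⟩ : M) ⟨_, hx⟩ from Subtype.ext e').map ε
    have h1 := GW.ComponentPSL.four_odd hFodd (ho htM (t_sq D) (t_ne D)) (ho hwM (w_sq D) (w_ne D))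
      (fun e' => w_ne_t D (congrArg Subtype.val (ε.injective e')))
      ((show Commute (⟨D.w, hwM⟩ : M) ⟨D.t, htM⟩ from
        Subtype.ext (comm_of_sq D (w_mem D).1 (t_mem D) (w_sq D) (t_sq D))).map ε)
      (hcomm htM ((mem_N D).1 hyN).1)
      (hcomm hwM (mul_inv_eq_iff_eq_mul.1 (hyc _ (w_mem D))))
      (by rw [MulEquiv.orderOf_eq, Subgroup.orderOf_mk]; exact hyo)
    rw [MulEquiv.map_eq_one_iff] at h1
    exact hnV (by rw [show y = 1 from congrArg Subtype.val h1]; exact one_mem _)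
  · have hM : Nat.card M = 2520 := by
      rw [Nat.card_congr ε.toEquiv, nat_card_alternatingGroup]
      simp [Nat.factorial]
    let e7 := MulEquiv.ofBijective _ (S2119.result 7 (by norm_num) (by norm_num))
    let ρ : G →* Equiv.Perm (Fin 7) :=
      e7.symm.toMonoidHom.comp ((MulAut.congr ε).toMonoidHom.comp MulAut.conjNormal)
    have hρ : Function.Injective ρ := by
      rw [injective_iff_map_eq_one]
      intro x hx
      rw [← mem_bot, ← hCM]
      refine mem_centralizer_iff.2 fun m hm => ?_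
      have h0 : (MulAut.congr ε) (MulAut.conjNormal x) = 1 := by
        have := congrArg e7 hx
        rw [map_one] at this
        rw [← this]
        exact (e7.apply_symm_apply _).symm
      have h1 : MulAut.conjNormal (H := M) x = 1 :=
        (MulAut.congr ε).injective (h0.trans (map_one _).symm)
      have h2 : x * m * x⁻¹ = m := by
        simpa using congrArg (fun f : MulAut M => (f ⟨m, hm⟩ : G)) h1
      exact (mul_inv_eq_iff_eq_mul.1 h2).symm
    have h1 := Subgroup.card_dvd_of_injective ρ hρ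
    rw [Nat.card_perm, Nat.card_fin, show Nat.factorial 7 = 5040 from rfl] at h1
    have h2 := M.card_mul_index
    rw [hM] at h2
    rw [← h2] at h1
    have h3 : M.index ∣ 2 := Nat.dvd_of_mul_dvd_mul_left (by norm_num) h1
    have h4' : M.index = 1 := by
      rcases (Nat.dvd_prime Nat.prime_two).1 h3 with h3 | h3
      · exact h3
      · exfalso
        rw [h3] at h2
        have h5 := hfac
        rw [← h2, show 2520 * 2 = 2 ^ 4 * 315 from rfl, Nat.factorization_mul (by norm_num) (by norm_num),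
          Finsupp.add_apply, Nat.Prime.factorization_pow Nat.prime_two, Finsupp.single_eq_same,
          Nat.factorization_eq_zero_of_not_dvd (show ¬ 2 ∣ 315 by norm_num)] at h5
        omega
    have htop : M = ⊤ := index_eq_one.1 h4'
    refine ⟨?_, ⟨((MulEquiv.subgroupCongr htop).trans topEquiv).symm.trans ε⟩⟩
    rw [h4', mul_one] at h2
    rw [card_G D] at h2
    have h6 : Fintype.card Ω * (Fintype.card Ω - 1) = 210 := by omega
    generalize Fintype.card Ω = n at h6
    rcases Nat.lt_or_ge n 15 with h7 | h7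
    · interval_cases n <;> omega
    · rcases Nat.lt_or_ge 15 n with h8 | h8
      · have : 16 * 15 ≤ n * (n - 1) := Nat.mul_le_mul h8 (by omega)
        omega
      · omega

end Cfsg.Agent.TwoPointA4
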