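import Cfsg.Agent.Lib.TwoPointA4.SymInd
import Cfsg.Agent.Lib.TwoPointA5.GWTorus

/-!
# The symmetric case with kernel `⟨t⟩`, odd `r`: the torus of an involution
-/

set_option autoImplicit false
set_option linter.unusedSectionVars false
set_option linter.style.haveILetI false

namespace Cfsg.Agent.TwoPointA4

open MulAction Subgroup

universe u v

/-- The odd core of the centraliser of an element, in the whole group. -/
def coreCent {G : Type u} [Group G] (y : G) : Subgroup G :=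
  (Cfsg.oddCore (centralizer ({y} : Set G))).map (centralizer ({y} : Set G)).subtype

theorem coreCent_conj {G : Type u} [Group G] [Finite G] {y z : G} (k : G) (hz : k * y * k⁻¹ = z) {x : G}
    (hx : x ∈ coreCent y) : k * x * k⁻¹ ∈ coreCent z := by
  set W := centralizer ({y} : Set G) with hW
  set W' := centralizer ({z} : Set G) with hW'
  set M := (coreCent y).map (MulAut.conj k).toMonoidHom with hM
  have hMW : M ≤ W' := by
    rintro _ ⟨q, hq, rfl⟩
    have hqy : Commute q y := mem_centralizer_singleton_iff.1 (map_subtype_le _ hq)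
    refine mem_centralizer_singleton_iff.2 ?_
    rw [← hz]
    exact (hqy.map (MulAut.conj k).toMonoidHom).eq
  have hn : (M.subgroupOf W').Normal := ⟨by
    rintro ⟨m, hm⟩ ⟨q, hq, e⟩ ⟨g, hg⟩
    obtain ⟨q', hq', rfl⟩ := hq
    have hg' : Commute g z := mem_centralizer_singleton_iff.1 hg
    have hgy : k⁻¹ * g * k ∈ W := by
      refine mem_centralizer_singleton_iff.2 ?_
      calc k⁻¹ * g * k * y = k⁻¹ * (g * (k * y * k⁻¹)) * k := by group
        _ = k⁻¹ * ((k * y * k⁻¹) * g) * k := by rw [hz, hg'.eq]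
        _ = y * (k⁻¹ * g * k) := by group
    haveI : (Cfsg.oddCore W).Normal := ZStar.Main.oddCore_normal
    refine ⟨k⁻¹ * g * k * q' * (k⁻¹ * g * k)⁻¹,
      ⟨_, (inferInstance : (Cfsg.oddCore W).Normal).conj_mem q' hq' ⟨_, hgy⟩, rfl⟩, ?_⟩
    show k * (k⁻¹ * g * k * (q' : G) * (k⁻¹ * g * k)⁻¹) * k⁻¹ = g * m * g⁻¹
    rw [← (show k * (q' : G) * k⁻¹ = m from e)]
    group⟩
  have hodd : Odd (Nat.card (M.subgroupOf W')) := by
    rw [Nat.card_congr (subgroupOfEquivOfLe hMW).toEquiv, hM, card_map_of_injective (MulEquiv.injective _),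
      coreCent, card_subtype]
    exact InvChar.Core.odd_card_oddCore
  exact ⟨⟨_, hMW ⟨x, hx, rfl⟩⟩, Agent.Cores.le_oddCore hodd (show _ ∈ M.subgroupOf W' from ⟨x, hx, rfl⟩), rfl⟩

variable {G : Type u} [Group G] [Finite G] {Ω : Type v} [Fintype Ω] [MulAction G Ω]
  [FaithfulSMul G Ω] (D : Data G Ω) {s : G} (hs : D.IsTransp s)

/-- The elements of `C(V)` killed by the `r²`-th power. -/
def Data.CS : Set G := {x | (∀ v ∈ D.V, x * v = v * x) ∧ x ^ (D.r * D.r) = 1}

include hs in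
theorem sym_odd_false {Φ : D.B →* Equiv.Perm (Fin 4)} (hΦ : D.IsSym Φ) (h : ¬ D.KerV) (hodd : Odd D.r) :
    False := by
  classical
  haveI := Fact.mk Nat.prime_two
  obtain ⟨hk, hscls⟩ := sym_k_one D hs h
  obtain ⟨T⟩ := exists_trans_FV D
  obtain ⟨p, e₀, he₀, i₀, hp, hp2, ⟨K, hK0, hrK⟩, hyo, hyV⟩ := exists_odd_translation D hs hodd
  haveI := Fact.mk hp
  have hdeg := (D.X2 h).deg_of_k_one hk
  rw [X2_r, card_Ft] at hdeg
  have hN : Odd (D.r * D.r) := hodd.mul hodd
  have hft : Odd (Fintype.card D.Ft) := by rw [card_Ft, hdeg]; exact hN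
  obtain ⟨E, q, hE, hreg, hEc, -, -, -, -, -, -⟩ := (D.X2 h).regular_of_odd hk hft
  haveI := hE
  haveI := hEc
  haveI := hreg.1
  have hEcard : Nat.card E = D.r * D.r := by rw [hreg.card (D.X2 h).a, card_Ft, hdeg]
  have hEpow : ∀ x ∈ E, x ^ (D.r * D.r) = 1 := fun x hx => by
    have := pow_card_eq_one' (x := (⟨x, hx⟩ : E))
    rw [hEcard] at this
    exact congrArg Subtype.val this
  -- lifts of odd order are unique
  have huniq : ∀ x y : centralizer ({D.t} : Set G), (x : G) ^ (D.r * D.r) = 1 → (y : G) ^ (D.r * D.r) = 1 →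
      D.img x = D.img y → (x : G) = y := by
    intro x y hx hy hxy
    rcases (img_eq_iff D h).1 hxy with e | e
    · exact e.symm
    · exfalso
      have hc : Commute (x : G) D.t := mem_centralizer_singleton_iff.1 x.2
      obtain ⟨i, hi⟩ := hN
      rw [e, hc.mul_pow, hx, one_mul, hi, pow_succ, pow_mul, pow_two, t_sq, one_pow, one_mul] at hy
      exact t_ne D hy
  have hlift : ∀ e ∈ E, ∃ x : centralizer ({D.t} : Set G), D.img x = e ∧ (x : G) ^ (D.r * D.r) = 1 := by
    intro e he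
    obtain ⟨x, rfl⟩ := img_surj D e
    refine ⟨x ^ (D.r * D.r + 1), by rw [map_pow, pow_succ, hEpow _ he, one_mul], ?_⟩
    have h1 : D.img (x ^ (D.r * D.r)) = 1 := by rw [map_pow, hEpow _ he]
    have h2 : ((x : G) ^ (D.r * D.r)) ^ 2 = 1 := by
      rw [pow_two]
      rcases (img_eq_one D h).1 h1 with e' | e'
      · rw [← SubgroupClass.coe_pow, e', one_mul]
      · rw [← SubgroupClass.coe_pow, e', t_sq]
    obtain ⟨i, hi⟩ := hN
    rw [SubgroupClass.coe_pow, ← pow_mul, mul_comm, pow_mul, show D.r * D.r + 1 = 2 * (i + 1) by omega,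
      pow_mul, h2, one_pow]
  -- the elements of odd order over the regular subgroup
  have hcommE : ∀ x y : centralizer ({D.t} : Set G), D.img x ∈ E → D.img y ∈ E →
      (y : G) ^ (D.r * D.r) = 1 → (x : G) * y = y * x := by
    intro x y hx hy hy1
    have h1 : D.img (x * y * x⁻¹) = D.img y := by
      rw [map_mul, map_mul, map_inv, show D.img x * D.img y = D.img y * D.img x from
        congrArg Subtype.val (mul_comm' (⟨_, hx⟩ : E) ⟨_, hy⟩), mul_inv_cancel_right]
    have := huniq _ _ (by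
      show ((x : G) * y * (x : G)⁻¹) ^ (D.r * D.r) = 1
      rw [conj_pow, hy1, mul_one, mul_inv_cancel]) hy1 h1
    exact mul_inv_eq_iff_eq_mul.1 this
  let El : Subgroup G :=
    { carrier := {x | ∃ hx : x ∈ centralizer ({D.t} : Set G), D.img ⟨x, hx⟩ ∈ E ∧ x ^ (D.r * D.r) = 1}
      one_mem' := ⟨one_mem _, by
        rw [show (⟨1, _⟩ : centralizer ({D.t} : Set G)) = 1 from rfl, map_one]; exact one_mem E, one_pow _⟩
      mul_mem' := by
        rintro x y ⟨hx, hxE, hx1⟩ ⟨hy, hyE, hy1⟩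
        refine ⟨mul_mem hx hy, ?_, ?_⟩
        · have := mul_mem hxE hyE
          rwa [← map_mul] at this
        · rw [(show Commute x y from hcommE ⟨x, hx⟩ ⟨y, hy⟩ hxE hyE hy1).mul_pow, hx1, hy1, one_mul]
      inv_mem' := by
        rintro x ⟨hx, hxE, hx1⟩
        refine ⟨inv_mem hx, ?_, by rw [inv_pow, hx1, inv_one]⟩
        have := inv_mem hxE
        rwa [← map_inv] at this }
  have hElC : ∀ x ∈ El, x * D.t = D.t * x := fun x hx => mem_centralizer_singleton_iff.1 hx.1
  have hElc : ∀ x ∈ El, ∀ y ∈ El, x * y = y * x := fun x hx y hy =>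
    hcommE ⟨x, hx.1⟩ ⟨y, hy.1⟩ hx.2.1 hy.2.1 hy.2.2
  have hElcard : Nat.card El = D.r * D.r := by
    rw [← hEcard]
    refine Nat.card_congr (Equiv.ofBijective
      (fun x : El => (⟨D.img ⟨x.1, x.2.1⟩, x.2.2.1⟩ : E)) ⟨?_, ?_⟩)
    · intro x y e
      exact Subtype.ext (huniq ⟨x.1, x.2.1⟩ ⟨y.1, y.2.1⟩ x.2.2.2 y.2.2.2 (congrArg Subtype.val e))
    · rintro ⟨e, he⟩
      obtain ⟨x, rfl, hx⟩ := hlift e he
      exact ⟨⟨x, x.2, he, hx⟩, rfl⟩
  have hwC : D.w ∈ centralizer ({D.t} : Set G) := V_le_cent D (t_mem_V D) (w_mem D)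
  have hwi : D.w⁻¹ = D.w := inv_eq_of_mul_eq_one_left (w_sq D)
  have hElw : ∀ x ∈ El, D.w * x * D.w ∈ El := by
    rintro x ⟨hx, hxE, hx1⟩
    refine ⟨mul_mem (mul_mem hwC hx) hwC, ?_, ?_⟩
    · have := hE.conj_mem _ hxE (D.img ⟨D.w, hwC⟩)
      rw [← map_inv, ← map_mul, ← map_mul] at this
      convert this using 2
      exact Subtype.ext (by simp [hwi])
    · conv_lhs => rw [show D.w * x * D.w = D.w * x * D.w⁻¹ by rw [hwi]]
      rw [conj_pow, hx1, mul_one, mul_inv_cancel]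
  -- the element of order four inverting them
  set u := s * D.w with hudef
  have hsi : s⁻¹ = s := inv_eq_of_mul_eq_one_left hs.sq
  have hsw := transp_conj_w D hs
  have huu : u * u = D.t := by
    rw [hsi] at hsw
    rw [hudef, show s * D.w * (s * D.w) = (s * D.w * s) * D.w by group, hsw, mul_assoc,
      comm_of_sq D (t_mem D) (w_mem D).1 (t_sq D) (w_sq D), ← mul_assoc, w_sq, one_mul]
  have huC : u ∈ centralizer ({D.t} : Set G) := mul_mem (mem_centralizer_singleton_iff.2 hs.comm) hwC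
  have huw : u * D.w * u⁻¹ = D.w * D.t := by
    rw [hudef, show s * D.w * D.w * (s * D.w)⁻¹ = s * (D.w * D.w * D.w⁻¹) * s⁻¹ by group, w_sq, one_mul,
      hwi, hsw]
  set U := D.img ⟨u, huC⟩ with hU
  have hUj : U ∈ (D.X2 h).jays := by
    refine (D.X2 h).mem_jays.2 ⟨?_, fun e => ?_, fun e => ?_⟩
    · rw [hU, ← map_mul]; exact (img_eq_one D h).2 (Or.inr huu)
    · rcases (img_eq_one D h).1 e with e' | e'
      · exact t_ne D (by rw [← huu, show u = 1 from e', one_mul])
      · exact t_ne D (by rw [← huu, show u = D.t from e', t_sq])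
    · exact t_ne D (huu.symm.trans (isT_sq D (cls_isT D h e).1))
  have hinvE : ∀ e ∈ E, U * e * U⁻¹ = e⁻¹ := by
    intro e he
    have hcard1 : Nat.card {z : D.Ft // U • z = z} = 1 := by
      have := (D.X2 h).jays_fix U hUj
      unfold TwoPointA5.fixCard at this
      rw [this, Nat.odd_iff.1 hft]
    obtain ⟨hsub, ⟨⟨z, hz⟩⟩⟩ := Nat.card_eq_one_iff_unique.1 hcard1
    have hU2 : U⁻¹ = U := inv_eq_of_mul_eq_one_left ((D.X2 h).mem_jays.1 hUj).1
    set c := e * (U * e * U⁻¹) with hc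
    have hcE : c ∈ E := mul_mem he (hE.conj_mem e he U)
    have hcU : U * c = c * U := by
      have h1 : U * c * U⁻¹ = c := by
        calc U * c * U⁻¹ = (U * e * U⁻¹) * (U * U * e * (U * U)⁻¹) := by rw [hc]; group
          _ = (U * e * U⁻¹) * e := by rw [((D.X2 h).mem_jays.1 hUj).1]; group
          _ = c := congrArg Subtype.val (mul_comm' (⟨_, hE.conj_mem e he U⟩ : E) ⟨e, he⟩)
      exact mul_inv_eq_iff_eq_mul.1 h1
    have hfix : U • c • z = c • z := by rw [← mul_smul, hcU, mul_smul, hz]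
    have := hreg.2 z c hcE (congrArg Subtype.val (@Subsingleton.elim _ hsub ⟨_, hfix⟩ ⟨z, hz⟩))
    exact eq_inv_of_mul_eq_one_right this
  have hinv : ∀ x ∈ El, u * x * u⁻¹ = x⁻¹ := by
    rintro x ⟨hx, hxE, hx1⟩
    refine huniq ⟨u * x * u⁻¹, mul_mem (mul_mem huC hx) (inv_mem huC)⟩ ⟨x⁻¹, inv_mem hx⟩ ?_ ?_ ?_
    · show (u * x * u⁻¹) ^ _ = 1
      rw [conj_pow, hx1, mul_one, mul_inv_cancel]
    · show (x⁻¹) ^ _ = 1
      rw [inv_pow, hx1, inv_one]
    · have := hinvE _ hxE
      rw [hU, ← map_inv, ← map_inv, ← map_mul, ← map_mul] at this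
      exact this
  -- `C(V)` meets them in `CS`
  have hA : Nat.card D.A = D.r * (D.r - 1) := by
    have hker : Nat.card D.vHom.ker = 4 := by
      rw [← card_V D]
      exact Nat.card_congr
        { toFun := fun g => ⟨(g.1 : G), (vHom_eq_one D).1 g.2⟩
          invFun := fun v => ⟨⟨v.1, V_le_N D v.2⟩, (vHom_eq_one D).2 v.2⟩ }
    have h1 := D.vHom.ker.card_mul_index
    rw [index_ker, hker, card_N] at h1
    exact Nat.eq_of_mul_eq_mul_left (by norm_num) h1
  have hCSN : ∀ x ∈ D.CS, x ∈ D.N := fun x hx => (mem_N D).2 ⟨hx.1 _ (t_mem_V D), mem_normalizer_iff.2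
    fun z => by
      refine ⟨fun hz => by rw [hx.1 z hz, mul_inv_cancel_right]; exact hz, fun hz => ?_⟩
      have e := hx.1 _ hz
      have e2 : z = x * z * x⁻¹ := mul_left_cancel (e.trans (inv_mul_cancel_right _ x))|>.symm
      rw [e2]; exact hz⟩
  have hTodd : ∀ (x : D.N), (x : G) ^ (D.r * D.r) = 1 → (⟨D.vHom x, _, rfl⟩ : D.A) ∈ T.N := by
    intro x hx
    haveI : T.N.Normal := T.normal
    haveI : IsPretransitive T.N D.FV := ⟨fun a₁ b₁ => by
      obtain ⟨g, hg, e⟩ := T.trans a₁ b₁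
      exact ⟨⟨g, hg⟩, e⟩⟩
    set g : D.A := ⟨D.vHom x, _, rfl⟩
    have hidx : T.N.index ∣ D.r - 1 := by
      have h1 := T.N.card_mul_index
      rw [hA, mul_comm D.r] at h1
      have h2 : D.r ∣ Nat.card T.N := by
        let pa : D.FV := ⟨D.a, a_mem_FV D⟩
        have h3 := (stabilizer T.N pa).card_mul_index
        rw [index_stabilizer_of_transitive, Nat.card_eq_fintype_card (α := D.FV), card_FV] at h3
        exact Dvd.intro_left _ h3
      obtain ⟨c, hc⟩ := h2
      rw [hc, mul_assoc, mul_comm D.r (c * T.N.index)] at h1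
      exact Dvd.intro_left _ (Nat.eq_of_mul_eq_mul_right (by have := two_le_r D; omega) h1)
    have h1 : orderOf (g : D.A ⧸ T.N) ∣ D.r * D.r := orderOf_dvd_of_pow_eq_one (by
      rw [← QuotientGroup.mk_pow, show g ^ (D.r * D.r) = 1 from Subtype.ext (by
        show (D.vHom x) ^ (D.r * D.r) = 1
        rw [← map_pow, show x ^ (D.r * D.r) = 1 from Subtype.ext (by simpa using hx), map_one])]
      rfl)
    have h2 : orderOf (g : D.A ⧸ T.N) ∣ D.r - 1 := (_root_.orderOf_dvd_natCard _).trans hidx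
    have hcop : Nat.Coprime (D.r * D.r) (D.r - 1) := by
      have h' : Nat.Coprime D.r (D.r - 1) := by
        have := two_le_r D
        conv_lhs => rw [show D.r = D.r - 1 + 1 by omega]
        exact (Nat.coprime_self_add_left.2 (Nat.coprime_one_left _))
      exact h'.mul_left h'
    exact (QuotientGroup.eq_one_iff g).1 (orderOf_eq_one_iff.1 (Nat.eq_one_of_dvd_coprimes hcop h1 h2))
  have hCS : ∀ x ∈ D.CS, x ∈ El := by
    intro x hx
    have hxN := hCSN x hx
    have hxC : x ∈ centralizer ({D.t} : Set G) := mem_centralizer_singleton_iff.2 (hx.1 _ (t_mem_V D))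
    refine ⟨hxC, ?_, hx.2⟩
    set z := x • D.a
    have hz : z ∈ D.FV := N_inv D x hxN _ (a_mem_FV D)
    obtain ⟨⟨e, he⟩, hez⟩ := exists_smul_eq E (D.X2 h).a (⟨z, FV_le D hz⟩ : D.Ft)
    obtain ⟨y, rfl, hy1⟩ := hlift e he
    have hyz : (y : G) • D.a = z := congrArg Subtype.val hez
    have hyw : D.w * (y : G) * D.w = y := by
      obtain ⟨hC', hE', h1'⟩ := hElw y ⟨y.2, he, hy1⟩
      refine huniq ⟨_, hC'⟩ y h1' hy1 ?_
      have hfix : D.img ⟨_, hC'⟩ • (D.X2 h).a = D.img y • (D.X2 h).a := Subtype.ext (by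
        show (D.w * (y : G) * D.w) • D.a = (y : G) • D.a
        rw [mul_smul, mul_smul, (w_mem D).1.1, hyz, hz _ (w_mem D)])
      exact (inv_mul_eq_one.1 (hreg.2 _ _ (mul_mem (inv_mem he) hE') (by
        rw [mul_smul, hfix, inv_smul_smul]))).symm
    have hyV : ∀ v ∈ D.V, (y : G) * v = v * y := by
      intro v hv
      have h1 : (y : G) * D.w = D.w * y := by
        calc (y : G) * D.w = (D.w * (y : G) * D.w) * D.w := by rw [hyw]
          _ = D.w * y := by rw [mul_assoc, w_sq, mul_one]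
      have h2 : (y : G) * D.t = D.t * y := mem_centralizer_singleton_iff.1 y.2
      rcases V_list D hv with rfl | rfl | rfl | rfl
      · rw [mul_one, one_mul]
      · exact h2
      · exact h1
      · exact ((show Commute (y : G) D.w from h1).mul_right h2).eq
    have hyN := hCSN _ ⟨hyV, hy1⟩
    have hprod : (y : G)⁻¹ * x ∈ D.V := by
      have hm := mul_mem (inv_mem (hTodd ⟨_, hyN⟩ hy1)) (hTodd ⟨x, hxN⟩ hx.2)
      rcases (T.mem_iff _).1 hm with h' | h'
      · refine (vHom_eq_one D (g := ⟨_, mul_mem (inv_mem hyN) hxN⟩)).1 (Equiv.ext fun w => ?_)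
        rw [show (⟨_, mul_mem (inv_mem hyN) hxN⟩ : D.N) = (⟨_, hyN⟩ : D.N)⁻¹ * ⟨x, hxN⟩ from rfl,
          map_mul, map_inv]
        exact h' w
      · exfalso
        refine h' ⟨D.a, a_mem_FV D⟩ (Subtype.ext ?_)
        show (y : G)⁻¹ • x • D.a = D.a
        rw [inv_smul_eq_iff, hyz]
    have hpow : ((y : G)⁻¹ * x) ^ (D.r * D.r) = 1 := by
      have hc : Commute (y : G) x := by
        have h1 : Commute (y : G) ((y : G)⁻¹ * x) := hyV _ hprod
        have h2 := (Commute.refl (y : G)).mul_right h1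
        rwa [mul_inv_cancel_left] at h2
      rw [hc.inv_left.mul_pow, inv_pow, hy1, hx.2, inv_one, one_mul]
    have hone : (y : G)⁻¹ * x = 1 := by
      have h2 : orderOf ((y : G)⁻¹ * x) ∣ 2 := orderOf_dvd_of_pow_eq_one (by rw [pow_two]; exact hprod.2)
      have h3 := orderOf_dvd_of_pow_eq_one hpow
      exact orderOf_eq_one_iff.1 (Nat.eq_one_of_dvd_coprimes (Nat.coprime_two_left.2 hN) h2 h3)
    have : (⟨x, hxC⟩ : centralizer ({D.t} : Set G)) = y := Subtype.ext (inv_mul_eq_one.1 hone).symm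
    rw [this]; exact he
  let Cs : Subgroup G := El ⊓ centralizer (D.V : Set G)
  have hCs : ∀ x, x ∈ Cs ↔ x ∈ D.CS := fun x => by
    constructor
    · rintro ⟨hx, hxV⟩
      exact ⟨fun v hv => (mem_centralizer_iff.1 hxV v hv).symm, hx.2.2⟩
    · intro hx
      exact ⟨hCS x hx, mem_centralizer_iff.2 fun v hv => (hx.1 v hv).symm⟩
  -- the four-group is a Sylow subgroup of the centraliser of an element of `CS`
  have hz2 : ∀ y ∈ D.CS, y ≠ 1 → ∀ z ∈ D.N, z * y = y * z → z * z ∈ D.V → z ∈ D.V := by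
    intro y hy hy1 z hz hzy hzz
    by_contra hzV
    obtain ⟨⟨q, hq⟩, hzq, hu'⟩ := (invol_N D hz hzz hzV).1 hodd
    have hyN := hCSN y hy
    have h2 := congrArg Subtype.val (hu' ⟨y • q, N_inv D y hyN q hq⟩ (by
      show z • y • q = y • q
      rw [← mul_smul, hzy, mul_smul, hzq]))
    rcases (T.mem_iff _).1 (hTodd ⟨y, hyN⟩ hy.2) with h' | h'
    · have hyV' : y ∈ D.V := (vHom_eq_one D (g := ⟨y, hyN⟩)).1 (Equiv.ext fun w => h' w)
      exact hy1 (orderOf_eq_one_iff.1 (Nat.eq_one_of_dvd_coprimes (Nat.coprime_two_left.2 hN)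
        (orderOf_dvd_of_pow_eq_one (by rw [pow_two]; exact hyV'.2)) (orderOf_dvd_of_pow_eq_one hy.2)))
    · exact h' ⟨q, hq⟩ (Subtype.ext h2)
  have hconjV : ∀ k ∈ D.K, ∀ v, v ∈ D.V → k * v * k⁻¹ ∈ D.V := fun k hk v hv =>
    ⟨mul_mem (mul_mem hk hv.1) (inv_mem hk), by
      rw [show k * v * k⁻¹ * (k * v * k⁻¹) = k * (v * v) * k⁻¹ by group, hv.2]; group⟩
  have hCSconj : ∀ k ∈ D.K, ∀ y ∈ D.CS, k⁻¹ * y * k ∈ D.CS := by
    intro k hk y hy
    refine ⟨fun v hv => ?_, ?_⟩
    · calc k⁻¹ * y * k * v = k⁻¹ * (y * (k * v * k⁻¹)) * k := by group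
        _ = k⁻¹ * ((k * v * k⁻¹) * y) * k := by rw [hy.1 _ (hconjV k hk v hv)]
        _ = v * (k⁻¹ * y * k) := by group
    · conv_lhs => rw [show k⁻¹ * y * k = k⁻¹ * y * k⁻¹⁻¹ by group]
      rw [conj_pow, hy.2, mul_one, mul_inv_cancel]
  have hnoext : ∀ y ∈ D.CS, y ≠ 1 → ∀ g : G, g ∈ normalizer (D.V : Set G) → g * y = y * g →
      g * g ∈ D.V → g ∈ D.V := by
    intro y hy hy1 g hgn hgy hgg
    -- `g` fixes an involution of `V`
    obtain ⟨v, hv, hv1, hgv⟩ : ∃ v ∈ D.V, v ≠ 1 ∧ g * v = v * g := by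
      set w' := g * D.w * g⁻¹
      have hw' : w' ∈ D.V := (mem_normalizer_iff.1 hgn _).1 (w_mem D)
      have hw'' : g * w' * g⁻¹ = D.w := by
        have e := comm_of_sq D hgg.1 (w_mem D).1 hgg.2 (w_sq D)
        calc g * w' * g⁻¹ = (g * g) * D.w * (g * g)⁻¹ := by simp only [w']; group
          _ = D.w := by rw [e, mul_inv_cancel_right]
      by_cases e : w' = D.w
      · exact ⟨D.w, w_mem D, w_ne D, mul_inv_eq_iff_eq_mul.1 e⟩
      · refine ⟨D.w * w', mul_mem (w_mem D) hw', fun e1 => e ?_, mul_inv_eq_iff_eq_mul.1 ?_⟩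
        · exact (eq_inv_of_mul_eq_one_right e1).trans hwi
        · calc g * (D.w * w') * g⁻¹ = (g * D.w * g⁻¹) * (g * w' * g⁻¹) := by group
            _ = w' * D.w := by rw [hw'']
            _ = D.w * w' := comm_of_sq D hw'.1 (w_mem D).1 hw'.2 (w_sq D)
    obtain ⟨k, hk, hkv⟩ := conj_in_K D (t_mem D) hv.1 (t_sq D) hv.2 (t_ne D) hv1
    have hg' : k⁻¹ * g * k * D.t = D.t * (k⁻¹ * g * k) := by
      calc k⁻¹ * g * k * D.t = k⁻¹ * (g * (k * D.t * k⁻¹)) * k := by group
        _ = k⁻¹ * ((k * D.t * k⁻¹) * g) * k := by rw [hkv, hgv]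
        _ = D.t * (k⁻¹ * g * k) := by group
    have hkn : k ∈ normalizer (D.V : Set G) := mem_normalizer_iff.2 fun z => ⟨hconjV k hk z, fun hz => by
      have := hconjV k⁻¹ (inv_mem hk) _ hz
      rwa [show k⁻¹ * (k * z * k⁻¹) * k⁻¹⁻¹ = z by group] at this⟩
    have hmem : k⁻¹ * g * k ∈ D.N := (mem_N D).2 ⟨hg', mul_mem (mul_mem (inv_mem hkn) hgn) hkn⟩
    have := hz2 _ (hCSconj k hk y hy) (fun e => hy1 (by
      rw [show y = k * (k⁻¹ * y * k) * k⁻¹ by group, e]; group)) _ hmem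
      (by
        calc k⁻¹ * g * k * (k⁻¹ * y * k) = k⁻¹ * (g * y) * k := by group
          _ = k⁻¹ * y * k * (k⁻¹ * g * k) := by rw [hgy]; group)
      (by rw [show k⁻¹ * g * k * (k⁻¹ * g * k) = k⁻¹ * (g * g) * k by group]
          exact (mem_normalizer_iff''.1 hkn _).1 hgg)
    rw [show g = k * (k⁻¹ * g * k) * k⁻¹ by group]
    exact hconjV k hk _ this
  -- the torus lemma
  have htorus : ∀ y ∈ D.CS, y ≠ 1 → ∀ x ∈ El, x * (D.w * x * D.w)⁻¹ ∈ coreCent y := by
    intro y hy hy1 x hx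
    set e := x * (D.w * x * D.w)⁻¹ with hedef
    have heEl : e ∈ El := mul_mem hx (inv_mem (hElw x hx))
    set W := centralizer ({y} : Set G) with hW
    have hVW : D.V ≤ W := fun v hv => mem_centralizer_singleton_iff.2 (hy.1 v hv).symm
    obtain ⟨S, hS⟩ := (IsPGroup.of_card (p := 2) (n := 2) (G := D.V.subgroupOf W) (by
      rw [Nat.card_congr (subgroupOfEquivOfLe hVW).toEquiv, card_V]; rfl)).exists_le_sylow
    have hSV : (S : Subgroup W) = D.V.subgroupOf W := by
      refine le_antisymm ?_ hS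
      by_contra hle
      obtain ⟨z, hz, hzV⟩ := SetLike.not_le_iff_exists.1 hle
      -- the normaliser in `S` grows
      set H := D.V.subgroupOf W
      set H' := H.subgroupOf (S : Subgroup W)
      have hlt : H' < ⊤ := lt_top_iff_ne_top.2 fun e => hzV (by
        have : (⟨z, hz⟩ : (S : Subgroup W)) ∈ H' := e ▸ mem_top _
        exact this)
      haveI : Group.IsNilpotent (S : Subgroup W) := IsPGroup.isNilpotent S.2
      have hgrow := Group.normalizerCondition_of_isNilpotent H' hlt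
      obtain ⟨g, hgn, hgH⟩ := SetLike.exists_of_lt hgrow
      -- an element outside whose square is inside
      obtain ⟨i, hi⟩ := S.2 g
      have key : ∀ m : ℕ, ∀ g ∈ normalizer (H' : Set (S : Subgroup W)), g ^ (2 ^ m) ∈ H' → g ∈ H' := by
        intro m
        induction m with
        | zero => intro g _ hg; simpa using hg
        | succ m ih =>
          intro g hg hgm
          have h2 : g ^ 2 ∈ H' := ih (g ^ 2) (pow_mem hg 2) (by rwa [← pow_mul, ← pow_succ'])
          rw [mem_subgroupOf, mem_subgroupOf] at h2 ⊢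
          refine hnoext y hy hy1 _ ?_ (mem_centralizer_singleton_iff.1 (g : W).2) (by
            simpa [pow_two] using h2)
          refine mem_normalizer_iff.2 fun v => ?_
          constructor
          · intro hv
            have hvS : (⟨v, hVW hv⟩ : W) ∈ (S : Subgroup W) := hS hv
            exact (mem_normalizer_iff.1 hg ⟨_, hvS⟩).1 hv
          · intro hv
            have hv' := hS (show (⟨_, hVW hv⟩ : W) ∈ H from hv)
            have h3 := (mem_normalizer_iff''.1 hg ⟨_, hv'⟩).1 hv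
            have h4 : ((g : W) : G)⁻¹ * (((g : W) : G) * v * ((g : W) : G)⁻¹) * ((g : W) : G) ∈ D.V := h3
            rwa [show ((g : W) : G)⁻¹ * (((g : W) : G) * v * ((g : W) : G)⁻¹) * ((g : W) : G) = v by group] at h4
      exact hgH (key i g hgn (by rw [hi]; exact one_mem _))
    have hS4 : Nat.card (S : Subgroup W) = 4 := by
      rw [hSV, Nat.card_congr (subgroupOfEquivOfLe hVW).toEquiv, card_V]
    have hSsq : ∀ z ∈ (S : Subgroup W), z * z = 1 := fun z hz => by
      rw [hSV] at hz; exact Subtype.ext (mem_subgroupOf.1 hz).2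
    have hyEl : y ∈ El := hCS y hy
    have heW : e ∈ W := mem_centralizer_singleton_iff.2 (hElc e heEl y hyEl)
    have heo : Odd (orderOf (⟨e, heW⟩ : W)) := by
      rw [Subgroup.orderOf_mk]
      exact hN.of_dvd_nat (orderOf_dvd_of_pow_eq_one heEl.2.2)
    suffices hc : (⟨e, heW⟩ : W) ∈ Cfsg.oddCore W from ⟨_, hc, rfl⟩
    have htW : D.t ∈ W := hVW (t_mem_V D)
    have hwW : D.w ∈ W := hVW (w_mem D)
    by_cases hfus : ∃ r ∈ normalizer ((S : Subgroup W) : Set W), ∃ z ∈ (S : Subgroup W), r * z * r⁻¹ ≠ z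
    · have hnorm : ∀ z, z ∈ W ↔ u * z * u⁻¹ ∈ W := by
        intro z
        have hy' : u * y * u⁻¹ = y⁻¹ := hinv y hyEl
        rw [hW, mem_centralizer_singleton_iff, mem_centralizer_singleton_iff]
        constructor
        · intro hz
          have : Commute (u * z * u⁻¹) y⁻¹ := by
            have := (show Commute z y from hz).map (MulAut.conj u).toMonoidHom
            simpa [hy'] using this
          exact this.inv_right.eq.trans (by rw [inv_inv]) |> fun e => by simpa using e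
        · intro hz
          have h1 : Commute (u * z * u⁻¹) (u * y * u⁻¹) := by rw [hy']; exact (show Commute _ y from hz).inv_right
          have h2 := h1.map (MulAut.conj u⁻¹).toMonoidHom
          simpa [mul_assoc] using h2.eq
      let α : MulAut W :=
        { toFun := fun z => ⟨u * z * u⁻¹, (hnorm z).1 z.2⟩
          invFun := fun z => ⟨u⁻¹ * z * u, (hnorm _).2 (by
            rw [show u * (u⁻¹ * (z : G) * u) * u⁻¹ = z by group]; exact z.2)⟩
          left_inv := fun z => Subtype.ext (by show u⁻¹ * (u * (z : G) * u⁻¹) * u = z; group)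
          right_inv := fun z => Subtype.ext (by show u * (u⁻¹ * (z : G) * u) * u⁻¹ = z; group)
          map_mul' := fun z z' => Subtype.ext (by
            show u * ((z : G) * z') * u⁻¹ = u * z * u⁻¹ * (u * z' * u⁻¹); group) }
      have hee : D.w * e * D.w⁻¹ = e⁻¹ := by
        rw [hwi, hedef]
        calc D.w * (x * (D.w * x * D.w)⁻¹) * D.w = (D.w * x * D.w) * (D.w⁻¹ * (D.w * x * D.w)⁻¹ * D.w) := by
              group
          _ = (D.w * x * D.w) * x⁻¹ := by
              congr 1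
              rw [_root_.mul_inv_rev, _root_.mul_inv_rev, hwi]
              calc D.w * (D.w * (x⁻¹ * D.w)) * D.w = (D.w * D.w) * x⁻¹ * (D.w * D.w) := by group
                _ = x⁻¹ := by rw [w_sq, one_mul, mul_one]
          _ = (x * (D.w * x * D.w)⁻¹)⁻¹ := by group
      refine TwoPointA5.GWFacts.torus_mem_core S hS4 hSsq hfus α (t := ⟨D.t, htW⟩) (w := ⟨D.w, hwW⟩)
        (hSV ▸ mem_subgroupOf.2 (t_mem_V D)) (hSV ▸ mem_subgroupOf.2 (w_mem D))
        (fun e1 => t_ne D (congrArg Subtype.val e1)) (fun e1 => w_ne D (congrArg Subtype.val e1))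
        (fun e1 => w_ne_t D (congrArg Subtype.val e1)) ?_ ?_ ?_ ?_ ?_ ?_ heo
      · exact Subtype.ext (show u * D.t * u⁻¹ = D.t by
          rw [mem_centralizer_singleton_iff.1 huC, mul_inv_cancel_right])
      · exact Subtype.ext huw
      · intro z
        exact Subtype.ext (show u * (u * (z : G) * u⁻¹) * u⁻¹ = D.t * z * D.t⁻¹ by rw [← huu]; group)
      · exact Subtype.ext (hElC e heEl)
      · exact Subtype.ext hee
      · exact Subtype.ext (hinv e heEl)
    · push Not at hfus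
      have hle : normalizer ((S : Subgroup W) : Set W) ≤ centralizer ((S : Subgroup W) : Set W) :=
        fun r hr => mem_centralizer_iff.2 fun z hz => (mul_inv_eq_iff_eq_mul.1 (hfus r hr z hz)).symm
      set M := (MonoidHom.transferSylow S hle).ker with hM
      have hModd : Odd (Nat.card M) := by
        rw [Nat.odd_iff, ← Nat.two_dvd_ne_zero]
        exact MonoidHom.not_dvd_card_ker_transferSylow S hle
      haveI : M.Normal := MonoidHom.normal_ker _
      refine Agent.Cores.le_oddCore hModd ?_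
      rw [hM, MonoidHom.mem_ker]
      refine orderOf_eq_one_iff.1 (Nat.eq_one_of_dvd_coprimes ?_ (orderOf_map_dvd _ _)
        (orderOf_dvd_natCard _))
      rw [hS4, show 4 = 2 ^ 2 from rfl]
      exact Nat.Coprime.pow_right _ (Nat.coprime_two_right.2 heo)
  -- the element and the group of odd order
  set y := (e₀ * s * e₀⁻¹ * s⁻¹) ^ i₀ with hydef
  have hyN : y ∈ D.N := pow_mem (mul_mem (mul_mem (mul_mem he₀ (transp_N D hs)) (inv_mem he₀))
    (inv_mem (transp_N D hs))) i₀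
  have hyodd : Odd (orderOf y) := hyo ▸ hp.odd_of_ne_two hp2
  have hy : y ∈ D.CS := ⟨fun v hv => mul_inv_eq_iff_eq_mul.1 (cen_of_odd D hyN hyodd v hv),
    orderOf_dvd_iff_pow_eq_one.1 (by rw [hyo, hrK]; exact Dvd.dvd.mul_left (dvd_pow_self p hK0) _)⟩
  have hy1 : y ≠ 1 := fun e => hyV (e ▸ one_mem _)
  set W := centralizer ({y} : Set G) with hW
  have hCsW : Cs ≤ W := fun x hx => mem_centralizer_singleton_iff.2 (hElc x hx.1 y (hCS y hy))
  haveI : (Cfsg.oddCore W).Normal := ZStar.Main.oddCore_normal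
  set R' : Subgroup W := Cfsg.oddCore W ⊔ Cs.subgroupOf W with hR'
  set R : Subgroup G := R'.map W.subtype with hR
  have hRodd : Odd (Nat.card R) := by
    rw [hR, card_subtype, ← Nat.not_even_iff_odd]
    intro he
    obtain ⟨⟨z, hz⟩, hz2⟩ := exists_prime_orderOf_dvd_card' (G := R') 2 (even_iff_two_dvd.1 he)
    rw [Subgroup.orderOf_mk] at hz2
    have hz' : z ∈ ((Cfsg.oddCore W ⊔ Cs.subgroupOf W : Subgroup W) : Set W) := hz
    rw [Subgroup.normal_mul] at hz'
    obtain ⟨o, ho, c, hc, hoc⟩ := hz'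
    have hco : c ^ (D.r * D.r) = 1 := Subtype.ext (by
      simpa using ((hCs _).1 (mem_subgroupOf.1 hc)).2)
    have h1 : ((z : W) : W ⧸ Cfsg.oddCore W) = (c : W ⧸ Cfsg.oddCore W) := by
      rw [← show o * c = z from hoc, QuotientGroup.mk_mul, (QuotientGroup.eq_one_iff o).2 ho, one_mul]
    have h2 : orderOf (z : W ⧸ Cfsg.oddCore W) ∣ 2 := hz2 ▸ orderOf_map_dvd (QuotientGroup.mk' _) z
    have h3 : orderOf (z : W ⧸ Cfsg.oddCore W) ∣ D.r * D.r := h1 ▸ orderOf_dvd_of_pow_eq_one (by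
      rw [← QuotientGroup.mk_pow, hco]; rfl)
    have hzO : z ∈ Cfsg.oddCore W := (QuotientGroup.eq_one_iff z).1
      (orderOf_eq_one_iff.1 (Nat.eq_one_of_dvd_coprimes (Nat.coprime_two_left.2 hN) h2 h3))
    have h4 : 2 ∣ Nat.card (Cfsg.oddCore W) := by
      rw [← hz2, ← Subgroup.orderOf_mk z hzO]; exact orderOf_dvd_natCard _
    exact Nat.not_even_iff_odd.2 InvChar.Core.odd_card_oddCore (even_iff_two_dvd.2 h4)
  have hCsR : ∀ x ∈ Cs, x ∈ R := fun x hx => ⟨⟨x, hCsW hx⟩, mem_sup_right hx, rfl⟩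
  have hOR : ∀ x ∈ coreCent y, x ∈ R := fun x ⟨o, ho, e⟩ => ⟨o, mem_sup_left ho, e⟩
  -- it contains the conjugates of the lifted regular subgroup
  have hElR : ∀ k ∈ D.K, ∀ x ∈ El, k * x * k⁻¹ ∈ R := by
    intro k hk x hx
    have hy' := hCSconj k hk y hy
    have hy'1 : k⁻¹ * y * k ≠ 1 := fun e => hy1 (by
      rw [show y = k * (k⁻¹ * y * k) * k⁻¹ by group, e]; group)
    have h1 := coreCent_conj k (z := y) (by group) (htorus _ hy' hy'1 x hx)
    set c := x * (D.w * x * D.w) with hc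
    have hcEl : c ∈ El := mul_mem hx (hElw x hx)
    have hcS : c ∈ D.CS := by
      have hcw : D.w * c * D.w = c := by
        calc D.w * c * D.w = (D.w * x * D.w) * ((D.w * D.w) * x * (D.w * D.w)) := by
              rw [hc]
              simp only [mul_assoc]
              rw [show ∀ z, D.w * (D.w * z) = z from fun z => by rw [← mul_assoc, w_sq, one_mul]]
          _ = (D.w * x * D.w) * x := by rw [w_sq, one_mul, mul_one]
          _ = c := hElc _ (hElw x hx) x hx
      refine ⟨fun v hv => ?_, hcEl.2.2⟩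
      have h1 : c * D.w = D.w * c := by
        calc c * D.w = (D.w * c * D.w) * D.w := by rw [hcw]
          _ = D.w * c := by rw [mul_assoc, w_sq, mul_one]
      rcases V_list D hv with rfl | rfl | rfl | rfl
      · rw [mul_one, one_mul]
      · exact hElC c hcEl
      · exact h1
      · exact ((show Commute c D.w from h1).mul_right (hElC c hcEl)).eq
    have h2 : k * c * k⁻¹ ∈ R := hCsR _ ((hCs _).2 (by
      have := hCSconj k⁻¹ (inv_mem hk) c hcS
      rwa [inv_inv] at this))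
    have h3 : k * (x * x) * k⁻¹ ∈ R := by
      have h4 := mul_mem (hOR _ h1) h2
      have e : (k * (x * (D.w * x * D.w)⁻¹) * k⁻¹) * (k * c * k⁻¹) = k * (x * x) * k⁻¹ := by
        rw [show k * (x * (D.w * x * D.w)⁻¹) * k⁻¹ * (k * c * k⁻¹) =
          k * (x * ((D.w * x * D.w)⁻¹ * c)) * k⁻¹ by group, hc, hElc x hx _ (hElw x hx),
          inv_mul_cancel_left]
      rwa [e] at h4
    obtain ⟨i, hi⟩ := hN
    have e : k * x * k⁻¹ = (k * (x * x) * k⁻¹) ^ (i + 1) := by
      rw [conj_pow, ← pow_two, ← pow_mul, show 2 * (i + 1) = D.r * D.r + 1 by omega, pow_succ, hx.2.2,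
        one_mul]
    rw [e]; exact pow_mem h3 _
  -- count
  have hnV : ∀ v ∈ D.V, ∀ z ∈ R, v * z * v⁻¹ ∈ R := by
    intro v hv z hz
    obtain ⟨z', hz', rfl⟩ := hz
    have hvW : v ∈ W := mem_centralizer_singleton_iff.2 (hy.1 v hv).symm
    refine ⟨⟨v, hvW⟩ * z' * ⟨v, hvW⟩⁻¹, ?_, rfl⟩
    have hN1 : (⟨v, hvW⟩ : W) ∈ normalizer ((R' : Subgroup W) : Set W) := by
      refine mem_normalizer_iff.2 ?_
      have hfwd : ∀ a : W, (∀ c ∈ Cs.subgroupOf W, a * c * a⁻¹ = c) → ∀ z ∈ R', a * z * a⁻¹ ∈ R' := by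
        intro a ha z hz
        have hz' : z ∈ ((Cfsg.oddCore W ⊔ Cs.subgroupOf W : Subgroup W) : Set W) := hz
        rw [Subgroup.normal_mul] at hz'
        obtain ⟨o, ho, c, hc, rfl⟩ := hz'
        rw [show a * (o * c) * a⁻¹ = (a * o * a⁻¹) * (a * c * a⁻¹) by group, ha c hc]
        exact mul_mem (mem_sup_left ((inferInstance : (Cfsg.oddCore W).Normal).conj_mem o ho a))
          (mem_sup_right hc)
      have hc' : ∀ c ∈ Cs.subgroupOf W, (⟨v, hvW⟩ : W) * c * (⟨v, hvW⟩ : W)⁻¹ = c := fun c hc =>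
        Subtype.ext (show v * (c : G) * v⁻¹ = c by
          rw [← ((hCs _).1 (mem_subgroupOf.1 hc)).1 v hv, mul_inv_cancel_right])
      refine fun z => ⟨hfwd _ hc' z, fun hz => ?_⟩
      have := hfwd (⟨v, hvW⟩ : W)⁻¹ (fun c hc => by
        have := hc' c hc
        rw [inv_inv]
        nth_rewrite 1 [← this]
        group) _ hz
      rwa [show (⟨v, hvW⟩ : W)⁻¹ * ((⟨v, hvW⟩ : W) * z * (⟨v, hvW⟩ : W)⁻¹) * (⟨v, hvW⟩ : W)⁻¹⁻¹ = z by
        group] at this
    exact (mem_normalizer_iff.1 hN1 z').1 hz'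
  have hbig : ∀ v ∈ D.V, v ≠ 1 → D.r * D.r ∣ Nat.card ↥(R ⊓ centralizer ({v} : Set G)) := by
    intro v hv hv1
    obtain ⟨k, hk, hkv⟩ := conj_in_K D (t_mem D) hv.1 (t_sq D) hv.2 (t_ne D) hv1
    have hmap : Nat.card (El.map (MulAut.conj k).toMonoidHom) = Nat.card El :=
      card_map_of_injective (MulAut.conj k).injective
    rw [← hElcard, ← hmap]
    refine card_dvd_of_le ?_
    rintro _ ⟨x, hx, rfl⟩
    refine ⟨hElR k hk x hx, mem_centralizer_singleton_iff.2 ?_⟩
    show k * x * k⁻¹ * v = v * (k * x * k⁻¹)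
    rw [← hkv, show k * x * k⁻¹ * (k * D.t * k⁻¹) = k * (x * D.t) * k⁻¹ by group, hElC x hx]
    group
  have hcount := Jordan4.card_klein hRodd (t_sq D) (w_sq D)
    (comm_of_sq D (t_mem D) (w_mem D).1 (t_sq D) (w_sq D)) (hnV _ (t_mem_V D)) (hnV _ (w_mem D))
  have hc4 : Nat.card ↥(R ⊓ centralizer ({D.t, D.w} : Set G)) ∣ 4 * (D.r * (D.r - 1)) := by
    rw [← card_N D]
    refine card_dvd_of_le fun x hx => ?_
    have h1 : x * D.t = D.t * x := (mem_centralizer_iff.1 hx.2 D.t (by simp)).symm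
    have h2 : x * D.w = D.w * x := (mem_centralizer_iff.1 hx.2 D.w (by simp)).symm
    have hV' : ∀ v ∈ D.V, x * v = v * x := fun v hv => by
      rcases V_list D hv with rfl | rfl | rfl | rfl
      · rw [mul_one, one_mul]
      · exact h1
      · exact h2
      · exact ((show Commute x D.w from h2).mul_right h1).eq
    refine (mem_N D).2 ⟨h1, mem_normalizer_iff.2 fun z => ?_⟩
    refine ⟨fun hz => by rw [hV' z hz, mul_inv_cancel_right]; exact hz, fun hz => ?_⟩
    have e := hV' _ hz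
    have e2 : z = x * z * x⁻¹ := (mul_left_cancel (e.trans (inv_mul_cancel_right _ x))).symm
    rw [e2]; exact hz
  have hwt1 : D.t * D.w ≠ 1 := fun e => w_ne_t D (by
    rw [← one_mul D.w, ← t_sq D, mul_assoc, e, mul_one])
  have h6 : (D.r * D.r) * (D.r * D.r) * (D.r * D.r) ∣ Nat.card R * (4 * (D.r * (D.r - 1))) ^ 2 := by
    refine dvd_trans ?_ (Nat.mul_dvd_mul_left _ (pow_dvd_pow_of_dvd hc4 2))
    rw [hcount]
    exact mul_dvd_mul (mul_dvd_mul (hbig _ (t_mem_V D) (t_ne D)) (hbig _ (w_mem D) (w_ne D)))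
      (hbig _ (mul_mem (t_mem_V D) (w_mem D)) hwt1)
  obtain ⟨j, hj⟩ : ∃ j, D.r = j + 2 := ⟨D.r - 2, by have := two_le_r D; omega⟩
  have hpr : p ∣ D.r := hrK ▸ dvd_pow_self p hK0
  have hcop1 : Nat.Coprime D.r (D.r - 1) := by
    conv_lhs => rw [show D.r = D.r - 1 + 1 by omega]
    exact Nat.coprime_self_add_left.2 (Nat.coprime_one_left _)
  have h4r : D.r * D.r * (D.r * D.r) ∣ Nat.card R := by
    have h7 : (D.r * D.r) * (D.r * D.r) * (D.r * D.r) ∣
        Nat.card R * (16 * (D.r - 1) ^ 2) * (D.r * D.r) := by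
      refine h6.trans (dvd_of_eq ?_); ring
    have h8 := Nat.dvd_of_mul_dvd_mul_right (Nat.mul_pos (by omega) (by omega)) h7
    refine Nat.Coprime.dvd_of_dvd_mul_right ?_ h8
    have h9 : Nat.Coprime D.r (16 * (D.r - 1) ^ 2) :=
      Nat.Coprime.mul_right (by
        rw [show 16 = 2 ^ 4 from rfl]; exact Nat.Coprime.pow_right _ (Nat.coprime_two_right.2 hodd))
        (hcop1.pow_right 2)
    exact ((h9.mul_left h9).mul_left (h9.mul_left h9))
  have hn : Fintype.card Ω = D.f * (2 * D.f - 1) := sym_deg D hΦ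
  have hG := card_subgroup_dvd_card R
  rw [card_G D, hn, hdeg] at hG
  set m := D.r * D.r with hm
  have hm4 : 4 ≤ m := Nat.mul_le_mul (two_le_r D) (two_le_r D)
  have e1 : m * (2 * m - 1) - 1 = (2 * m + 1) * (m - 1) := by
    obtain ⟨i, hi⟩ : ∃ i, m = i + 1 := ⟨m - 1, by omega⟩
    rw [hi, show 2 * (i + 1) - 1 = 2 * i + 1 by omega, Nat.add_sub_cancel]
    have : (i + 1) * (2 * i + 1) = (2 * (i + 1) + 1) * i + 1 := by ring
    omega
  rw [e1] at hG
  have h10 : m * m ∣ m * (12 * ((2 * m - 1) * ((2 * m + 1) * (m - 1)))) := by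
    refine (h4r.trans hG).trans (dvd_of_eq ?_); ring
  have h11 := Nat.dvd_of_mul_dvd_mul_left (by omega) h10
  have c1 : Nat.Coprime m (2 * m - 1) := by
    refine Nat.coprime_of_dvd fun l hl hlm hl1 => hl.ne_one (Nat.dvd_one.1 ?_)
    have := Nat.dvd_sub (hlm.mul_left 2) hl1
    rwa [show 2 * m - (2 * m - 1) = 1 by omega] at this
  have c2 : Nat.Coprime m (2 * m + 1) := by
    refine Nat.coprime_of_dvd fun l hl hlm hl1 => hl.ne_one (Nat.dvd_one.1 ?_)
    have := Nat.dvd_sub hl1 (hlm.mul_left 2)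
    rwa [show 2 * m + 1 - 2 * m = 1 by omega] at this
  have c3 : Nat.Coprime m (m - 1) := by
    conv_lhs => rw [show m = m - 1 + 1 by omega]
    exact Nat.coprime_self_add_left.2 (Nat.coprime_one_left _)
  have h12 : m ∣ 12 := Nat.Coprime.dvd_of_dvd_mul_right (c1.mul_right (c2.mul_right c3)) h11
  have hm12 := Nat.le_of_dvd (by norm_num) h12
  have hr3 : D.r = 3 := by
    have h2 := two_le_r D
    obtain ⟨i, hi⟩ := hodd
    by_contra hne
    have : 5 * 5 ≤ m := Nat.mul_le_mul (by omega) (by omega)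
    omega
  rw [hm, hr3] at h12
  norm_num at h12

end Cfsg.Agent.TwoPointA4
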