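import Cfsg.Agent.Lib.TwoPointA4.Trans

/-!
# The central exchange is a conjugate of `t`: the kernel is the four-group
-/

set_option autoImplicit false
set_option linter.unusedSectionVars false
set_option linter.style.haveILetI false

namespace Cfsg.Agent.TwoPointA4

open MulAction Subgroup

universe u v

/-- Orbit and stabiliser for conjugation by a subgroup. -/
theorem card_conj_orbit {G : Type u} [Group G] [Finite G] (M : Subgroup G) (t : G) (S : Set G)
    (hsub : ∀ g ∈ M, g * t * g⁻¹ ∈ S) (htr : ∀ s ∈ S, ∃ g ∈ M, g * t * g⁻¹ = s) :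
    Nat.card M = S.ncard * Nat.card ↥(M ⊓ centralizer ({t} : Set G)) := by
  haveI : Finite (ConjAct G) := inferInstanceAs (Finite G)
  let M' : Subgroup (ConjAct G) := M.map (ConjAct.toConjAct : G ≃* ConjAct G).toMonoidHom
  have horb : orbit M' t = S := by
    ext s
    constructor
    · rintro ⟨⟨_, g, hg, rfl⟩, rfl⟩
      exact hsub g hg
    · intro hs
      obtain ⟨g, hg, rfl⟩ := htr s hs
      exact ⟨⟨_, g, hg, rfl⟩, rfl⟩
  have h1 := (stabilizer M' t).card_mul_index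
  rw [index_stabilizer, horb] at h1
  have h2 : Nat.card M' = Nat.card M := card_map_of_injective (MulEquiv.injective _)
  have h3 : Nat.card (stabilizer M' t) = Nat.card ↥(M ⊓ centralizer ({t} : Set G)) := by
    refine (Nat.card_congr
      { toFun := fun g : ↥(M ⊓ centralizer ({t} : Set G)) =>
          (⟨⟨ConjAct.toConjAct (g : G), _, g.2.1, rfl⟩, by
            show ConjAct.toConjAct (g : G) • t = t
            rw [ConjAct.toConjAct_smul, mem_centralizer_singleton_iff.1 g.2.2, mul_inv_cancel_right]⟩ :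
            stabilizer M' t)
        invFun := fun x => ⟨ConjAct.ofConjAct (x.1 : ConjAct G), by
          obtain ⟨⟨_, g, hg, rfl⟩, hx⟩ := x
          refine ⟨hg, mem_centralizer_singleton_iff.2 ?_⟩
          exact mul_inv_eq_iff_eq_mul.1 hx⟩
        left_inv := fun _ => rfl
        right_inv := fun _ => rfl }).symm
  rw [h3, h2] at h1
  rw [← h1, mul_comm]

variable {G : Type u} [Group G] [Finite G] {Ω : Type v} [Fintype Ω] [MulAction G Ω]
  [FaithfulSMul G Ω] (D : Data G Ω) {τ : G} (hτ : D.IsTau τ) (hT : D.IsT τ)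

include hτ hT in
/-- A conjugate of the four-group centralises `t` and fixes two points exchanged by `t`. -/
theorem exists_four : ∃ g : G, g * τ * g⁻¹ = D.t ∧ D.t • g • D.a = g • D.b ∧
    (∀ v ∈ D.V, g * v * g⁻¹ * D.t = D.t * (g * v * g⁻¹)) ∧
    ∀ k ∈ D.K, g * k * g⁻¹ * D.t = D.t * (g * k * g⁻¹) := by
  obtain ⟨h, hh⟩ := hT
  refine ⟨h⁻¹, ?_, ?_, ?_, ?_⟩
  · rw [← hh]; group
  · have : D.t = h⁻¹ * τ * h := by rw [← hh]; group
    rw [this, mul_smul, mul_smul, smul_inv_smul, hτ.1.1]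
  all_goals
    intro k hk
    have hk' : k * τ = τ * k := hτ.2.2 k (by first | exact hk | exact hk.1)
    have : D.t = h⁻¹ * τ * h := by rw [← hh]; group
    rw [this, inv_inv, show h⁻¹ * k * h * (h⁻¹ * τ * h) = h⁻¹ * (k * τ) * h by group, hk']
    group

include hτ hT in
theorem kerV_even (h : D.KerV) : Even D.f := by
  rw [← h]
  by_contra hev
  rw [Nat.not_even_iff_odd] at hev
  obtain ⟨g, hg, hcd, hV, -⟩ := exists_four D hτ hT
  have hne : g • D.a ∉ D.FV := fun hc => D.hab (MulAction.injective g ((FV_le D hc).symm.trans hcd))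
  -- the conjugates of `V` act nontrivially on `FV`
  have hnV : ∀ v ∈ D.V, v ≠ 1 → g * v * g⁻¹ ∉ D.V := by
    intro v hv hv1 hmem
    have hfix : (g * v * g⁻¹) • g • D.a = g • D.a := by rw [mul_smul, inv_smul_smul, mul_smul, hv.1.1]
    have h1 : g * v * g⁻¹ ≠ 1 := fun e => hv1 (conj_eq_one_iff.1 e)
    obtain ⟨k, hk, hkt⟩ := conj_in_K D (t_mem D) hmem.1 (t_sq D) hmem.2 (t_ne D) h1
    refine hne ?_
    have hkV : ∀ x, x ∈ D.FV → k⁻¹ • x ∈ D.FV := fun x hx w hw => by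
      have hw' : k * w * k⁻¹ ∈ D.V := ⟨mul_mem (mul_mem hk hw.1) (inv_mem hk), by
        rw [show k * w * k⁻¹ * (k * w * k⁻¹) = k * (w * w) * k⁻¹ by group, hw.2]; group⟩
      have := hx _ hw'
      rwa [mul_smul, mul_smul, smul_eq_iff_eq_inv_smul] at this
    have htc : D.t • k⁻¹ • g • D.a = k⁻¹ • g • D.a := by
      rw [← hkt, mul_smul, mul_smul, smul_eq_iff_eq_inv_smul] at hfix
      exact hfix
    intro w hw
    have hw' : k⁻¹ * w * k ∈ D.V := ⟨mul_mem (mul_mem (inv_mem hk) hw.1) hk, by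
        rw [show k⁻¹ * w * k * (k⁻¹ * w * k) = k⁻¹ * (w * w) * k by group, hw.2]; group⟩
    have := (kerV_FV D h htc) _ hw'
    rwa [mul_smul, mul_smul, smul_inv_smul, smul_left_cancel_iff] at this
  obtain ⟨w, hw, hw1, hwt⟩ := exists_v D
  have hN : ∀ v ∈ D.V, g * v * g⁻¹ ∈ D.N := fun v hv => kerV_N D h (hV v hv)
  have hsq : ∀ v ∈ D.V, g * v * g⁻¹ * (g * v * g⁻¹) ∈ D.V := fun v hv => by
    rw [show g * v * g⁻¹ * (g * v * g⁻¹) = g * (v * v) * g⁻¹ by group, hv.2, mul_one, mul_inv_cancel]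
    exact one_mem _
  have hA : ∀ v ∈ D.V, v ≠ 1 → ∃! x : D.FV, (g * v * g⁻¹) • (x : Ω) = x := fun v hv hv1 =>
    (invol_N D (hN v hv) (hsq v hv) (hnV v hv hv1)).1 hev
  have hwt1 : w * D.t ≠ 1 := fun e => hwt (by rw [← mul_one w, ← t_sq D, ← mul_assoc, e, one_mul])
  obtain ⟨x, hx, hxu⟩ := hA w hw hw1
  have hc : g * w * g⁻¹ * (g * D.t * g⁻¹) = g * D.t * g⁻¹ * (g * w * g⁻¹) := by
    rw [show g * w * g⁻¹ * (g * D.t * g⁻¹) = g * (w * D.t) * g⁻¹ by group,
      comm_of_sq D hw.1 (t_mem D) hw.2 (t_sq D)]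
    group
  have hx' : (g * D.t * g⁻¹) • (x : Ω) = x := by
    have h1 : (g * w * g⁻¹) • (g * D.t * g⁻¹) • (x : Ω) = (g * D.t * g⁻¹) • (x : Ω) := by
      rw [← mul_smul, hc, mul_smul, hx]
    exact congrArg Subtype.val (hxu ⟨_, N_inv D _ (hN _ (t_mem_V D)) _ x.2⟩ h1)
  obtain ⟨T⟩ := exists_trans_FV D
  have key := T.invol_eq (A_sharp D) (g := (⟨D.vHom ⟨_, hN w hw⟩, _, rfl⟩ : D.A))
    (h := (⟨D.vHom ⟨_, hN _ (t_mem_V D)⟩, _, rfl⟩ : D.A)) (a := x)
    (fun z => Subtype.ext (show (g * w * g⁻¹) • (g * w * g⁻¹) • (z : Ω) = z by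
      rw [← mul_smul]; exact z.2 _ (hsq w hw)))
    (fun z => Subtype.ext (show (g * D.t * g⁻¹) • (g * D.t * g⁻¹) • (z : Ω) = z by
      rw [← mul_smul]; exact z.2 _ (hsq _ (t_mem_V D))))
    (by by_contra! e; exact hnV w hw hw1 ((vHom_eq_one D).1 (Equiv.ext fun z => e z)))
    (by by_contra! e; exact hnV _ (t_mem_V D) (t_ne D) ((vHom_eq_one D).1 (Equiv.ext fun z => e z)))
    (Subtype.ext hx) (Subtype.ext hx')
  refine hnV _ (mul_mem hw (t_mem_V D)) hwt1 ((vHom_eq_one D (g := ⟨_, hN _ (mul_mem hw (t_mem_V D))⟩)).1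
    (Equiv.ext fun z => Subtype.ext ?_))
  show (g * (w * D.t) * g⁻¹) • (z : Ω) = z
  have h1 : (g * w * g⁻¹) • (z : Ω) = (g * D.t * g⁻¹) • (z : Ω) := congrArg Subtype.val (key z)
  rw [show g * (w * D.t) * g⁻¹ = g * w * g⁻¹ * (g * D.t * g⁻¹) by group, hc, mul_smul, h1, ← mul_smul]
  exact z.2 _ (hsq _ (t_mem_V D))

include hτ hT in
/-- The kernel is not the four-group. -/
theorem kerV_false (h : D.KerV) : False := by
  classical
  have hf : Even D.f := kerV_even D hτ hT h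
  have hev : Even D.r := by rw [h]; exact hf
  have hmem : ∀ x, x ∈ D.P hτ hev ↔ x * D.t = D.t * x ∧ x * x = 1 := fun x =>
    ⟨fun hx => ⟨((mem_N D).1 hx.1).1, hx.2⟩, fun hx => ⟨kerV_N D h hx.1, hx.2⟩⟩
  set P := D.P hτ hev with hP
  set M := normalizer (P : Set G) with hM
  set S : Set G := {x | x ∈ P ∧ D.IsT x} with hS
  have htP : D.t ∈ P := V_le_P D hτ hev (t_mem_V D)
  -- conjugations taking `t` into `P` normalise `P`
  have hnorm : ∀ g : G, g * D.t * g⁻¹ ∈ P → g ∈ M := by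
    intro g hg
    have hsub : ∀ x ∈ P, g⁻¹ * x * g ∈ P := fun x hx => by
      have hsq : g⁻¹ * x * g * (g⁻¹ * x * g) = 1 := by
        rw [show g⁻¹ * x * g * (g⁻¹ * x * g) = g⁻¹ * (x * x) * g by group, hx.2]
        group
      refine (hmem _).2 ⟨?_, hsq⟩
      calc g⁻¹ * x * g * D.t = g⁻¹ * (x * (g * D.t * g⁻¹)) * g := by group
        _ = g⁻¹ * ((g * D.t * g⁻¹) * x) * g := by rw [P_comm D hτ hev hx hg]
        _ = D.t * (g⁻¹ * x * g) := by group
    have hsurj : Function.Surjective (fun x : P => (⟨g⁻¹ * x * g, hsub x x.2⟩ : P)) :=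
      Finite.injective_iff_surjective.1 fun v w e =>
        Subtype.ext (mul_left_cancel (mul_right_cancel (congrArg Subtype.val e)))
    refine mem_normalizer_iff''.2 fun x => ⟨hsub x, fun hx => ?_⟩
    obtain ⟨⟨y, hy⟩, e⟩ := hsurj ⟨_, hx⟩
    have e' : g⁻¹ * y * g = g⁻¹ * x * g := congrArg Subtype.val e
    exact (mul_left_cancel (mul_right_cancel e')) ▸ hy
  have hC : centralizer ({D.t} : Set G) ≤ M := fun g hg => hnorm g (by
    rw [mem_centralizer_singleton_iff.1 hg, mul_inv_cancel_right]; exact htP)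
  have hcount := card_conj_orbit M D.t S
    (fun g hg => ⟨(mem_normalizer_iff.1 hg _).1 htP, g, rfl⟩)
    (fun s hs => by obtain ⟨g, hg⟩ := hs.2; exact ⟨g, hnorm g (hg ▸ hs.1), hg⟩)
  rw [inf_eq_right.2 hC, card_cent] at hcount
  -- the size of `S`
  have hP4 : Nat.card P = 4 * D.f := by rw [hP, card_P, h]
  have hclass : ∀ x ∈ P, x ∉ D.V → ∃ h ∈ D.N, ∃ v ∈ D.V, x = h * (τ * v) * h⁻¹ := fun x hx hxV =>
    (fpf_tau D hτ hev hx.1 ((invol_N D hx.1 (by rw [hx.2]; exact one_mem _) hxV).2 hev)).2.2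
  obtain ⟨mp, hmp, hfm⟩ := r_two_pow D hev
  rw [h] at hfm
  have h3f : ¬ 3 ∣ D.f := by
    rw [hfm]
    intro hd
    exact absurd ((Nat.prime_dvd_prime_iff_eq Nat.prime_three Nat.prime_two).1
      (Nat.prime_three.dvd_of_dvd_pow hd)) (by norm_num)
  have hG := card_G D
  obtain ⟨q, hq⟩ := card_subgroup_dvd_card M
  have hcnt := count D
  have hfn := f_lt D
  have hf2 := two_le_f D
  obtain ⟨j, hj⟩ : ∃ j, D.f = j + 2 := ⟨D.f - 2, by omega⟩
  obtain ⟨i, hi⟩ : ∃ i, Fintype.card Ω = D.f + i := ⟨Fintype.card Ω - D.f, by omega⟩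
  rcases k_of_isT D hτ hT with ⟨hk, hall⟩ | ⟨hk, hnone⟩
  · have hSc : S.ncard = 4 * D.f - 1 := by
      have : S = (P : Set G) \ {1} := by
        ext x
        refine ⟨fun hx => ⟨hx.1, isT_ne_one D hx.2⟩, fun hx => ⟨hx.1, ?_⟩⟩
        have hx1 : x ≠ 1 := hx.2
        by_cases hxV : x ∈ D.V
        · exact isT_of_fix D hxV.2 hx1 D.hab hxV.1.1 hxV.1.2
        · obtain ⟨h', -, v, hv, rfl⟩ := hclass x hx.1 hxV
          exact isT_conj D (hall v hv) h'
      rw [this, Set.ncard_sdiff_singleton_of_mem (one_mem P), ← Nat.card_coe_set_eq,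
        SetLike.coe_sort_coe, hP4]
    rw [hk, hi, hj, Nat.add_sub_cancel_left, show j + 2 - 1 = j + 1 by omega] at hcnt
    rw [hSc, hj, show 4 * (j + 2) - 1 = 4 * j + 7 by omega, show j + 2 - 1 = j + 1 by omega] at hcount
    rw [hG, hcount, hi, hj, show j + 2 + i - 1 = j + 1 + i by omega] at hq
    -- `3 n = f (4 f - 1)` and `3 (n - 1) = (f - 1)(4 f + 3)`
    have e1 : 3 * (j + 2 + i) = (j + 2) * (4 * j + 7) := by linarith
    have e2 : 3 * (j + 1 + i) = (j + 1) * (4 * j + 11) := by linarith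
    have e4 : 4 * (4 * j + 7) * (j + 2) * (j + 1) * (3 * q) =
        4 * (4 * j + 7) * (j + 2) * (j + 1) * (4 * j + 11) := by
      calc _ = 3 * ((4 * j + 7) * (4 * ((j + 2) * (j + 1))) * q) := by ring
        _ = 3 * (12 * ((j + 2 + i) * (j + 1 + i))) := by rw [← hq]
        _ = 4 * ((3 * (j + 2 + i)) * (3 * (j + 1 + i))) := by ring
        _ = _ := by rw [e1, e2]; ring
    have := Nat.eq_of_mul_eq_mul_left (by positivity) e4
    omega
  · have hSc : S.ncard = D.f + 2 := by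
      have hsplit : S = ((D.V : Set G) \ {1}) ∪ {x | x ∈ P ∧ x ∉ D.V ∧ D.IsT x} := by
        ext x
        simp only [hS, Set.mem_ofPred_eq, Set.mem_union, Set.mem_sdiff, SetLike.mem_coe,
          Set.mem_singleton_iff]
        constructor
        · rintro ⟨hx, hxT⟩
          by_cases hxV : x ∈ D.V
          · exact Or.inl ⟨hxV, isT_ne_one D hxT⟩
          · exact Or.inr ⟨hx, hxV, hxT⟩
        · rintro (⟨hxV, hx1⟩ | ⟨hx, -, hxT⟩)
          · exact ⟨V_le_P D hτ hev hxV, isT_of_fix D hxV.2 hx1 D.hab hxV.1.1 hxV.1.2⟩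
          · exact ⟨hx, hxT⟩
      have hV3 : ((D.V : Set G) \ {1}).ncard = 3 := by
        rw [Set.ncard_sdiff_singleton_of_mem (one_mem D.V), ← Nat.card_coe_set_eq,
          SetLike.coe_sort_coe, card_V]
      have hrest : {x | x ∈ P ∧ x ∉ D.V ∧ D.IsT x}.ncard = (D.FV \ {D.a}).ncard := by
        refine Set.ncard_congr (fun x _ => x • D.a) ?_ ?_ ?_
        · rintro x ⟨hx, hxV, -⟩
          exact ⟨N_inv D x hx.1 _ (a_mem_FV D), fun e => hxV (P_fix D hτ hev hx (a_mem_FV D) e)⟩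
        · rintro x y ⟨hx, hxV, hxT⟩ ⟨hy, hyV, hyT⟩ e
          have hz : x⁻¹ * y ∈ D.V := P_fix D hτ hev (mul_mem (inv_mem hx) hy) (a_mem_FV D)
            (by rw [mul_smul, inv_smul_eq_iff]; exact e.symm)
          obtain ⟨h', hh, v, hv, rfl⟩ := hclass x hx hxV
          have hv1 : v = 1 := by
            by_contra hv1
            exact hnone v hv hv1 ((isT_conj_iff D).1 hxT)
          have hu : h'⁻¹ * ((h' * (τ * v) * h'⁻¹)⁻¹ * y) * h' ∈ D.V :=
            (mem_normalizer_iff''.1 ((mem_N D).1 hh).2 _).1 hz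
          have hu1 : h'⁻¹ * ((h' * (τ * v) * h'⁻¹)⁻¹ * y) * h' = 1 := by
            by_contra hu1
            refine hnone _ hu hu1 ((isT_conj_iff D (g := h')).1 ?_)
            convert hyT using 1
            rw [hv1]
            group
          calc h' * (τ * v) * h'⁻¹ = h' * (τ * v) * h'⁻¹ *
                (h' * (h'⁻¹ * ((h' * (τ * v) * h'⁻¹)⁻¹ * y) * h') * h'⁻¹) := by rw [hu1]; group
            _ = y := by group
        · rintro z ⟨hz, hza⟩
          obtain ⟨x, hx, rfl⟩ := P_trans D hτ hev hz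
          have hxV : x ∉ D.V := fun e => hza e.1.1
          obtain ⟨h', hh, v, hv, rfl⟩ := hclass x hx hxV
          have hvc : h' * v * h'⁻¹ ∈ D.V := (mem_normalizer_iff.1 ((mem_N D).1 hh).2 v).1 hv
          have he : h' * τ * h'⁻¹ = h' * (τ * v) * h'⁻¹ * (h' * v * h'⁻¹)⁻¹ := by group
          refine ⟨h' * τ * h'⁻¹, ⟨?_, fun e => ?_, isT_conj D hT h'⟩, ?_⟩
          · rw [he]; exact mul_mem hx (inv_mem (V_le_P D hτ hev hvc))
          · refine hxV ?_
            rw [show h' * (τ * v) * h'⁻¹ = (h' * τ * h'⁻¹) * (h' * v * h'⁻¹) by group]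
            exact mul_mem e hvc
          · show (h' * τ * h'⁻¹) • D.a = _
            rw [he, mul_smul, inv_smul_eq_iff.2 hvc.1.1.symm]
      rw [hsplit, Set.ncard_union_eq (Set.disjoint_left.2 fun x hx hx' => hx'.2.1 hx.1) (Set.toFinite _)
        (Set.toFinite _), hV3, hrest, Set.ncard_sdiff_singleton_of_mem (a_mem_FV D),
        ← Nat.card_coe_set_eq]
      have : Nat.card D.FV = D.f := h
      omega
    rw [hk, hi, hj, Nat.add_sub_cancel_left, show j + 2 - 1 = j + 1 by omega] at hcnt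
    rw [hSc, hj, show j + 2 - 1 = j + 1 by omega] at hcount
    rw [hG, hcount, hi, hj, show j + 2 + i - 1 = j + 1 + i by omega] at hq
    have e1 : 3 * (j + 2 + i) = (j + 2) * (j + 4) := by linarith
    have e2 : 3 * (j + 1 + i) = (j + 1) * (j + 5) := by linarith
    have e4 : 4 * (j + 4) * (j + 2) * (j + 1) * (3 * q) =
        4 * (j + 4) * (j + 2) * (j + 1) * (j + 5) := by
      calc _ = 3 * ((j + 2 + 2) * (4 * ((j + 2) * (j + 1))) * q) := by ring
        _ = 3 * (12 * ((j + 2 + i) * (j + 1 + i))) := by rw [← hq]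
        _ = 4 * ((3 * (j + 2 + i)) * (3 * (j + 1 + i))) := by ring
        _ = _ := by rw [e1, e2]; ring
    have := Nat.eq_of_mul_eq_mul_left (by positivity) e4
    omega

end Cfsg.Agent.TwoPointA4
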