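import Cfsg.Agent.Lib.TwoPointA4.TauOneEven
import Cfsg.Agent.Lib.TwoPointA5.GWFacts
import Cfsg.Agent.Lib.GW.KleinPSL

/-!
# The central exchange is a conjugate of `t`: two exchanges, odd `r`
-/

set_option autoImplicit false
set_option linter.unusedSectionVars false
set_option linter.style.haveILetI false

namespace Cfsg.Agent.TwoPointA4

open MulAction Subgroup
open scoped MatrixGroups

universe u v

/-- The number of involutions of `PSL₂` is not `-1` modulo an odd prime divisor of the centraliser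
of an involution. -/
theorem psl_count_false {F : Type} [Field F] [Fintype F] (hodd : Odd (Fintype.card F))
    {z : Matrix.ProjectiveSpecialLinearGroup (Fin 2) F} (hz : orderOf z = 2) {p r N : ℕ} (hp : p.Prime)
    (hp2 : p ≠ 2) (hpr : p ∣ r) (hN : N + 1 = 4 * (r * r))
    (hpC : p ∣ Nat.card (centralizer ({z} : Set (Matrix.ProjectiveSpecialLinearGroup (Fin 2) F))))
    (hcard : Nat.card (Matrix.ProjectiveSpecialLinearGroup (Fin 2) F) =
      N * Nat.card (centralizer ({z} : Set (Matrix.ProjectiveSpecialLinearGroup (Fin 2) F)))) : False := by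
  obtain ⟨δ, hδ, hC, -, -⟩ := GW.KleinPSL.centralizers hodd hz
  have h1 := GW.KleinPSL.two_mul_card (F := F) hodd
  set q : ℤ := (Fintype.card F : ℤ)
  set C := Nat.card (centralizer ({z} : Set (Matrix.ProjectiveSpecialLinearGroup (Fin 2) F))) with hCdef
  have hC0 : (C : ℤ) ≠ 0 := by exact_mod_cast (Nat.card_pos (α := centralizer
    ({z} : Set (Matrix.ProjectiveSpecialLinearGroup (Fin 2) F)))).ne'
  have h2 : 2 * (N : ℤ) = q * (q + δ) := by
    apply mul_right_cancel₀ hC0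
    have hcard' : (Nat.card (Matrix.ProjectiveSpecialLinearGroup (Fin 2) F) : ℤ) = N * C := by
      exact_mod_cast hcard
    rw [hcard'] at h1
    rw [hC] at h1 ⊢
    rcases hδ with rfl | rfl <;> linear_combination h1
  obtain ⟨c, hc⟩ : (p : ℤ) ∣ q - δ := by rw [← hC]; exact_mod_cast hpC
  obtain ⟨e, he⟩ : (p : ℤ) ∣ (r : ℤ) := by exact_mod_cast hpr
  have hN' : (N : ℤ) + 1 = 4 * ((r : ℤ) * r) := by exact_mod_cast hN
  have h4 : (p : ℤ) ∣ 4 := by
    refine ⟨8 * ((p : ℤ) * e * e) - c * (q + δ + δ), ?_⟩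
    have hδ2 : δ * δ = 1 := by rcases hδ with rfl | rfl <;> norm_num
    have hq : q = δ + p * c := by linarith
    rw [he] at hN'
    rw [hq] at h2 ⊢
    linear_combination (-1 : ℤ) * h2 + 2 * hN' - (2 : ℤ) * hδ2
  have h4' : p ∣ 2 ^ 2 := by exact_mod_cast h4
  exact hp2 ((Nat.prime_dvd_prime_iff_eq hp Nat.prime_two).1 (hp.dvd_of_dvd_pow h4'))

variable {G : Type u} [Group G] [Finite G] {Ω : Type v} [Fintype Ω] [MulAction G Ω]
  [FaithfulSMul G Ω] (D : Data G Ω) {τ : G} (hτ : D.IsTau τ)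

theorem card_X (h : ¬ D.KerV) : Nat.card D.X * 2 = 4 * (D.f * (D.f - 1)) := by
  have hker : Nat.card D.img.ker = 2 := by
    rw [Nat.card_eq_two_iff]
    refine ⟨1, ⟨D.vC (t_mem_V D), (img_eq_one D h).2 (Or.inr rfl)⟩, fun e => t_ne D
      (congrArg (fun z : D.img.ker => ((z : centralizer ({D.t} : Set G)) : G)) e).symm, ?_⟩
    ext ⟨g, hg⟩
    simp only [Set.mem_insert_iff, Set.mem_singleton_iff, Set.mem_univ, iff_true]
    rcases (img_eq_one D h).1 hg with e | e
    · exact Or.inl (Subtype.ext (Subtype.ext e))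
    · exact Or.inr (Subtype.ext (Subtype.ext e))
  rw [← card_cent D, ← D.img.ker.card_mul_index, index_ker, hker, MonoidHom.range_eq_top.2 (img_surj D),
    card_top, mul_comm]

include hτ in
theorem k_two_odd_false (h : ¬ D.KerV) (hk : (D.X2 h).k = 2) (hodd : Odd D.r) : False := by
  classical
  haveI := Fact.mk Nat.prime_two
  obtain ⟨T⟩ := exists_trans_FV D
  set p := T.p with hpdef
  haveI := Fact.mk T.prime
  have hr2 := two_le_r D
  have hrp : D.r = p ^ T.k := (card_FV D).symm.trans T.card_eq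
  have hp2 : p ≠ 2 := fun e => by
    rw [hrp, e] at hodd
    exact Nat.not_even_iff_odd.2 hodd (Nat.even_pow.2 ⟨even_two, T.k_ne⟩)
  have hdeg := (D.X2 h).deg_eq
  rw [hk, card_Ft, X2_r] at hdeg
  set D2 := D.X2 h with hD2
  set s := D2.s with hs
  have hconjs : ∀ u : D.X, u * u = 1 → u ≠ 1 → ∃ c : D.X, u = c * s * c⁻¹ :=
    fun u h1 h2 => D2.all_conj_of_k_two hk h1 h2
  have hτN := tau_mem_N D hτ
  have hτC : τ * D.t = D.t * τ := (hτ.2.2 D.t (t_mem D)).symm
  have hτ2V : τ * τ ∈ D.V := by rw [hτ.2.1]; exact one_mem _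
  obtain ⟨⟨q₀, hq₀⟩, hτq, hτu⟩ := (invol_N D hτN hτ2V (swaps_not_V D hτ.1)).1 hodd
  -- `s` is no square
  have hnosq : ∀ u : D.X, u * u ≠ s := by
    intro u hu
    obtain ⟨g, rfl⟩ := img_surj D u
    have hgt : (g : G) * D.t = D.t * g := mem_centralizer_singleton_iff.1 g.2
    have hsu : s * D.img g = D.img g * s := by rw [← hu, mul_assoc]
    have hmoved : ∀ x ∈ D.FV, (g : G) • x ∈ D.FV := by
      intro x hx v hv
      have ht : D.t • (g : G) • x = (g : G) • x := by rw [← mul_smul, ← hgt, mul_smul, FV_le D hx]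
      have hw : D.w • (g : G) • x = (g : G) • x := by
        have := congrArg (fun z : D.X => ((z • (⟨x, FV_le D hx⟩ : D.Ft) : D.Ft) : Ω)) hsu
        rw [mul_smul, mul_smul] at this
        change D.w • (g : G) • x = (g : G) • D.w • x at this
        rwa [hx _ (w_mem D)] at this
      rcases V_list D hv with rfl | rfl | rfl | rfl
      · exact one_smul _ _
      · exact ht
      · exact hw
      · rw [mul_smul, ht, hw]
    have hgN : (g : G) ∈ D.N := mem_N_of_pair D D.hab (a_mem_FV D) (b_mem_FV D) hgt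
      (hmoved _ (a_mem_FV D)) (hmoved _ (b_mem_FV D))
    have hg2 : (g : G) * g ∈ D.V := by
      have e : D.img (g * g) = D.img (D.vC (w_mem D)) := by rw [map_mul]; exact hu
      rcases (img_eq_iff D h).1 e.symm with e' | e'
      · rw [show (g : G) * g = D.w from e']; exact w_mem D
      · rw [show (g : G) * g = D.w * D.t from e']; exact mul_mem (w_mem D) (t_mem_V D)
    have hfin : (g : G) * g = 1 → False := fun e => D2.hs1 (by
      show s = 1
      rw [← hu, ← map_mul]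
      exact (img_eq_one D h).2 (Or.inl e))
    by_cases hgV : (g : G) ∈ D.V
    · exact hfin hgV.2
    obtain ⟨⟨x, hx⟩, hgx, -⟩ := (invol_N D hgN hg2 hgV).1 hodd
    obtain ⟨n, hn, hnx⟩ : ∃ n ∈ D.N, n • q₀ = x := by
      obtain ⟨z₁, hz₁, hne₁⟩ : ∃ z ∈ D.FV, q₀ ≠ z := by
        by_cases e : q₀ = D.a
        · exact ⟨D.b, b_mem_FV D, e ▸ D.hab⟩
        · exact ⟨D.a, a_mem_FV D, e⟩
      obtain ⟨z₂, hz₂, hne₂⟩ : ∃ z ∈ D.FV, x ≠ z := by
        by_cases e : x = D.a
        · exact ⟨D.b, b_mem_FV D, e ▸ D.hab⟩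
        · exact ⟨D.a, a_mem_FV D, e⟩
      obtain ⟨n, hn, h1, -⟩ := witt_N D hne₁ hne₂ hq₀ hz₁ hx hz₂
      exact ⟨n, hn, h1⟩
    set k := n * τ * n⁻¹ with hkdef
    have hkN : k ∈ D.N := mul_mem (mul_mem hn hτN) (inv_mem hn)
    have hk2 : k * k = 1 := by
      rw [hkdef, show n * τ * n⁻¹ * (n * τ * n⁻¹) = n * (τ * τ) * n⁻¹ by group, hτ.2.1]; group
    have hkx : k • x = x := by
      rw [hkdef, mul_smul, mul_smul, inv_smul_eq_iff.2 hnx.symm, show τ • q₀ = q₀ from hτq, hnx]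
    have hkV : k ∉ D.V := fun e => swaps_not_V D hτ.1 (by
      have := (mem_normalizer_iff''.1 ((mem_N D).1 hn).2 k).1 e
      rwa [hkdef, show n⁻¹ * (n * τ * n⁻¹) * n = τ by group] at this)
    have key := T.invol_eq (A_sharp D) (g := (⟨D.vHom ⟨k, hkN⟩, _, rfl⟩ : D.A))
      (h := (⟨D.vHom ⟨(g : G), hgN⟩, _, rfl⟩ : D.A)) (a := ⟨x, hx⟩)
      (fun z => Subtype.ext (show k • k • (z : Ω) = z by rw [← mul_smul, hk2, one_smul]))
      (fun z => Subtype.ext (show (g : G) • (g : G) • (z : Ω) = z by rw [← mul_smul]; exact z.2 _ hg2))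
      (by by_contra! e; exact hkV ((vHom_eq_one D).1 (Equiv.ext fun z => e z)))
      (by by_contra! e; exact hgV ((vHom_eq_one D).1 (Equiv.ext fun z => e z)))
      (Subtype.ext hkx) (Subtype.ext hgx)
    have hv : k⁻¹ * g ∈ D.V := (vHom_eq_one D (g := ⟨_, mul_mem (inv_mem hkN) hgN⟩)).1
      (Equiv.ext fun z => Subtype.ext (by
        show (k⁻¹ * g) • (z : Ω) = z
        have e : k • (z : Ω) = (g : G) • (z : Ω) := congrArg Subtype.val (key z)
        rw [mul_smul, ← e, inv_smul_smul]))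
    have hc : k * (k⁻¹ * g) * k⁻¹ = k⁻¹ * g := (cen_conj D hn hτN).2 (tau_cen D hτ) _ hv
    refine hfin ?_
    calc (g : G) * g = k * (k⁻¹ * g) * k⁻¹ * (k * (k * (k⁻¹ * g))) := by group
      _ = (k⁻¹ * g) * ((k * k) * (k⁻¹ * g)) := by rw [hc]; group
      _ = 1 := by rw [hk2, one_mul, hv.2]
  have hsq : ∀ u : D.X, u * u * (u * u) = 1 → u * u = 1 := fun u hu => by
    by_contra hne
    obtain ⟨c, hc⟩ := hconjs _ hu hne
    exact hnosq (c⁻¹ * u * c) (by
      rw [show c⁻¹ * u * c * (c⁻¹ * u * c) = c⁻¹ * (u * u) * c by group, hc]; group)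
  -- `(r - 1) / 2` is odd
  have h4 : ¬ 4 ∣ D.r - 1 := by
    intro hd
    let pa : D.FV := ⟨D.a, a_mem_FV D⟩
    set H := stabilizer D.A pa with hH
    have hHcard : Nat.card H = D.r - 1 := by
      haveI := A_two D
      haveI : IsPretransitive D.A D.FV := isPretransitive_of_is_two_pretransitive
      have hA : Nat.card D.A = D.r * (D.r - 1) := by
        have hker : Nat.card D.vHom.ker = 4 := by
          rw [← card_V D]
          exact Nat.card_congr
            { toFun := fun g => ⟨(g.1 : G), (vHom_eq_one D).1 g.2⟩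
              invFun := fun v => ⟨⟨v.1, V_le_N D v.2⟩, (vHom_eq_one D).2 v.2⟩ }
        have h1 := D.vHom.ker.card_mul_index
        rw [index_ker, hker, card_N] at h1
        exact Nat.eq_of_mul_eq_mul_left (by norm_num) h1
      have h2 := H.card_mul_index
      rw [hH, index_stabilizer_of_transitive, hA, Nat.card_eq_fintype_card (α := D.FV), card_FV,
        mul_comm D.r] at h2
      rw [hH]
      exact Nat.eq_of_mul_eq_mul_right (by omega) h2
    obtain ⟨Q, hQ⟩ := Sylow.exists_subgroup_card_pow_prime 2 (n := 2) (hHcard ▸ hd : 2 ^ 2 ∣ Nat.card H)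
    have huniq : ∀ u ∈ Q, ∀ u' ∈ Q, u * u = 1 → u' * u' = 1 → u ≠ 1 → u' ≠ 1 → u = u' := by
      intro u _ u' _ h1 h1' hne hne'
      have mv : ∀ w : H, w ≠ 1 → ∃ z : D.FV, (w : D.A) • z ≠ z := fun w hw => by
        by_contra! e
        exact hw (Subtype.ext (Subtype.ext (Equiv.ext fun z => e z)))
      have inv2 : ∀ w : H, w * w = 1 → ∀ z : D.FV, (w : D.A) • (w : D.A) • z = z := fun w hw z => by
        rw [← mul_smul, ← coe_mul, hw, OneMemClass.coe_one, one_smul]
      exact Subtype.ext (Subtype.ext (Equiv.ext fun z =>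
        T.invol_eq (A_sharp D) (inv2 u h1) (inv2 u' h1') (mv u hne) (mv u' hne') u.2 u'.2 z))
    obtain ⟨u, huQ, hu2⟩ : ∃ u ∈ Q, u * u ≠ 1 := by
      by_contra! hall
      have hsub : (Q : Set H) ⊆ {1} ∪ {u | u ∈ Q ∧ u ≠ 1} := fun u hu => by
        by_cases e : u = 1
        · exact Or.inl e
        · exact Or.inr ⟨hu, e⟩
      have h1 : {u | u ∈ Q ∧ u ≠ 1}.ncard ≤ 1 := (Set.ncard_le_one_iff).2 fun {x y} hx hy =>
        huniq x hx.1 y hy.1 (hall x hx.1) (hall y hy.1) hx.2 hy.2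
      have h2 := (Set.ncard_le_ncard hsub).trans (Set.ncard_union_le _ _)
      rw [Set.ncard_singleton, ← Nat.card_coe_set_eq, SetLike.coe_sort_coe, hQ] at h2
      omega
    have hu4 : u ^ 4 = 1 := by
      have hc := pow_card_eq_one' (x := (⟨u, huQ⟩ : Q))
      rw [hQ] at hc
      exact congrArg Subtype.val hc
    obtain ⟨g, hg⟩ := (u : D.A).2
    have hgg : ((u * u : H) : D.A) = (⟨D.vHom (g * g), _, rfl⟩ : D.A) :=
      Subtype.ext (show ((u : D.A) : Equiv.Perm D.FV) * ((u : D.A) : Equiv.Perm D.FV) = D.vHom (g * g) by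
        rw [map_mul, hg])
    have hg2 : (g : G) * g ∉ D.V := fun e => hu2 (Subtype.ext (hgg.trans (Subtype.ext
      ((vHom_eq_one D (g := g * g)).2 e))))
    have hg4 : (g : G) * g * (g * g) ∈ D.V := (vHom_eq_one D (g := g * g * (g * g))).1 (by
      have e := congrArg (fun z : H => ((z : D.A) : Equiv.Perm D.FV)) hu4
      simp only [show (4 : ℕ) = 2 + 2 from rfl, pow_add, pow_two, coe_mul, OneMemClass.coe_one,
        ← hg, ← map_mul] at e
      exact e)
    have hgC : (g : G) ∈ centralizer ({D.t} : Set G) := mem_centralizer_singleton_iff.2 ((mem_N D).1 g.2).1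
    set U := D.img ⟨(g : G), hgC⟩ with hU
    have hUU : U * U = D.img ⟨(g : G) * g, mul_mem hgC hgC⟩ := by
      rw [hU, ← map_mul]; rfl
    have h44 : U * U * (U * U) = D.img ⟨(g : G) * g * (g * g), mul_mem (mul_mem hgC hgC) (mul_mem hgC hgC)⟩ := by
      rw [hUU, ← map_mul]; rfl
    by_cases h1 : U * U * (U * U) = 1
    · have h2 := hsq U h1
      rw [hUU] at h2
      rcases (img_eq_one D h).1 h2 with e | e
      · exact hg2 (by rw [show (g : G) * g = 1 from e]; exact one_mem _)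
      · exact hg2 (by rw [show (g : G) * g = D.t from e]; exact t_mem_V D)
    · refine hnosq (U * U) ?_
      rw [h44] at h1 ⊢
      rcases V_list D hg4 with e | e | e | e
      · exact absurd ((img_eq_one D h).2 (Or.inl e)) h1
      · exact absurd ((img_eq_one D h).2 (Or.inr e)) h1
      · exact congrArg D.img (Subtype.ext e)
      · exact ((img_eq_iff D h).2 (Or.inr e)).symm
  obtain ⟨j, hj⟩ : ∃ j, D.r = 2 * j + 1 := hodd
  have hjodd : Odd j := by
    rw [← Nat.not_even_iff_odd]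
    rintro ⟨i, rfl⟩
    exact h4 ⟨i, by omega⟩
  have hfm : D.f = (2 * j + 1) * (4 * j + 1) := by
    rw [hdeg, hj, Nat.add_sub_cancel]; ring
  have hf1 : D.f - 1 = 2 * (j * (4 * j + 3)) := by
    rw [hfm]
    have : (2 * j + 1) * (4 * j + 1) = 2 * (j * (4 * j + 3)) + 1 := by ring
    omega
  have hX : Nat.card D.X = 2 ^ 2 * ((2 * j + 1) * (4 * j + 1) * (j * (4 * j + 3))) := by
    have := card_X D h
    rw [hf1, hfm] at this
    linarith
  have hfac : (Nat.card D.X).factorization 2 = 2 := by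
    have ho : Odd ((2 * j + 1) * (4 * j + 1) * (j * (4 * j + 3))) :=
      ((odd_two_mul_add_one j).mul ⟨2 * j, by ring⟩).mul (hjodd.mul ⟨2 * j + 1, by ring⟩)
    rw [hX, Nat.factorization_mul (by norm_num) (fun e => by simp [e] at ho), Finsupp.add_apply,
      Nat.Prime.factorization_pow Nat.prime_two, Finsupp.single_eq_same,
      Nat.factorization_eq_zero_of_not_dvd (fun hd => Nat.not_even_iff_odd.2 ho (even_iff_two_dvd.2 hd)),
      add_zero]
  -- the Sylow 2-subgroup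
  set c₁ := D.img ⟨τ, mem_centralizer_singleton_iff.2 hτC⟩ with hc₁
  have hc₁2 : c₁ * c₁ = 1 := by rw [hc₁, ← map_mul]; exact (img_eq_one D h).2 (Or.inl hτ.2.1)
  have hc₁1 : c₁ ≠ 1 := fun e => ((img_eq_one D h).1 e).elim (tau_ne_one D hτ) fun e' =>
    swaps_not_V D hτ.1 (by rw [show τ = D.t from e']; exact t_mem_V D)
  have hss : s * s = 1 := D2.hss
  have hcs : c₁ * s = s * c₁ := by
    show D.img ⟨τ, _⟩ * D.img (D.vC (w_mem D)) = D.img (D.vC (w_mem D)) * D.img ⟨τ, _⟩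
    rw [← map_mul, ← map_mul]
    exact congrArg D.img (Subtype.ext (hτ.2.2 D.w (w_mem D).1).symm)
  have hne : c₁ ≠ s := fun e => by
    have hmem : ∀ {x : centralizer ({D.t} : Set G)}, D.img x = D.img (D.vC (w_mem D)) → (x : G) ∈ D.V := by
      intro x hx
      rcases (img_eq_iff D h).1 hx.symm with e' | e'
      · rw [show (x : G) = D.w from e']; exact w_mem D
      · rw [show (x : G) = D.w * D.t from e']; exact mul_mem (w_mem D) (t_mem_V D)
    exact swaps_not_V D hτ.1 (hmem (x := ⟨τ, mem_centralizer_singleton_iff.2 hτC⟩) e)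
  obtain ⟨S, hsS, hcS⟩ : ∃ S : Sylow 2 D.X, s ∈ (S : Subgroup D.X) ∧ c₁ ∈ (S : Subgroup D.X) := by
    have hz : ∀ x : D.X, x * x = 1 → IsPGroup 2 (zpowers x) := fun x hx y => by
      obtain ⟨i, hi⟩ := mem_zpowers_iff.1 y.2
      refine ⟨1, Subtype.ext ?_⟩
      rw [pow_one, SubgroupClass.coe_pow, ← hi, ← zpow_natCast, ← zpow_mul, mul_comm, zpow_mul,
        zpow_natCast, pow_two, hx, one_zpow, OneMemClass.coe_one]
    obtain ⟨S, hS⟩ := ((hz s hss).to_sup_of_normal_right' (hz c₁ hc₁2) (zpowers_le.2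
      (mem_normalizer_iff.2 fun z => by
        have hcomm : ∀ z ∈ zpowers c₁, s * z * s⁻¹ = z := fun z hz' => by
          obtain ⟨i, rfl⟩ := mem_zpowers_iff.1 hz'
          rw [((show Commute s c₁ from hcs.symm).zpow_right i).eq, mul_inv_cancel_right]
        refine ⟨fun hz' => by rw [hcomm z hz']; exact hz', fun hz' => ?_⟩
        have e := hcomm _ hz'
        rwa [← mul_left_cancel (mul_right_cancel e)]))).exists_le_sylow
    exact ⟨S, hS (mem_sup_left (mem_zpowers s)), hS (mem_sup_right (mem_zpowers c₁))⟩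
  have hS4 : Nat.card (S : Subgroup D.X) = 4 := by rw [S.card_eq_multiplicity, hfac]; rfl
  have hSsq : ∀ x ∈ (S : Subgroup D.X), x * x = 1 := fun x hx => hsq x (by
    have := pow_card_eq_one' (x := (⟨x, hx⟩ : (S : Subgroup D.X)))
    rw [hS4] at this
    have := congrArg Subtype.val this
    simpa [pow_succ, mul_assoc] using this)
  haveI : IsMulCommutative (S : Subgroup D.X) :=
    ⟨⟨fun x y => Subtype.ext (TwoPointA5.GWFacts.comm_four S hS4 hSsq x.2 y.2).eq⟩⟩
  have hfus : ∃ r ∈ normalizer ((S : Subgroup D.X) : Set D.X), ∃ x ∈ (S : Subgroup D.X), r * x * r⁻¹ ≠ x := by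
    obtain ⟨c, hc⟩ := hconjs c₁ hc₁2 hc₁1
    obtain ⟨n, hn, e⟩ := S.conj_eq_normalizer_conj_of_mem s c⁻¹ hsS
      (by rw [inv_inv, ← hc]; exact hcS)
    refine ⟨n⁻¹, inv_mem hn, s, hsS, ?_⟩
    rw [inv_inv, ← e, inv_inv, ← hc]
    exact hne
  have hO : Cfsg.oddCore D.X = ⊥ := by
    by_contra hO
    haveI : (Cfsg.oddCore D.X).Normal := ZStar.Main.oddCore_normal
    haveI : Group.IsSolvable ↥(Cfsg.oddCore D.X) := S0205.result InvChar.Core.odd_card_oddCore
    obtain ⟨E, l, hE, hEN, hreg, -, hl, hlg, -, -⟩ :=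
      TwoPointA5.exists_regular D2.h2 (Cfsg.oddCore D.X) hO
    haveI := Fact.mk hl
    obtain ⟨i, hi⟩ := IsPGroup.iff_card.1 hlg
    rw [hreg.card D2.a, card_Ft, hfm] at hi
    obtain ⟨i₁, -, hi₁⟩ := (Nat.dvd_prime_pow hl).1 (hi ▸ dvd_mul_right (2 * j + 1) (4 * j + 1))
    obtain ⟨i₂, -, hi₂⟩ := (Nat.dvd_prime_pow hl).1 (hi ▸ dvd_mul_left (4 * j + 1) (2 * j + 1))
    have hj1 : 1 ≤ j := by omega
    have hl1 : l ∣ 2 * j + 1 := by
      rw [hi₁]; refine dvd_pow_self l ?_; rintro rfl; rw [pow_zero] at hi₁; omega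
    have hl2 : l ∣ 4 * j + 1 := by
      rw [hi₂]; refine dvd_pow_self l ?_; rintro rfl; rw [pow_zero] at hi₂; omega
    have : l ∣ 2 * (2 * j + 1) - (4 * j + 1) := Nat.dvd_sub (hl1.mul_left 2) hl2
    rw [show 2 * (2 * j + 1) - (4 * j + 1) = 1 by omega] at this
    exact hl.ne_one (Nat.dvd_one.1 this)
  rcases TwoPointA5.GWFacts.four_shape S hS4 hSsq hfus hO with
    ⟨-, h12, -⟩ | ⟨L, F, _, _, hLn, hFodd, -, ⟨ε⟩, hSL, -, hinvL, -⟩
  · rw [hX] at h12
    obtain ⟨i, rfl⟩ := hjodd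
    ring_nf at h12
    omega
  haveI := hLn
  -- counting the involutions in `L`
  have hs2 : orderOf s = 2 := orderOf_eq_prime (by rw [pow_two, hss]) D2.hs1
  have hsL : s ∈ L := hSL hsS
  have hεs : orderOf (ε ⟨s, hsL⟩) = 2 := by rw [MulEquiv.orderOf_eq, Subgroup.orderOf_mk, hs2]
  have htr : ∀ x ∈ (D2.cls : Set D.X), ∃ g ∈ L, g * s * g⁻¹ = x := by
    intro x hx
    obtain ⟨c, hc⟩ := D2.mem_cls.1 hx
    have hx2 : orderOf x = 2 := orderOf_eq_prime (by rw [pow_two]; exact D2.cls_sq x hx) fun e => D2.hs1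
      (conj_eq_one_iff.1 (hc.symm.trans e))
    obtain ⟨g, hg⟩ := isConj_iff.1 (Forms.KleinPSL.involutions_isConj
      (GW.ComponentPSL.two_ne_zero_of_odd hFodd) _ (ε ⟨x, hinvL x hx2⟩) hεs
      (by rw [MulEquiv.orderOf_eq, Subgroup.orderOf_mk, hx2]))
    obtain ⟨g', rfl⟩ := ε.surjective g
    rw [← map_inv, ← map_mul, ← map_mul, ε.injective.eq_iff] at hg
    exact ⟨g', g'.2, congrArg Subtype.val hg⟩
  have hcount := card_conj_orbit L s (D2.cls : Set D.X)
    (fun g _ => D2.cls_conj g s (D2.mem_cls.2 ⟨1, by group; rfl⟩)) htr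
  rw [Set.ncard_coe_finset] at hcount
  have hN : D2.cls.card + 1 = 4 * (D.r * D.r) := by
    have h1 := D2.cls_fix_pairs
    rw [show D2.r = D.r from X2_r D h, card_Ft, hf1, hfm, hj, Nat.add_sub_cancel] at h1
    have h2 : D2.cls.card = (4 * j + 1) * (4 * j + 3) := by
      have hj1 : 1 ≤ j := by omega
      refine Nat.eq_of_mul_eq_mul_right (show 0 < 2 * (j * (2 * j + 1)) by positivity) ?_
      linarith
    rw [h2, hj]
    ring
  -- an element of order `p` in `C_L(s)`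
  obtain ⟨z₁, hz₁, hz₁q⟩ : ∃ z ∈ D.FV, z ≠ q₀ := by
    by_cases e : D.a = q₀
    · exact ⟨D.b, b_mem_FV D, fun e' => D.hab (e.trans e'.symm)⟩
    · exact ⟨D.a, a_mem_FV D, e⟩
  obtain ⟨⟨_, e, rfl⟩, heT, hez⟩ := T.trans ⟨q₀, hq₀⟩ ⟨z₁, hz₁⟩
  let y : D.N := e * ⟨τ, hτN⟩ * e⁻¹ * ⟨τ, hτN⟩⁻¹
  have hyT : (⟨D.vHom y, _, rfl⟩ : D.A) ∈ T.N := by
    have hn := T.normal.conj_mem _ (inv_mem heT) (⟨D.vHom ⟨τ, hτN⟩, _, rfl⟩ : D.A)
    have := mul_mem heT hn
    convert this using 1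
    refine Subtype.ext ?_
    show D.vHom y = D.vHom e * (D.vHom ⟨τ, hτN⟩ * (D.vHom e)⁻¹ * (D.vHom ⟨τ, hτN⟩)⁻¹)
    simp only [y, map_mul, map_inv, mul_assoc]
  have hyV : (y : G) ∉ D.V := by
    intro hy
    have h1 : (e : G) * τ * (e : G)⁻¹ * τ⁻¹ ∈ D.V := hy
    have h2 := hq₀ _ h1
    rw [mul_smul, inv_smul_eq_iff.2 (show τ • q₀ = q₀ from hτq).symm, mul_smul, mul_smul,
      smul_eq_iff_eq_inv_smul] at h2
    have hz' : (e : G) • q₀ = z₁ := congrArg Subtype.val hez
    have h3 := hτu ⟨(e : G)⁻¹ • q₀, N_inv D _ (inv_mem e.2) _ hq₀⟩ h2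
    have h4 : (e : G)⁻¹ • q₀ = q₀ := congrArg Subtype.val h3
    exact hz₁q (hz'.symm.trans (inv_smul_eq_iff.1 h4).symm)
  have hyp : ((y : G) ^ p) ∈ D.V := by
    have := (vHom_eq_one D (g := y ^ p)).1 (Equiv.ext fun z => by
      have := T.pow_eq _ hyT z
      show D.vHom (y ^ p) z = z
      rw [map_pow]
      exact this)
    simpa using this
  set u := (y : G) ^ 4 with hu
  have huN : u ∈ D.N := pow_mem y.2 4
  have hup : u ^ p = 1 := by
    rw [hu, ← pow_mul, mul_comm, pow_mul, show (4 : ℕ) = 2 + 2 from rfl, pow_add, pow_two, hyp.2,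
      one_mul]
  have huV : u ∉ D.V := fun huV => hyV (by
    have hcop : Nat.Coprime 4 p := by
      rw [show 4 = 2 ^ 2 from rfl]
      exact Nat.Coprime.pow_left _ ((Nat.coprime_primes Nat.prime_two T.prime).2 (Ne.symm hp2))
    have hbez := Nat.gcd_eq_gcd_ab 4 p
    rw [hcop.gcd_eq_one] at hbez
    have : (y : G) = ((y : G) ^ 4) ^ Nat.gcdA 4 p * ((y : G) ^ p) ^ Nat.gcdB 4 p := by
      rw [← zpow_natCast _ 4, ← zpow_natCast _ p, ← zpow_mul, ← zpow_mul, ← zpow_add]
      norm_num at hbez ⊢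
      rw [← hbez, zpow_one]
    rw [this]
    exact mul_mem (zpow_mem huV _) (zpow_mem hyp _))
  have huo : orderOf u = p := orderOf_eq_prime hup fun e => huV (e ▸ one_mem _)
  have hucen : D.Cen u := cen_of_odd D huN (huo ▸ T.prime.odd_of_ne_two hp2)
  have huC : u ∈ centralizer ({D.t} : Set G) := mem_centralizer_singleton_iff.2 ((mem_N D).1 huN).1
  set U := D.img ⟨u, huC⟩ with hU
  have hUo : orderOf U = p := orderOf_eq_prime (by
    rw [hU, ← map_pow]; exact (img_eq_one D h).2 (Or.inl (by simpa using hup))) fun e1 => by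
      rcases (img_eq_one D h).1 e1 with e2 | e2
      · exact huV (by rw [show u = 1 from e2]; exact one_mem _)
      · exact huV (by rw [show u = D.t from e2]; exact t_mem_V D)
  have hUL : U ∈ L := by
    have hτL : c₁ ∈ L := hSL hcS
    have hy' : D.img ⟨(y : G), mem_centralizer_singleton_iff.2 ((mem_N D).1 y.2).1⟩ ∈ L := by
      have heC : (e : G) ∈ centralizer ({D.t} : Set G) := mem_centralizer_singleton_iff.2 ((mem_N D).1 e.2).1
      have := mul_mem (hLn.conj_mem _ hτL (D.img ⟨e, heC⟩)) (inv_mem hτL)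
      rw [hc₁, ← map_inv, ← map_inv, ← map_mul, ← map_mul, ← map_mul] at this
      exact this
    have := pow_mem hy' 4
    rw [← map_pow] at this
    exact this
  have hUs : U * s = s * U := by
    show D.img ⟨u, huC⟩ * D.img (D.vC (w_mem D)) = D.img (D.vC (w_mem D)) * D.img ⟨u, huC⟩
    rw [← map_mul, ← map_mul]
    exact congrArg D.img (Subtype.ext (mul_inv_eq_iff_eq_mul.1 (hucen _ (w_mem D))))
  -- transport to `PSL₂`
  have hcardC : Nat.card ↥(L ⊓ centralizer ({s} : Set D.X)) =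
      Nat.card (centralizer ({ε ⟨s, hsL⟩} : Set (Matrix.ProjectiveSpecialLinearGroup (Fin 2) F))) := by
    refine Nat.card_congr ((Equiv.trans
      { toFun := fun x => (⟨⟨x.1, x.2.1⟩, x.2.2⟩ : {z : L // (z : D.X) ∈ centralizer ({s} : Set D.X)})
        invFun := fun z => ⟨z.1.1, z.1.2, z.2⟩ }
      (ε.toEquiv.subtypeEquiv fun z => ?_)))
    show (z : D.X) ∈ centralizer ({s} : Set D.X) ↔ ε z ∈ centralizer ({ε ⟨s, hsL⟩} : Set _)
    rw [mem_centralizer_singleton_iff, mem_centralizer_singleton_iff, ← map_mul, ← map_mul,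
      ε.injective.eq_iff]
    exact ⟨fun h => Subtype.ext h, congrArg Subtype.val⟩
  refine psl_count_false hFodd hεs T.prime hp2 (hrp ▸ dvd_pow_self p T.k_ne) hN ?_ ?_
  · rw [← hcardC, ← hpdef, ← hUo, ← Subgroup.orderOf_mk (H := L ⊓ centralizer ({s} : Set D.X)) U
      ⟨hUL, mem_centralizer_singleton_iff.2 hUs⟩]
    exact orderOf_dvd_natCard _
  · rw [← hcardC, ← Nat.card_congr ε.toEquiv, hcount]

end Cfsg.Agent.TwoPointA4
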