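import Cfsg.Agent.Lib.TwoPointA4.TauTwoEven
import Cfsg.Agent.Lib.TwoPointA4.TauTwoOdd

/-!
# The central exchange is no conjugate of `t`
-/

set_option autoImplicit false
set_option linter.unusedSectionVars false
set_option linter.style.haveILetI false

namespace Cfsg.Agent.TwoPointA4

open MulAction Subgroup

universe u v

variable {G : Type u} [Group G] [Finite G] {Ω : Type v} [Fintype Ω] [MulAction G Ω]
  [FaithfulSMul G Ω] (D : Data G Ω) {τ : G} (hτ : D.IsTau τ)

include hτ in
theorem tau_not_isT : ¬ D.IsT τ := fun hT => by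
  by_cases h : D.KerV
  · exact kerV_false D hτ hT h
  obtain ⟨h1, h2⟩ := (D.X2 h).k_bounds
  rcases (show (D.X2 h).k = 1 ∨ (D.X2 h).k = 2 by omega) with hk | hk <;>
    rcases Nat.even_or_odd D.r with hev | hodd
  · exact k_one_even_false D hτ hT h hk hev
  · exact k_one_odd_false D hτ hT h hk hodd
  · exact k_two_even_false D hτ hT h hk hev
  · exact k_two_odd_false D hτ h hk hodd

end Cfsg.Agent.TwoPointA4
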