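import Cfsg.Agent.Lib.TwoPointA4.TauClass
import Cfsg.Agent.Lib.Jordan4.KleinCount

/-!
# The central exchange is a conjugate of `t`: one exchange of the class in the induced group
-/

set_option autoImplicit false
set_option linter.unusedSectionVars false
set_option linter.style.haveILetI false

namespace Cfsg.Agent.TwoPointA4

open MulAction Subgroup
open scoped Pointwise

universe u v

/-- An involution on a set of odd order fixes a point. -/
theorem exists_fixed_of_odd {α : Type*} [Finite α] (σ : α → α) (hσ : ∀ x, σ (σ x) = x)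
    (h : Odd (Nat.card α)) : ∃ x, σ x = x := by
  classical
  haveI := Fintype.ofFinite α
  by_contra! hne
  have : ((Finset.univ : Finset α).card : ZMod 2) = 0 := by
    rw [Finset.card_eq_sum_ones, Nat.cast_sum, Nat.cast_one]
    exact Finset.sum_involution (fun x _ => σ x) (fun x _ => by decide) (fun x _ _ => hne x)
      (fun x _ => Finset.mem_univ _) (fun x _ => hσ x)
  rw [ZMod.natCast_eq_zero_iff_even, Finset.card_univ, ← Nat.card_eq_fintype_card] at this
  exact Nat.not_even_iff_odd.2 h this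

/-- Two Sylow 2-subgroups of a subgroup are conjugate in it. -/
theorem conj_in {G : Type u} [Group G] [Finite G] {H P Q : Subgroup G} (hP : P ≤ H) (hQ : Q ≤ H)
    {n o : ℕ} (ho : Odd o) (hH : Nat.card H = 2 ^ n * o) (hPc : Nat.card P = 2 ^ n)
    (hQc : Nat.card Q = 2 ^ n) : ∃ h ∈ H, ∀ x, x ∈ P ↔ h * x * h⁻¹ ∈ Q := by
  haveI := Fact.mk Nat.prime_two
  have hfac : (Nat.card H).factorization 2 = n := by
    rw [hH, Nat.factorization_mul (by positivity) (fun e => by simp [e] at ho), Finsupp.add_apply,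
      Nat.Prime.factorization_pow Nat.prime_two, Finsupp.single_eq_same,
      Nat.factorization_eq_zero_of_not_dvd (fun hd => Nat.not_even_iff_odd.2 ho (even_iff_two_dvd.2 hd)),
      add_zero]
  let SP : Sylow 2 H := Sylow.ofCard (P.subgroupOf H) (by
    rw [Nat.card_congr (subgroupOfEquivOfLe hP).toEquiv, hPc, hfac])
  let SQ : Sylow 2 H := Sylow.ofCard (Q.subgroupOf H) (by
    rw [Nat.card_congr (subgroupOfEquivOfLe hQ).toEquiv, hQc, hfac])
  obtain ⟨h, hh⟩ := MulAction.exists_smul_eq H SP SQ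
  have hset : (MulAut.conj h • (P.subgroupOf H)) = Q.subgroupOf H :=
    congrArg (fun S : Sylow 2 H => (S : Subgroup H)) hh
  refine ⟨h, h.2, fun x => ⟨fun hx => ?_, fun hx => ?_⟩⟩
  · have h1 : h * ⟨x, hP hx⟩ * h⁻¹ ∈ Q.subgroupOf H := by
      rw [← hset]
      exact ⟨⟨x, hP hx⟩, hx, rfl⟩
    exact h1
  · have h1 : (⟨(h : G) * x * (h : G)⁻¹, hQ hx⟩ : H) ∈ Q.subgroupOf H := hx
    rw [← hset] at h1
    obtain ⟨y, hy, e⟩ := h1
    have e' : (h : G) * y * (h : G)⁻¹ = h * x * (h : G)⁻¹ := congrArg Subtype.val e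
    exact (mul_left_cancel (mul_right_cancel e')) ▸ hy

variable {G : Type u} [Group G] [Finite G] {Ω : Type v} [Fintype Ω] [MulAction G Ω]
  [FaithfulSMul G Ω] (D : Data G Ω) {τ : G} (hτ : D.IsTau τ)

include hτ in
/-- The elements of `C(t)` exchanging the base points. -/
theorem cent_swappers {x : G} (hx : x * D.t = D.t * x) (hs : D.Swaps x) : ∃ v ∈ D.V, x = τ * v := by
  refine ⟨τ * x, ?_, by rw [← mul_assoc, hτ.2.1, one_mul]⟩
  rw [← cent_inf_K D]
  refine ⟨mem_centralizer_singleton_iff.2 ?_, ⟨?_, ?_⟩⟩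
  · rw [mul_assoc, hx, ← mul_assoc, ← hτ.2.2 D.t (t_mem D), mul_assoc]
  · show _ • D.a = D.a
    rw [mul_smul, hs.1, hτ.1.2]
  · show _ • D.b = D.b
    rw [mul_smul, hs.2, hτ.1.1]

theorem X2_swap {h : ¬ D.KerV} {g : centralizer ({D.t} : Set G)}
    (ha : D.img g • (D.X2 h).a = (D.X2 h).b) (hb : D.img g • (D.X2 h).b = (D.X2 h).a) :
    D.Swaps (g : G) :=
  ⟨congrArg Subtype.val ha, congrArg Subtype.val hb⟩

include hτ in
theorem k_four (hT : D.IsT τ) (h : ¬ D.KerV) : ∀ v ∈ D.V, D.IsT (τ * v) := by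
  rcases k_of_isT D hτ hT with ⟨-, hall⟩ | ⟨-, hnone⟩
  · exact hall
  exfalso
  classical
  have hk1 := (D.X2 h).k_bounds.1
  unfold TwoPointA5.TwoTwo.k at hk1
  obtain ⟨u, hu⟩ := Finset.card_pos.1 (by exact hk1)
  simp only [Finset.mem_filter] at hu
  obtain ⟨hu, hua, hub⟩ := hu
  obtain ⟨g, rfl⟩ := img_surj D u
  obtain ⟨hg1, hg2⟩ := cls_isT D h hu
  obtain ⟨v, hv, hgv⟩ := cent_swappers D hτ (mem_centralizer_singleton_iff.1 g.2) (X2_swap D hua hub)
  by_cases hv1 : v = 1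
  · refine hnone _ (t_mem_V D) (t_ne D) ?_
    rwa [hgv, hv1, mul_one] at hg2
  · exact hnone v hv hv1 (hgv ▸ hg1)

include hτ in
theorem all_isT (hT : D.IsT τ) (h : ¬ D.KerV) {x : G} (hx2 : x * x = 1) (hx1 : x ≠ 1) : D.IsT x := by
  rcases tau_classes D hτ hx2 hx1 with h' | ⟨g, rfl⟩ | ⟨g, rfl⟩
  · exact h'
  · exact isT_conj D hT g
  · exact isT_conj D (k_four D hτ hT h _ (t_mem_V D)) g

include hτ in
/-- Two commuting members of `jays` with a fixed point are equal, so a four-group meeting no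
`t` gives the contradiction in odd degree. -/
theorem k_one_odd_false (hT : D.IsT τ) (h : ¬ D.KerV) (hk : (D.X2 h).k = 1) (hodd : Odd D.r) :
    False := by
  classical
  have hdeg := (D.X2 h).deg_of_k_one hk
  rw [X2_r, card_Ft] at hdeg
  have hf : Odd (Fintype.card D.Ft) := by rw [card_Ft, hdeg]; exact hodd.mul hodd
  obtain ⟨E, p, hE, hreg, -, -, -, -, -, -, hone⟩ := (D.X2 h).regular_of_odd hk hf
  obtain ⟨g, hg, hcd, hV, hK⟩ := exists_four D hτ hT
  have hcne : D.t • g • D.a ≠ g • D.a := fun e => D.hab (MulAction.injective g (e.symm.trans hcd))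
  let W : ∀ v ∈ D.V, centralizer ({D.t} : Set G) := fun v hv =>
    ⟨g * v * g⁻¹, mem_centralizer_singleton_iff.2 (hV v hv)⟩
  have hW1 : ∀ v (hv : v ∈ D.V), v ≠ 1 → D.img (W v hv) ≠ 1 := by
    intro v hv hv1 e
    rcases (img_eq_one D h).1 e with e' | e'
    · exact hv1 (conj_eq_one_iff.1 e')
    · have e'' : g * v * g⁻¹ = D.t := e'
      apply hcne
      rw [← e'', mul_smul, inv_smul_smul, mul_smul, hv.1.1]
  have hW2 : ∀ v (hv : v ∈ D.V), D.img (W v hv) * D.img (W v hv) = 1 := fun v hv => by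
    rw [← map_mul]
    exact (img_eq_one D h).2 (Or.inl (show g * v * g⁻¹ * (g * v * g⁻¹) = 1 by
      rw [show g * v * g⁻¹ * (g * v * g⁻¹) = g * (v * v) * g⁻¹ by group, hv.2]; group))
  set u := D.img (W D.t (t_mem_V D)) with hu
  set v := D.img (W D.w (w_mem D)) with hv
  have huv : D.img (W _ (mul_mem (t_mem_V D) (w_mem D))) = u * v := by
    rw [hu, hv, ← map_mul]
    exact congrArg D.img (Subtype.ext (show g * (D.t * D.w) * g⁻¹ = g * D.t * g⁻¹ * (g * D.w * g⁻¹) by group))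
  have hcomm : u * v = v * u := by
    rw [hu, hv, ← map_mul, ← map_mul]
    refine congrArg D.img (Subtype.ext ?_)
    show g * D.t * g⁻¹ * (g * D.w * g⁻¹) = g * D.w * g⁻¹ * (g * D.t * g⁻¹)
    rw [show g * D.t * g⁻¹ * (g * D.w * g⁻¹) = g * (D.t * D.w) * g⁻¹ by group,
      comm_of_sq D (t_mem D) (w_mem D).1 (t_sq D) (w_sq D)]
    group
  have htw : D.t * D.w ≠ 1 := fun e => w_ne_t D (by
    rw [← one_mul D.w, ← t_sq D, mul_assoc, e, mul_one])
  -- all three lie in the class of `s`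
  have hcls : ∀ x (hx : x ∈ D.V), x ≠ 1 → D.img (W x hx) ∈ (D.X2 h).cls := by
    have hconj : ∀ x (hx : x ∈ D.V), x ≠ 1 → ∀ y (hy : y ∈ D.V), y ≠ 1 →
        D.img (W x hx) ∈ (D.X2 h).cls → D.img (W y hy) ∈ (D.X2 h).cls := by
      intro x hx hx1 y hy hy1 hc
      obtain ⟨k, hk', hkxy⟩ := conj_in_K D hx.1 hy.1 hx.2 hy.2 hx1 hy1
      have := (D.X2 h).cls_conj (D.img ⟨g * k * g⁻¹, mem_centralizer_singleton_iff.2 (hK k hk')⟩) _ hc
      rw [← map_inv, ← map_mul, ← map_mul] at this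
      convert this using 1
      refine congrArg D.img (Subtype.ext ?_)
      show g * y * g⁻¹ = g * k * g⁻¹ * (g * x * g⁻¹) * (g * k * g⁻¹)⁻¹
      rw [← hkxy]
      group
    by_contra hbad
    push Not at hbad
    obtain ⟨x, hx, hx1, hxc⟩ := hbad
    have hj : ∀ y (hy : y ∈ D.V), y ≠ 1 → D.img (W y hy) ∈ (D.X2 h).jays := fun y hy hy1 =>
      (D.X2 h).mem_jays.2 ⟨hW2 y hy, hW1 y hy hy1, fun e => hxc (hconj y hy hy1 x hx hx1 e)⟩
    have hju := hj _ (t_mem_V D) (t_ne D)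
    have hjv := hj _ (w_mem D) (w_ne D)
    rw [← hu] at hju
    rw [← hv] at hjv
    obtain ⟨⟨z, hz⟩⟩ := (Nat.card_pos_iff.1 (by
      have := (D.X2 h).jays_fix u hju
      unfold TwoPointA5.fixCard at this
      rw [this, Nat.odd_iff.1 hf]; omega : 0 < Nat.card {x : D.Ft // u • x = x})).1
    have hvz : u • v • z = v • z := by rw [← mul_smul, hcomm, mul_smul, hz]
    have hsub : Subsingleton {x : D.Ft // u • x = x} := (Nat.card_eq_one_iff_unique.1 (by
      have := (D.X2 h).jays_fix u hju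
      unfold TwoPointA5.fixCard at this
      rw [this, Nat.odd_iff.1 hf])).1
    have e : v • z = z := congrArg Subtype.val (@Subsingleton.elim _ hsub ⟨_, hvz⟩ ⟨z, hz⟩)
    have huv' := hone u hju v hjv z hz e
    apply hW1 _ (mul_mem (t_mem_V D) (w_mem D)) htw
    rw [huv, ← huv']
    exact hW2 D.t (t_mem_V D)
  have hcu : u ∈ (D.X2 h).cls := hcls D.t (t_mem_V D) (t_ne D)
  have hcv : v ∈ (D.X2 h).cls := hcls D.w (w_mem D) (w_ne D)
  have hcuv : u * v ∈ (D.X2 h).cls := huv ▸ hcls _ (mul_mem (t_mem_V D) (w_mem D)) htw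
  have hr : ∀ x ∈ (D.X2 h).cls, Nat.card {z : D.Ft // x • z = z} = D.r := fun x hx => by
    rw [← X2_r D h]; exact (D.X2 h).cls_fix x hx
  obtain ⟨⟨p₀, hp₀u⟩, hp₀'⟩ := exists_fixed_of_odd
    (fun z : {z : D.Ft // u • z = z} => (⟨v • z.1, by rw [← mul_smul, hcomm, mul_smul, z.2]⟩ :
      {z : D.Ft // u • z = z}))
    (fun z => Subtype.ext (show v • v • z.1 = z.1 by rw [← mul_smul, hv, hW2 D.w (w_mem D), one_smul]))
    (by rw [hr u hcu]; exact hodd)
  have hp₀v : v • p₀ = p₀ := congrArg Subtype.val hp₀'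
  have huniq : ∀ z : D.Ft, u • z = z → v • z = z → z = p₀ := by
    intro z hzu hzv
    by_contra hne
    obtain ⟨c, hca, hcb⟩ := (is_two_pretransitive_iff.1 (D.X2 h).h2) (D.X2 h).hab hne
    have hs : ∀ x, x ≠ 1 → x • z = z → x • p₀ = p₀ → c⁻¹ * x * c = (D.X2 h).s := fun x hx1 h1 h2 =>
      ((D.X2 h).hstab _ (by rw [mul_smul, mul_smul, hca, h1, ← hca, inv_smul_smul])
        (by rw [mul_smul, mul_smul, hcb, h2, ← hcb, inv_smul_smul])).resolve_left
        fun e => hx1 (by rw [show x = c * (c⁻¹ * x * c) * c⁻¹ by group, e]; group)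
    have e := (hs u (hW1 D.t (t_mem_V D) (t_ne D)) hzu hp₀u).trans (hs v (hW1 D.w (w_mem D) (w_ne D)) hzv hp₀v).symm
    apply hW1 _ (mul_mem (t_mem_V D) (w_mem D)) htw
    rw [huv, ← mul_left_cancel (mul_right_cancel e)]
    exact hW2 D.t (t_mem_V D)
  -- count inside the regular subgroup
  haveI := hE
  have hcen : ∀ x : D.X, x • p₀ = p₀ → ∀ e ∈ E, (e ∈ centralizer ({x} : Set D.X) ↔ x • e • p₀ = e • p₀) := by
    intro x hxp e he
    rw [mem_centralizer_singleton_iff]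
    constructor
    · intro hc
      rw [← mul_smul, ← hc, mul_smul, hxp]
    · intro hfix
      have hd : e⁻¹ * (x * e * x⁻¹) = 1 := hreg.2 p₀ _ (mul_mem (inv_mem he) (hE.conj_mem e he x)) (by
        rw [mul_smul, mul_smul, inv_smul_eq_iff.2 hxp.symm, mul_smul, hfix, inv_smul_smul])
      exact (mul_inv_eq_iff_eq_mul.1 (inv_mul_eq_one.1 hd).symm).symm
  have hbij : ∀ (H : Subgroup D.X) (Q : D.Ft → Prop), (∀ e ∈ E, e ∈ H ↔ Q (e • p₀)) →
      Nat.card ↥(E ⊓ H) = Nat.card {z : D.Ft // Q z} := by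
    intro H Q hHQ
    refine Nat.card_congr (Equiv.ofBijective
      (fun e : ↥(E ⊓ H) => (⟨(e : D.X) • p₀, (hHQ _ e.2.1).1 e.2.2⟩ : {z : D.Ft // Q z})) ⟨?_, ?_⟩)
    · intro e e' he
      have he' : (e : D.X) • p₀ = (e' : D.X) • p₀ := congrArg Subtype.val he
      exact Subtype.ext (inv_mul_eq_one.1 (hreg.2 p₀ _ (mul_mem (inv_mem e.2.1) e'.2.1)
        (by rw [mul_smul, ← he', inv_smul_smul])))
    · rintro ⟨z, hz⟩
      haveI := hreg.1
      obtain ⟨⟨e, he⟩, hez⟩ := exists_smul_eq E p₀ z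
      exact ⟨⟨e, he, (hHQ e he).2 (hez ▸ hz)⟩, Subtype.ext hez⟩
  have hEcard : Nat.card E = D.r * D.r := by rw [← hdeg, ← card_Ft D]; exact hreg.card p₀
  have hEo : Odd (Nat.card E) := by rw [hEcard]; exact hodd.mul hodd
  have hcount := Jordan4.card_klein hEo (hW2 D.t (t_mem_V D)) (hW2 D.w (w_mem D)) hcomm
    (fun x hx => hE.conj_mem x hx u) (fun x hx => hE.conj_mem x hx v)
  rw [hbij (centralizer {u}) (fun z => (u) • z = z) (hcen u hp₀u), hbij (centralizer {v}) (fun z => (v) • z = z) (hcen v hp₀v),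
    hbij (centralizer {u * v}) (fun z => (u * v) • z = z) (hcen (u * v) (by rw [mul_smul, hp₀v, hp₀u])), hr u hcu, hr v hcv, hr _ hcuv,
    hbij (centralizer {u, v}) (fun z => z = p₀) (fun e he => by
      rw [show centralizer ({u, v} : Set D.X) = centralizer {u} ⊓ centralizer {v} by
        ext z; simp [mem_centralizer_iff], mem_inf, hcen u hp₀u e he, hcen v hp₀v e he]
      exact ⟨fun hh => huniq _ hh.1 hh.2, fun hh => by rw [hh]; exact ⟨hp₀u, hp₀v⟩⟩),
    hEcard] at hcount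
  rw [show Nat.card {z : D.Ft // z = p₀} = 1 by simp, one_pow, mul_one] at hcount
  have h2r := two_le_r D
  have : D.r * D.r * 1 = D.r * D.r * D.r := by rw [mul_one]; exact hcount
  have := Nat.eq_of_mul_eq_mul_left (by positivity) this
  omega

end Cfsg.Agent.TwoPointA4
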