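import Cfsg.Agent.Lib.TwoPointA4.TauInd

/-!
# The central exchange is a conjugate of `t`: one exchange, even `r`
-/

set_option autoImplicit false
set_option linter.unusedSectionVars false
set_option linter.style.haveILetI false

namespace Cfsg.Agent.TwoPointA4

open MulAction Subgroup

universe u v

variable {G : Type u} [Group G] [Finite G] {Ω : Type v} [Fintype Ω] [MulAction G Ω]
  [FaithfulSMul G Ω] (D : Data G Ω) {τ : G} (hτ : D.IsTau τ)

include hτ in
theorem k_one_even_false (hT : D.IsT τ) (h : ¬ D.KerV) (hk : (D.X2 h).k = 1) (hev : Even D.r) :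
    False := by
  classical
  have hdeg := (D.X2 h).deg_of_k_one hk
  rw [X2_r, card_Ft] at hdeg
  obtain ⟨m, hm0, hm⟩ := r_two_pow D hev
  have hdeg2 : Fintype.card D.Ft = 2 ^ (2 * m) := by rw [card_Ft, hdeg, hm, ← pow_add, two_mul]
  obtain ⟨E, hE, hreg, hEc, hEsq, -⟩ := (D.X2 h).regular_of_even hk hdeg2
  haveI := hE
  haveI := hreg.1
  have hfix : ∀ e ∈ E, ∀ x : D.Ft, e • x = x → e = 1 := fun e he x hx => hreg.2 x e he hx
  let a' : D.Ft := (D.X2 h).a
  -- the preimage of the regular subgroup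
  set C := centralizer ({D.t} : Set G) with hC
  set P₀ : Subgroup G := (E.comap D.img).map C.subtype with hP₀
  have hmem : ∀ x : G, x ∈ P₀ ↔ ∃ hx : x ∈ C, D.img ⟨x, hx⟩ ∈ E := fun x =>
    ⟨fun ⟨y, hy, e⟩ => e ▸ ⟨y.2, hy⟩, fun ⟨hx, he⟩ => ⟨⟨x, hx⟩, he, rfl⟩⟩
  have hcomm : ∀ x ∈ P₀, x * D.t = D.t * x := fun x hx =>
    mem_centralizer_singleton_iff.1 ((hmem x).1 hx).1
  have htP : D.t ∈ P₀ := (hmem _).2 ⟨mem_centralizer_singleton_iff.2 rfl,
    by rw [(img_eq_one D h).2 (Or.inr rfl)]; exact one_mem E⟩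
  have hstab : ∀ x ∈ P₀, ∀ z : Ω, D.t • z = z → x • z = z → x = 1 ∨ x = D.t := by
    intro x hx z hz e
    obtain ⟨hxC, hxE⟩ := (hmem x).1 hx
    exact (img_eq_one D h).1 (hfix _ hxE ⟨z, hz⟩ (Subtype.ext e))
  have htrans : ∀ z : Ω, D.t • z = z → ∃ x ∈ P₀, x • D.a = z := by
    intro z hz
    obtain ⟨⟨e, he⟩, hez⟩ := exists_smul_eq E a' (⟨z, hz⟩ : D.Ft)
    obtain ⟨x, rfl⟩ := img_surj D e
    exact ⟨x, (hmem _).2 ⟨x.2, he⟩, congrArg Subtype.val hez⟩
  -- its elements are involutions of the class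
  have hinv : ∀ x ∈ P₀, x ≠ 1 → x * x = 1 ∧ D.IsT x := by
    intro x hx hx1
    by_cases hxa : x • D.a = D.a
    · rcases hstab x hx _ (t_mem D).1 hxa with rfl | rfl
      · exact absurd rfl hx1
      · exact ⟨t_sq D, 1, by group⟩
    obtain ⟨hxC, hxE⟩ := (hmem x).1 hx
    have hxx : x • x • D.a = D.a := by
      have := congrArg (fun q : D.X => ((q • a' : D.Ft) : Ω)) (hEsq _ hxE)
      have e' : x • x • (a' : Ω) = (a' : Ω) := by simpa [mul_smul, img_smul] using this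
      exact e'
    have hxt : x * D.t = D.t * x := hcomm x hx
    obtain ⟨g, hg, hga, hgb⟩ := witt D D.hab (Ne.symm hxa) (t_mem D).1 (t_mem D).2 (t_mem D).1
      (TwoPointA5.smul_mem_fix hxC (t_mem D).1)
    have hg' : Commute g D.t := hg
    obtain ⟨v, hv, e⟩ := cent_swappers D hτ (x := g⁻¹ * x * g)
      ((hg'.inv_left.mul_left hxt).mul_left hg').eq
      ⟨by rw [mul_smul, mul_smul, hga, ← hgb, inv_smul_smul],
        by rw [mul_smul, mul_smul, hgb, hxx, inv_smul_eq_iff, hga]⟩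
    have ex : x = g * (τ * v) * g⁻¹ := by rw [← e]; group
    rw [ex]
    refine ⟨?_, isT_conj D (k_four D hτ hT h v hv) g⟩
    rw [show g * (τ * v) * g⁻¹ * (g * (τ * v) * g⁻¹) = g * ((τ * v) * (τ * v)) * g⁻¹ by group,
      ((tau_swappers D hτ).2 ⟨v, hv, rfl⟩).2]
    group
  have hsq : ∀ x ∈ P₀, x * x = 1 := fun x hx => by
    by_cases h1 : x = 1
    · rw [h1, one_mul]
    · exact (hinv x hx h1).1
  have habel : ∀ x ∈ P₀, ∀ y ∈ P₀, x * y = y * x := fun x hx y hy =>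
    calc x * y = x * ((x * y) * (x * y)) * y := by rw [hsq _ (mul_mem hx hy), mul_one]
      _ = (x * x) * (y * x) * (y * y) := by group
      _ = y * x := by rw [hsq x hx, hsq y hy, one_mul, mul_one]
  have hnormal : ∀ g ∈ C, ∀ x ∈ P₀, g * x * g⁻¹ ∈ P₀ := fun g hg x hx => by
    obtain ⟨hxC, hxE⟩ := (hmem x).1 hx
    refine (hmem _).2 ⟨mul_mem (mul_mem hg hxC) (inv_mem hg), ?_⟩
    have := hE.conj_mem _ hxE (D.img ⟨g, hg⟩)
    rwa [← map_inv, ← map_mul, ← map_mul] at this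
  have hcard₀ : Nat.card P₀ = 2 * D.f := by
    have h1 := (stabilizer P₀ D.a).card_mul_index
    have ho : orbit P₀ D.a = {z : Ω | D.t • z = z} := by
      ext z
      constructor
      · rintro ⟨⟨x, hx⟩, rfl⟩
        exact TwoPointA5.smul_mem_fix ((hmem x).1 hx).1 (t_mem D).1
      · intro hz
        obtain ⟨x, hx, rfl⟩ := htrans z hz
        exact ⟨⟨x, hx⟩, rfl⟩
    have hs : Nat.card (stabilizer P₀ D.a) = 2 := by
      rw [Nat.card_eq_two_iff]
      refine ⟨1, ⟨⟨D.t, htP⟩, (t_mem D).1⟩, fun e => t_ne D (congrArg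
        (fun z : stabilizer P₀ D.a => ((z : P₀) : G)) e).symm, ?_⟩
      ext ⟨⟨x, hx⟩, e⟩
      simp only [Set.mem_insert_iff, Set.mem_singleton_iff, Set.mem_univ, iff_true]
      rcases hstab x hx _ (t_mem D).1 e with rfl | rfl
      · exact Or.inl rfl
      · exact Or.inr rfl
    rw [index_stabilizer, ho, hs] at h1
    rw [← h1, ← Nat.card_coe_set_eq]
    rfl
  -- adjoin `w`
  have hwC : D.w ∈ C := V_le_cent D (t_mem_V D) (w_mem D)
  have hwP : D.w ∉ P₀ := fun hw => (hstab _ hw _ (t_mem D).1 (w_mem D).1.1).elim (w_ne D) (w_ne_t D)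
  have hwn : ∀ x ∈ P₀, D.w * x * D.w ∈ P₀ := fun x hx => by
    have := hnormal D.w hwC x hx
    rwa [inv_eq_of_mul_eq_one_left (w_sq D)] at this
  let P : Subgroup G :=
    { carrier := {x | x ∈ P₀ ∨ x * D.w ∈ P₀}
      one_mem' := Or.inl (one_mem P₀)
      mul_mem' := by
        rintro x y (hx | hx) (hy | hy)
        · exact Or.inl (mul_mem hx hy)
        · exact Or.inr (by rw [mul_assoc]; exact mul_mem hx hy)
        · refine Or.inr ?_
          have e : x * y * D.w = (x * D.w) * (D.w * y * D.w) := by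
            rw [show x * D.w * (D.w * y * D.w) = x * (D.w * D.w) * y * D.w by group, w_sq, mul_one]
          rw [e]; exact mul_mem hx (hwn y hy)
        · refine Or.inl ?_
          have e : x * y = (x * D.w) * (D.w * (y * D.w) * D.w) := by
            rw [show x * D.w * (D.w * (y * D.w) * D.w) = x * (D.w * D.w) * y * (D.w * D.w) by group,
              w_sq, mul_one, mul_one]
          rw [e]; exact mul_mem hx (hwn _ hy)
      inv_mem' := by
        rintro x (hx | hx)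
        · exact Or.inl (inv_mem hx)
        · refine Or.inr ?_
          have e : x⁻¹ * D.w = D.w * (x * D.w)⁻¹ * D.w := by
            rw [_root_.mul_inv_rev, inv_eq_of_mul_eq_one_left (w_sq D),
              show D.w * (D.w * x⁻¹) * D.w = (D.w * D.w) * (x⁻¹ * D.w) by group, w_sq, one_mul]
          rw [e]; exact hwn _ (inv_mem hx) }
  have hPmem : ∀ x, x ∈ P ↔ x ∈ P₀ ∨ x * D.w ∈ P₀ := fun _ => Iff.rfl
  have hP₀P : P₀ ≤ P := fun x hx => Or.inl hx
  have hPC : P ≤ C := by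
    rintro x (hx | hx)
    · exact ((hmem x).1 hx).1
    · have := mul_mem ((hmem _).1 hx).1 (inv_mem hwC)
      rwa [mul_inv_cancel_right] at this
  have hcard : Nat.card P = 4 * D.f := by
    have h1 := (P₀.subgroupOf P).card_mul_index
    have h2 : (P₀.subgroupOf P).index = 2 := by
      refine index_eq_two_iff.2 ⟨⟨D.w, Or.inr (by rw [w_sq]; exact one_mem _)⟩, fun y => ?_⟩
      simp only [mem_subgroupOf, coe_mul]
      rcases y.2 with hy | hy
      · exact Or.inr ⟨hy, fun e => hwP (by simpa using mul_mem (inv_mem hy) e)⟩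
      · exact Or.inl ⟨hy, fun e => hwP (by simpa using mul_mem (inv_mem e) hy)⟩
    rw [h2, Nat.card_congr (subgroupOfEquivOfLe hP₀P).toEquiv, hcard₀] at h1
    omega
  -- commutators
  have hcom : ∀ x ∈ P, ∀ y ∈ P, ∃ e ∈ P₀, x * y * x⁻¹ * y⁻¹ = e * (D.w * e * D.w) := by
    have hwi : D.w⁻¹ = D.w := inv_eq_of_mul_eq_one_left (w_sq D)
    have hinv' : ∀ x ∈ P₀, x⁻¹ = x := fun x hx => inv_eq_of_mul_eq_one_left (hsq x hx)
    have hw2 : ∀ z, D.w * (D.w * z) = z := fun z => by rw [← mul_assoc, w_sq, one_mul]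
    have hrep : ∀ x ∈ P, x ∈ P₀ ∨ ∃ a₁ ∈ P₀, x = a₁ * D.w := by
      rintro x (hx | hx)
      · exact Or.inl hx
      · exact Or.inr ⟨x * D.w, hx, by rw [mul_assoc, w_sq, mul_one]⟩
    intro x hx y hy
    rcases hrep x hx with hx' | ⟨a₁, ha, rfl⟩ <;> rcases hrep y hy with hy' | ⟨b₁, hb, rfl⟩
    · exact ⟨1, one_mem _, by rw [habel x hx' y hy']; simp [mul_assoc, w_sq]⟩
    · refine ⟨x, hx', ?_⟩
      rw [_root_.mul_inv_rev, hinv' x hx', hinv' b₁ hb, hwi]
      calc x * (b₁ * D.w) * x * (D.w * b₁) = (x * b₁) * (D.w * x * D.w) * b₁ := by group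
        _ = (x * b₁) * (b₁ * (D.w * x * D.w)) := by rw [mul_assoc, habel _ (hwn x hx') b₁ hb]
        _ = x * (D.w * x * D.w) := by rw [mul_assoc x, ← mul_assoc b₁, hsq b₁ hb, one_mul]
    · refine ⟨y, hy', ?_⟩
      rw [_root_.mul_inv_rev, hinv' a₁ ha, hinv' y hy', hwi]
      calc a₁ * D.w * y * (D.w * a₁) * y = a₁ * ((D.w * y * D.w) * a₁) * y := by group
        _ = a₁ * (a₁ * (D.w * y * D.w)) * y := by rw [habel _ (hwn y hy') a₁ ha]
        _ = (D.w * y * D.w) * y := by rw [← mul_assoc a₁, hsq a₁ ha, one_mul]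
        _ = y * (D.w * y * D.w) := habel _ (hwn y hy') _ hy'
    · refine ⟨a₁ * b₁, mul_mem ha hb, ?_⟩
      rw [_root_.mul_inv_rev, _root_.mul_inv_rev, hinv' a₁ ha, hinv' b₁ hb, hwi]
      calc a₁ * D.w * (b₁ * D.w) * (D.w * a₁) * (D.w * b₁)
          = a₁ * (D.w * (b₁ * a₁) * D.w) * b₁ := by simp only [mul_assoc, hw2]
        _ = a₁ * (b₁ * (D.w * (a₁ * b₁) * D.w)) := by
            rw [mul_assoc, habel _ (hwn _ (mul_mem hb ha)) b₁ hb, habel b₁ hb a₁ ha]
        _ = a₁ * b₁ * (D.w * (a₁ * b₁) * D.w) := (mul_assoc _ _ _).symm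
  -- a commutator which is not trivial
  obtain ⟨y, hy, hyV⟩ : ∃ y : Ω, D.t • y = y ∧ D.w • y ≠ y := by
    obtain ⟨y, hy, hmv⟩ := exists_moved D h
    exact ⟨y, hy, hmv _ (w_mem D) (w_ne D) (w_ne_t D)⟩
  obtain ⟨e, he, hea⟩ := htrans y hy
  set c := e * (D.w * e * D.w) with hc
  have hc1 : c ≠ 1 := fun e1 => hyV (by
    have e2 : D.w * e * D.w = e := by
      rw [← one_mul (D.w * e * D.w), ← hsq e he, mul_assoc, ← hc, e1, mul_one]
    calc D.w • y = (D.w * e * D.w) • D.a := by rw [mul_smul, mul_smul, (w_mem D).1.1, hea]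
      _ = y := by rw [e2, hea])
  have hcP₀ : c ∈ P₀ := mul_mem he (hwn e he)
  obtain ⟨-, g, hg⟩ := hinv c hcP₀ hc1
  have hcw : D.w * c * D.w = c := by
    calc D.w * c * D.w = (D.w * e * D.w) * ((D.w * D.w) * e * (D.w * D.w)) := by
          simp only [hc, mul_assoc]
          rw [show ∀ z, D.w * (D.w * z) = z from fun z => by rw [← mul_assoc, w_sq, one_mul]]
      _ = c := by rw [w_sq, one_mul, mul_one, habel _ (hwn e he) _ he]
  have hPc : ∀ x ∈ P, x * c = c * x := by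
    rintro x (hx | hx)
    · exact habel x hx c hcP₀
    · have h1 := habel _ hx c hcP₀
      have h2 : D.w * c = c * D.w := by
        calc D.w * c = D.w * c * (D.w * D.w) := by rw [w_sq, mul_one]
          _ = c * D.w := by rw [← mul_assoc, hcw]
      have hx' : x = x * D.w * D.w := by rw [mul_assoc, w_sq, mul_one]
      rw [hx', mul_assoc, h2, ← mul_assoc, h1, mul_assoc]
  -- some conjugation normalising `P` maps `t` to `c`
  set Q : Subgroup G := P.map (MulAut.conj g⁻¹).toMonoidHom with hQ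
  have hQC : Q ≤ C := by
    rintro _ ⟨x, hx, rfl⟩
    refine mem_centralizer_singleton_iff.2 ?_
    show g⁻¹ * x * g⁻¹⁻¹ * D.t = D.t * (g⁻¹ * x * g⁻¹⁻¹)
    calc g⁻¹ * x * g⁻¹⁻¹ * D.t = g⁻¹ * (x * (g * D.t * g⁻¹)) * g := by group
      _ = g⁻¹ * ((g * D.t * g⁻¹) * x) * g := by rw [hg, hPc x hx]
      _ = D.t * (g⁻¹ * x * g⁻¹⁻¹) := by group
  have hf1 : Odd (D.f - 1) := by
    have h1 : Even D.f := by rw [hdeg]; exact hev.mul_left _
    obtain ⟨i, hi⟩ := h1
    have := two_le_f D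
    exact ⟨i - 1, by omega⟩
  have hfm : D.f = 2 ^ (2 * m) := (card_Ft D).symm.trans hdeg2
  obtain ⟨n, hn, hn'⟩ := conj_in hPC hQC (n := 2 * m + 2) hf1
    (by rw [hC, card_cent, hfm, pow_add]; ring)
    (by rw [hcard, hfm, pow_add]; ring)
    (by rw [hQ, card_map_of_injective (MulEquiv.injective _), hcard, hfm, pow_add]; ring)
  -- `t` is then a commutator in `P`
  obtain ⟨e₁, he₁, hce₁⟩ : ∃ e₁ ∈ P₀, D.t = e₁ * (D.w * e₁ * D.w) := by
    set k := g * n with hk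
    have hconj : ∀ x, k * x * k⁻¹ ∈ P ↔ x ∈ P := by
      intro x
      rw [hn' x]
      constructor
      · intro hx
        exact ⟨k * x * k⁻¹, hx, by show g⁻¹ * (k * x * k⁻¹) * g⁻¹⁻¹ = _; rw [hk]; group⟩
      · rintro ⟨y, hy, e'⟩
        have e'' : g⁻¹ * y * g⁻¹⁻¹ = n * x * n⁻¹ := e'
        rw [show k * x * k⁻¹ = g * (n * x * n⁻¹) * g⁻¹ by rw [hk]; group, ← e'']
        simpa [mul_assoc] using hy
    have hkt : k * D.t * k⁻¹ = c := by
      rw [hk, show g * n * D.t * (g * n)⁻¹ = g * (n * D.t * n⁻¹) * g⁻¹ by group,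
        mem_centralizer_singleton_iff.1 hn, mul_inv_cancel_right, hg]
    have hki : ∀ x ∈ P, k⁻¹ * x * k ∈ P := fun x hx =>
      (hconj _).1 (by rw [show k * (k⁻¹ * x * k) * k⁻¹ = x by group]; exact hx)
    have hwP' : D.w ∈ P := Or.inr (by rw [w_sq]; exact one_mem _)
    obtain ⟨e₁, he₁, h1⟩ := hcom (k⁻¹ * e * k) (hki e (hP₀P he)) (k⁻¹ * D.w * k) (hki _ hwP')
    refine ⟨e₁, he₁, ?_⟩
    rw [← h1, show D.t = k⁻¹ * c * k by rw [← hkt]; group, hc]
    rw [show k⁻¹ * e * k * (k⁻¹ * D.w * k) * (k⁻¹ * e * k)⁻¹ * (k⁻¹ * D.w * k)⁻¹ =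
      k⁻¹ * (e * (D.w * e⁻¹ * D.w⁻¹)) * k by group, inv_eq_of_mul_eq_one_left (hsq e he),
      inv_eq_of_mul_eq_one_left (w_sq D)]
  -- whereas `w` moves no element of the regular subgroup by `t`
  have hwe : D.w * e₁ * D.w = e₁ * D.t := by
    rw [hce₁, ← mul_assoc, hsq e₁ he₁, one_mul]
  have hfx : ∀ z ∈ D.FV, e₁ • z ∈ D.FV := by
    intro z hz v hv
    have hw : D.w • e₁ • z = e₁ • z := by
      calc D.w • e₁ • z = (D.w * e₁ * D.w) • z := by rw [mul_smul, mul_smul, hz _ (w_mem D)]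
        _ = e₁ • z := by rw [hwe, mul_smul, FV_le D hz]
    have ht : D.t • e₁ • z = e₁ • z := by
      rw [← mul_smul, ← hcomm e₁ he₁, mul_smul, FV_le D hz]
    rcases V_list D hv with rfl | rfl | rfl | rfl
    · exact one_smul _ _
    · exact ht
    · exact hw
    · rw [mul_smul, ht, hw]
  have hN : e₁ ∈ D.N := mem_N_of_pair D D.hab (a_mem_FV D) (b_mem_FV D) (hcomm e₁ he₁)
    (hfx _ (a_mem_FV D)) (hfx _ (b_mem_FV D))
  have hcen := tau_N_cen D hτ hev hN (by rw [hsq e₁ he₁]; exact one_mem _) D.w (w_mem D)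
  refine t_ne D (mul_eq_left (a := e₁).1 ?_)
  calc e₁ * D.t = D.w * e₁ * D.w := hwe.symm
    _ = D.w * (e₁ * D.w * e₁⁻¹) * e₁ := by group
    _ = e₁ := by rw [hcen, w_sq, one_mul]

end Cfsg.Agent.TwoPointA4
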