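import Cfsg.Agent.Lib.TwoPointA4.TauClass
import Cfsg.Agent.Lib.ZStar.InvariantSylow

/-!
# The central exchange is no conjugate of `t`: the degree, odd degree, the regular subgroup
-/

set_option autoImplicit false
set_option linter.unusedSectionVars false
set_option linter.style.haveILetI false

namespace Cfsg.Agent.TwoPointA4

open MulAction Subgroup

universe u v

variable {G : Type u} [Group G] [Finite G] {Ω : Type v} [Fintype Ω] [MulAction G Ω]
  [FaithfulSMul G Ω] (D : Data G Ω) {τ : G} (hτ : D.IsTau τ) (hT : ¬ D.IsT τ)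

include hτ hT in
theorem other_deg : Fintype.card Ω = D.f * D.f := by
  have h1 := count D
  rw [(k_of_not D hτ hT).1] at h1
  have h2 := f_lt D
  have h3 := two_le_f D
  obtain ⟨j, hj⟩ : ∃ j, D.f = j + 2 := ⟨D.f - 2, by omega⟩
  rw [hj] at h1 h2 ⊢
  rw [show j + 2 - 1 = j + 1 by omega] at h1
  have h4 : (j + 2) * (j + 2) = (j + 2) * (j + 1) + (j + 2) := by ring
  omega

include hτ in
/-- A conjugate of `τ` exchanging the base points is `τ`. -/
theorem other_swap (hT : ¬ D.IsT τ) {u : G} (hu : ∃ g : G, g * τ * g⁻¹ = u) (hs : D.Swaps u) :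
    u = τ := by
  obtain ⟨g, rfl⟩ := hu
  obtain ⟨v, hv, he⟩ := (tau_swappers D hτ).1 ⟨hs, by
    rw [show g * τ * g⁻¹ * (g * τ * g⁻¹) = g * (τ * τ) * g⁻¹ by group, hτ.2.1]; group⟩
  by_cases hv1 : v = 1
  · rw [he, hv1, mul_one]
  · exact absurd ((isT_conj_iff D).1 (he ▸ (k_of_not D hτ hT).2 v hv hv1)) hT

include hτ hT in
theorem other_fix_le : TwoPointA5.fixCard Ω τ ≤ 1 := by
  classical
  rw [TwoPointA5.fixCard, Nat.card_eq_fintype_card]
  refine Fintype.card_le_one_iff.2 fun x y => ?_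
  by_contra hne
  exact hT (isT_of_fix D hτ.2.1 (tau_ne_one D hτ) (fun e => hne (Subtype.ext e)) x.2 y.2)

include hτ in
theorem other_parity : TwoPointA5.fixCard Ω τ % 2 = Fintype.card Ω % 2 := by
  haveI : Fact (Nat.Prime 2) := ⟨Nat.prime_two⟩
  have hp : IsPGroup 2 ↥(zpowers τ) := IsPGroup.of_card (n := 1) (by
    rw [Nat.card_zpowers, pow_one]
    exact orderOf_eq_prime (by rw [pow_two]; exact hτ.2.1) (tau_ne_one D hτ))
  have h1 := hp.card_modEq_card_fixedPoints Ω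
  rw [Nat.card_eq_fintype_card] at h1
  have h2 : Nat.card (fixedPoints ↥(zpowers τ) Ω) = TwoPointA5.fixCard Ω τ := by
    refine Nat.card_congr (Equiv.subtypeEquivRight fun x => ⟨fun h => h ⟨τ, mem_zpowers τ⟩, ?_⟩)
    rintro h ⟨_, i, rfl⟩
    exact mem_stabilizer_iff.1 (zpow_mem (mem_stabilizer_iff.2 h : τ ∈ stabilizer G x) i)
  rw [h2] at h1
  exact h1.symm

include hτ hT in
/-- In odd degree `τ` is isolated. -/
theorem other_odd (hodd : Odd D.f) :
    ∃ J : G, orderOf J = 2 ∧ centralizer ({J} : Set G) ⊔ Cfsg.oddCore G = ⊤ := by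
  classical
  haveI := Fintype.ofFinite G
  have hfix : TwoPointA5.fixCard Ω τ = 1 := by
    have h1 := other_fix_le D hτ hT
    have h2 := other_parity D hτ
    rw [other_deg D hτ hT, Nat.odd_iff.1 (hodd.mul hodd)] at h2
    omega
  set C : Finset G := Finset.univ.filter fun x => ∃ g : G, g * τ * g⁻¹ = x
  have hC : ∀ {x : G}, x ∈ C ↔ ∃ g : G, g * τ * g⁻¹ = x := by simp [C]
  have hconj : ∀ g : G, ∀ u ∈ C, g * u * g⁻¹ ∈ C := fun g u hu => by
    obtain ⟨h, rfl⟩ := hC.1 hu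
    exact hC.2 ⟨g * h, by group⟩
  have hsq : ∀ u ∈ C, u * u = 1 := fun u hu => by
    obtain ⟨h, rfl⟩ := hC.1 hu
    rw [show h * τ * h⁻¹ * (h * τ * h⁻¹) = h * (τ * τ) * h⁻¹ by group, hτ.2.1]; group
  have hf : ∀ u ∈ C, TwoPointA5.fixCard Ω u = 1 := fun u hu => by
    rw [← (hC.1 hu).choose_spec, fixCard_conj, hfix]
  have hcount := TwoPointA5.card_swapped D.h2 C hconj hsq hf D.hab
  rw [show (C.filter fun u => u • D.a = D.b ∧ u • D.b = D.a) = {τ} from by
    ext u
    simp only [Finset.mem_filter, Finset.mem_singleton, hC]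
    exact ⟨fun h => other_swap D hτ hT h.1 h.2, fun h => by subst h; exact ⟨⟨1, by group⟩, hτ.1.1, hτ.1.2⟩⟩,
    Finset.card_singleton, mul_one] at hcount
  have hn : 1 < Fintype.card Ω := Fintype.one_lt_card_iff.2 ⟨D.a, D.b, D.hab⟩
  have hCn : C.card = Fintype.card Ω := Nat.eq_of_mul_eq_mul_right (by omega) hcount
  -- the fixed point
  have huniq : ∀ u : C, ∃! x : Ω, (u : G) • x = x := fun u => by
    obtain ⟨hsub, ⟨x⟩⟩ := Nat.card_eq_one_iff_unique.1 (hf u u.2)
    exact ⟨x.1, x.2, fun y hy => congrArg Subtype.val (@Subsingleton.elim _ hsub ⟨y, hy⟩ x)⟩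
  choose pt hpt hpu using huniq
  haveI := D.h2
  haveI : IsPretransitive G Ω := isPretransitive_of_is_two_pretransitive
  have hsurj : Function.Surjective pt := fun y => by
    obtain ⟨g, hg⟩ := exists_smul_eq G (pt ⟨τ, hC.2 ⟨1, by group⟩⟩) y
    refine ⟨⟨g * τ * g⁻¹, hC.2 ⟨g, rfl⟩⟩, (hpu _ y ?_).symm⟩
    show (g * τ * g⁻¹) • y = y
    rw [← hg, mul_smul, inv_smul_smul, mul_smul,
      show τ • pt ⟨τ, hC.2 ⟨1, by group⟩⟩ = _ from hpt ⟨τ, hC.2 ⟨1, by group⟩⟩]
  have hinj : Function.Injective pt := ((Fintype.bijective_iff_surjective_and_card pt).2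
    ⟨hsurj, by rw [Fintype.card_coe, hCn]⟩).1
  have hord : orderOf τ = 2 := orderOf_eq_prime (by rw [pow_two, hτ.2.1]) (tau_ne_one D hτ)
  refine ⟨τ, hord, ?_⟩
  rw [sup_comm]
  refine ZStar.InvariantSylow.oddCore_sup_centralizer ⟨hord, fun g hg => ?_⟩
  set u : C := ⟨τ, hC.2 ⟨1, by group⟩⟩
  set w : C := ⟨g * τ * g⁻¹, hC.2 ⟨g, rfl⟩⟩
  have h1 : τ • pt w = pt w := by
    refine hpu w _ ?_
    show (g * τ * g⁻¹) • τ • pt w = τ • pt w
    rw [← mul_smul, ← hg.eq, mul_smul, show (g * τ * g⁻¹) • pt w = pt w from hpt w]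
  exact congrArg Subtype.val (hinj (hpu u _ h1))

include hτ hT in
/-- Only `⟨t⟩` in the kernel: one exchange in the induced group. -/
theorem other_sq (h : ¬ D.KerV) : D.f = D.r * D.r := by
  classical
  set g : centralizer ({D.t} : Set G) :=
    ⟨τ, mem_centralizer_singleton_iff.2 (hτ.2.2 D.t (t_mem D)).symm⟩
  have hk : (D.X2 h).k = 1 := by
    obtain ⟨h1, h2⟩ := (D.X2 h).k_bounds
    by_contra hne
    have hne1 : D.img g ≠ 1 := fun e => by
      rcases (img_eq_one D h).1 e with e' | e'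
      · exact tau_ne_one D hτ e'
      · have e'' : τ = D.t := e'
        exact swaps_notMem_K D hτ.1 (by rw [e'']; exact t_mem D)
    obtain ⟨x, hx⟩ := (D.X2 h).all_conj_of_k_two (by omega) (g := D.img g) (by
      rw [← map_mul]; exact (img_eq_one D h).2 (Or.inl hτ.2.1)) hne1
    exact hT (cls_isT D h ((D.X2 h).mem_cls.2 ⟨x, hx⟩)).1
  have hdeg := (D.X2 h).deg_of_k_one hk
  rwa [X2_r, card_Ft] at hdeg

include hτ hT in
theorem other_two_pow (hev : Even D.f) : ∃ M : ℕ, D.f = 2 ^ M := by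
  by_cases h : D.KerV
  · obtain ⟨m, -, hm⟩ := r_two_pow D (by rw [h]; exact hev)
    exact ⟨m, h ▸ hm⟩
  have hdeg := other_sq D hτ hT h
  obtain ⟨m, -, hm⟩ := r_two_pow D (by
    rw [hdeg, Nat.even_mul] at hev; exact hev.elim id id)
  exact ⟨m + m, by rw [hdeg, hm, pow_add]⟩

include hτ hT in
/-- In even degree there is a regular elementary subgroup. -/
theorem other_regular (hev : Even D.f) :
    ∃ E : Subgroup G, E.Normal ∧ TwoPointA5.Regular Ω E ∧ ∀ e ∈ E, e * e = 1 := by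
  classical
  obtain ⟨M, hM⟩ := other_two_pow D hτ hT hev
  have hn : Fintype.card Ω = 2 ^ (M + M) := by rw [other_deg D hτ hT, hM, pow_add]
  have hfree : ∀ x : Ω, τ • x ≠ x := fun x hx => by
    have h1 := other_fix_le D hτ hT
    have h2 := other_parity D hτ
    rw [other_deg D hτ hT, Nat.even_iff.1 (hev.mul_left D.f)] at h2
    have : 0 < TwoPointA5.fixCard Ω τ :=
      Nat.card_pos_iff.2 ⟨⟨⟨x, hx⟩⟩, inferInstance⟩
    omega
  have hno : ∀ (g : G) (c : Ω), g • c = c → g • τ • c = τ • c → τ * g * τ⁻¹ = g⁻¹ →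
      Odd (orderOf g) → g = 1 := by
    intro g c hgc hgc' hinv hord
    obtain ⟨h, hha, hhb⟩ := exists_map D (Ne.symm (hfree c))
    have hconj : h⁻¹ * τ * h = τ := by
      refine other_swap D hτ hT ⟨h⁻¹, by group⟩ ⟨?_, ?_⟩
      · rw [mul_smul, mul_smul, hha, ← hhb, inv_smul_smul]
      · rw [mul_smul, mul_smul, hhb, ← mul_smul τ, hτ.2.1, one_smul, ← hha, inv_smul_smul]
    have hK := hτ.2.2 _ (mem_K_of_fix D hha hhb hgc hgc')
    have hcomm : g * τ = τ * g := by
      have e1 : h * (h⁻¹ * g * h * τ) * h⁻¹ = g * τ := by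
        conv_lhs => rw [← hconj]
        group
      have e2 : h * (τ * (h⁻¹ * g * h)) * h⁻¹ = τ * g := by
        conv_lhs => rw [← hconj]
        group
      rw [← e1, ← e2, hK]
    have hg : g = g⁻¹ := by rw [← hinv, ← hcomm, mul_inv_cancel_right]
    have h2 : g ^ 2 = 1 := by rw [pow_two]; nth_rw 2 [hg]; exact mul_inv_cancel g
    rcases (Nat.dvd_prime Nat.prime_two).1 (orderOf_dvd_of_pow_eq_one h2) with h' | h'
    · exact orderOf_eq_one_iff.1 h'
    · rw [h'] at hord; exact absurd hord (by decide)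
  obtain ⟨E, hE, hreg, -, hsq⟩ :=
    TwoPointA5.exists_regular_of_fpf D.h2 hτ.2.1 (tau_ne_one D hτ) hfree hn hno
  exact ⟨E, hE, hreg, hsq⟩

end Cfsg.Agent.TwoPointA4
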