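import Cfsg.Agent.Lib.TwoPointA4.Stab
import Cfsg.Agent.Lib.TwoPointA4.TauInd

/-!
# The shape of the point stabiliser
-/

set_option autoImplicit false
set_option linter.unusedSectionVars false
set_option linter.style.haveILetI false

namespace Cfsg.Agent.TwoPointA4

open MulAction Subgroup
open scoped MatrixGroups

universe u v

theorem quot_arith {r h δ N : ℤ} (hr : 2 ≤ r) (hev : Even r) (hh : 0 < h) (hδ : δ = 1 ∨ δ = -1)
    (hN : N = (4 * h + δ) * (2 * h + δ)) (he : N * (r + 1) ^ 2 = 3 * (r ^ 2 + 1) * h ^ 2) : False := by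
  have hcop : IsCoprime h N :=
    ⟨-(8 * h + 6 * δ), 1, by rw [hN]; rcases hδ with rfl | rfl <;> ring⟩
  have hdvd : h ^ 2 ∣ (r + 1) ^ 2 :=
    (hcop.pow_left).dvd_of_dvd_mul_left ⟨3 * (r ^ 2 + 1), by linear_combination he⟩
  obtain ⟨m, hm⟩ := (Int.pow_dvd_pow_iff two_ne_zero).1 hdvd
  have hm0 : 0 < m := pos_of_mul_pos_right (hm ▸ (by omega : (0 : ℤ) < r + 1)) hh.le
  have he' : N * m ^ 2 = 3 * (r ^ 2 + 1) :=
    mul_right_cancel₀ (pow_ne_zero 2 hh.ne') (by rw [hm] at he; linear_combination he)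
  obtain ⟨j, hj⟩ : ∃ j, m = 2 * j + 1 := by
    rcases Int.even_or_odd' m with ⟨i, rfl | rfl⟩
    · obtain ⟨k, rfl⟩ := hev
      have : h * (2 * i) = 2 * (h * i) := by ring
      omega
    · exact ⟨i, rfl⟩
  have hcop2 : IsCoprime m (r ^ 2 + 1) :=
    ⟨1 + j * h * (r - 1), -j, by
      have e : r ^ 2 + 1 = m * (h * (r - 1)) + 2 := by linear_combination (r - 1) * hm
      rw [e]; linear_combination hj⟩
  have h3 : m ^ 2 ∣ 3 :=
    (hcop2.pow_left).dvd_of_dvd_mul_right ⟨N, by linear_combination -he'⟩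
  have h4 := Int.le_of_dvd (by norm_num) h3
  have hm1 : m = 1 := by nlinarith
  subst hm1
  rw [mul_one] at hm
  obtain rfl : r = h - 1 := by omega
  rw [hN] at he'
  rcases hδ with rfl | rfl <;> nlinarith [he', hr, hh]

/-- The centralizer of an involution is the product of its part in `L` and the centralizer of the
four-group. -/
theorem cent_product {Q : Type u} [Group Q] [Finite Q] {L : Subgroup Q} [L.Normal] {t w : Q}
    (ht : orderOf t = 2) (hw : orderOf w = 2) (hne : w ≠ t) (hc : Commute w t) (htL : t ∈ L) (hwL : w ∈ L)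
    (h8 : ¬ 8 ∣ Nat.card Q) {h : ℕ} (hCL : Nat.card ↥(L ⊓ centralizer ({t} : Set Q)) = 4 * h)
    (hlist : ∀ x ∈ L, Commute x t → Commute x w → x = 1 ∨ x = t ∨ x = w ∨ x = t * w) :
    Nat.card (centralizer ({t} : Set Q)) = h * Nat.card (centralizer ({t, w} : Set Q)) := by
  classical
  set C := centralizer ({t} : Set Q)
  set C2 := centralizer ({t, w} : Set Q)
  set P := L ⊓ C2 with hP
  have ht2 : t * t = 1 := by rw [← pow_two, ← ht, pow_orderOf_eq_one]
  have hw2 : w * w = 1 := by rw [← pow_two, ← hw, pow_orderOf_eq_one]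
  have ht1 : t ≠ 1 := fun e => by simp [e] at ht
  have hw1 : w ≠ 1 := fun e => by simp [e] at hw
  have htP : t ∈ P := ⟨htL, mem_cent_pair.2 ⟨Commute.refl t, hc.symm⟩⟩
  have hwP : w ∈ P := ⟨hwL, mem_cent_pair.2 ⟨hc, Commute.refl w⟩⟩
  have hPset : (P : Set Q) = {1, t, w, t * w} := by
    refine Set.Subset.antisymm (fun x hx => ?_) ?_
    · obtain ⟨h1, h2⟩ := mem_cent_pair.1 hx.2
      simpa only [Set.mem_insert_iff, Set.mem_singleton_iff] using hlist x hx.1 h1 h2
    · simp only [Set.insert_subset_iff, Set.singleton_subset_iff, SetLike.mem_coe]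
      exact ⟨one_mem _, htP, hwP, mul_mem htP hwP⟩
  have hP4 : Nat.card P = 4 := by
    rw [← SetLike.coe_sort_coe, Nat.card_coe_set_eq, hPset, Set.ncard_insert_of_notMem,
      Set.ncard_insert_of_notMem, Set.ncard_pair]
    · exact fun e => ht1 (mul_eq_right.1 e.symm)
    · simp only [Set.mem_insert_iff, Set.mem_singleton_iff, not_or]
      exact ⟨hne.symm, fun e => hw1 (mul_eq_left.1 e.symm)⟩
    · simp only [Set.mem_insert_iff, Set.mem_singleton_iff, not_or]
      refine ⟨ht1.symm, hw1.symm, fun e => hne ?_⟩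
      rw [← one_mul w, ← ht2, mul_assoc, ← e, mul_one]
  have hC2C : C2 ≤ C := fun x hx => mem_centralizer_singleton_iff.2 (mem_cent_pair.1 hx).1.eq
  have hPC : P ≤ L ⊓ C := inf_le_inf_left _ hC2C
  have hodd : Odd h := by
    rw [← Nat.not_even_iff_odd]
    rintro ⟨i, rfl⟩
    exact h8 (dvd_trans ⟨i, by omega⟩ (hCL ▸ card_subgroup_dvd_card (L ⊓ C)))
  -- every element of the centralizer of `t` is such a product
  have hprod : ∀ x ∈ C, ∃ l ∈ L ⊓ C, l⁻¹ * x ∈ C2 := by
    intro x hx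
    have hxt : Commute x t := mem_centralizer_singleton_iff.1 hx
    set P' := P.map (MulAut.conj x).toMonoidHom with hP'
    have hP'le : P' ≤ L ⊓ C := by
      rintro _ ⟨y, hy, rfl⟩
      have hyC : y ∈ C := hC2C hy.2
      exact ⟨show x * y * x⁻¹ ∈ L from (inferInstance : L.Normal).conj_mem y hy.1 x,
        show x * y * x⁻¹ ∈ C from mul_mem (mul_mem hx hyC) (inv_mem hx)⟩
    obtain ⟨l, hl, hlP⟩ := conj_in (n := 2) hPC hP'le hodd (by rw [hCL]; norm_num) hP4
      (by rw [hP', card_map_of_injective (MulEquiv.injective _)]; exact hP4)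
    refine ⟨l, hl, ?_⟩
    set m := l⁻¹ * x
    have hmC : m ∈ C := mul_mem (inv_mem hl.2) hx
    have hmP : ∀ y ∈ P, m * y * m⁻¹ ∈ P := by
      intro y hy
      refine (hlP _).2 ?_
      rw [show l * (m * y * m⁻¹) * l⁻¹ = x * y * x⁻¹ by simp only [m]; group]
      exact ⟨y, hy, rfl⟩
    have hmt : Commute m t := mem_centralizer_singleton_iff.1 hmC
    have hmw : m * w * m⁻¹ ∈ ({1, t, w, t * w} : Set Q) := hPset ▸ hmP w hwP
    simp only [Set.mem_insert_iff, Set.mem_singleton_iff] at hmw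
    rcases hmw with e | e | e | e
    · exact absurd (conj_eq_one_iff.1 e) hw1
    · refine absurd ?_ hne
      calc w = m⁻¹ * (m * w * m⁻¹) * m := by group
        _ = t := by rw [e, hmt.inv_left.eq, mul_assoc, inv_mul_cancel, mul_one]
    · exact mem_cent_pair.2 ⟨hmt, mul_inv_eq_iff_eq_mul.1 e⟩
    exfalso
    set M' := C ⊓ normalizer (P : Set Q) with hM'
    have hmM' : m ∈ M' := by
      refine ⟨hmC, mem_normalizer_iff.2 fun y => ⟨hmP y, fun hy => ?_⟩⟩
      obtain ⟨⟨z, hz⟩, hzy⟩ := (Finite.injective_iff_surjective (f := fun z : P =>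
        (⟨m * z * m⁻¹, hmP z z.2⟩ : P))).1 (fun a b e' => Subtype.ext
          (mul_left_cancel (mul_right_cancel (congrArg Subtype.val e')))) ⟨_, hy⟩
      exact (mul_left_cancel (mul_right_cancel (congrArg Subtype.val hzy))) ▸ hz
    have horb := card_conj_orbit M' w {w, t * w} (fun g hg => ?_) (fun s hs => ?_)
    · have hC2M : C2 ≤ M' := le_inf hC2C fun g hg => mem_normalizer_iff.2 fun y => by
        have hfix : ∀ z ∈ P, g * z * g⁻¹ = z := fun z hz => by
          have hz' : z ∈ ({1, t, w, t * w} : Set Q) := hPset ▸ hz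
          obtain ⟨h1, h2⟩ := mem_cent_pair.1 hg
          simp only [Set.mem_insert_iff, Set.mem_singleton_iff] at hz'
          rcases hz' with rfl | rfl | rfl | rfl
          · group
          · rw [h1.eq, mul_inv_cancel_right]
          · rw [h2.eq, mul_inv_cancel_right]
          · rw [(h1.mul_right h2).eq, mul_inv_cancel_right]
        refine ⟨fun hy => by rw [hfix y hy]; exact hy, fun hy => ?_⟩
        have := hfix _ hy
        rw [mul_left_cancel (mul_right_cancel this)] at hy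
        exact hy
      have e2 : M' ⊓ centralizer ({w} : Set Q) = C2 := by
        refine le_antisymm (fun g hg => mem_cent_pair.2 ⟨mem_centralizer_singleton_iff.1 hg.1.1,
          mem_centralizer_singleton_iff.1 hg.2⟩) (le_inf hC2M fun g hg => ?_)
        exact mem_centralizer_singleton_iff.2 (mem_cent_pair.1 hg).2.eq
      rw [e2, Set.ncard_pair (fun e' => ht1 (mul_eq_right.1 e'.symm))] at horb
      have h4 : 4 ∣ Nat.card C2 := hP4 ▸ card_dvd_of_le inf_le_right
      exact h8 ((show 8 ∣ Nat.card M' by omega).trans (card_subgroup_dvd_card _))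
    · have hgt : Commute g t := mem_centralizer_singleton_iff.1 hg.1
      have hgw : g * w * g⁻¹ ∈ ({1, t, w, t * w} : Set Q) :=
        hPset ▸ (mem_normalizer_iff.1 hg.2 w).1 hwP
      simp only [Set.mem_insert_iff, Set.mem_singleton_iff] at hgw ⊢
      rcases hgw with e' | e' | e' | e'
      · exact absurd (conj_eq_one_iff.1 e') hw1
      · refine absurd ?_ hne
        calc w = g⁻¹ * (g * w * g⁻¹) * g := by group
          _ = t := by rw [e', hgt.inv_left.eq, mul_assoc, inv_mul_cancel, mul_one]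
      · exact Or.inl e'
      · exact Or.inr e'
    · rcases hs with rfl | rfl
      · exact ⟨1, one_mem _, by group⟩
      · exact ⟨m, hmM', e⟩
  -- the count
  let H := L.subgroupOf C
  have hH : Nat.card H = Nat.card ↥(L ⊓ C) :=
    Nat.card_congr
      { toFun := fun x => ⟨x.1.1, x.2, x.1.2⟩
        invFun := fun x => ⟨⟨x.1, x.2.2⟩, x.2.1⟩ }
  let φ : C2 →* C ⧸ H := (QuotientGroup.mk' H).comp (Subgroup.inclusion hC2C)
  have hker : Nat.card φ.ker = 4 := by
    rw [← hP4]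
    exact Nat.card_congr
      { toFun := fun x => ⟨x.1.1,
          mem_subgroupOf.1 ((QuotientGroup.eq_one_iff (Subgroup.inclusion hC2C x.1)).1 x.2), x.1.2⟩
        invFun := fun x => ⟨⟨x.1, x.2.2⟩,
          (QuotientGroup.eq_one_iff (Subgroup.inclusion hC2C ⟨x.1, x.2.2⟩)).2 (mem_subgroupOf.2 x.2.1)⟩ }
  have hrange : φ.range = ⊤ := by
    refine eq_top_iff.2 fun y _ => ?_
    obtain ⟨x, rfl⟩ := QuotientGroup.mk'_surjective H y
    obtain ⟨l, hl, hlx⟩ := hprod x x.2
    refine ⟨⟨l⁻¹ * x, hlx⟩, ?_⟩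
    show QuotientGroup.mk' H (Subgroup.inclusion hC2C ⟨_, hlx⟩) = QuotientGroup.mk' H x
    rw [QuotientGroup.mk'_apply, QuotientGroup.mk'_apply, QuotientGroup.eq]
    show (l⁻¹ * (x : Q))⁻¹ * x ∈ L
    rw [show (l⁻¹ * (x : Q))⁻¹ * x = (x : Q)⁻¹ * l * (x : Q)⁻¹⁻¹ by group]
    exact (inferInstance : L.Normal).conj_mem l hl.1 _
  have h1 := φ.ker.card_mul_index
  rw [index_ker, hker, hrange, card_top] at h1
  have h2 := H.card_mul_index
  rw [hH, hCL, index_eq_card] at h2
  rw [← h2, ← h1]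
  ring

variable {G : Type u} [Group G] [Finite G] {Ω : Type v} [Fintype Ω] [MulAction G Ω]
  [FaithfulSMul G Ω] (D : Data G Ω)

/-- The point stabiliser: four points fixed by `t`, and a central subgroup of order three. -/
theorem stab_shape (hf : Even D.f) (hn : Fintype.card Ω = D.f * D.f)
    (hsq : ¬ D.KerV → D.f = D.r * D.r) :
    D.f = 4 ∧ ∃ ω : G, ω • D.a = D.a ∧ ω ^ 3 = 1 ∧ ω ≠ 1 ∧ Commute ω D.t ∧
      ∀ g : G, g • D.a = D.a → g * ω = ω * g := by
  classical
  have hev : Even D.r := by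
    by_cases h : D.KerV
    · rw [h]; exact hf
    · have := hsq h
      rw [this, Nat.even_mul] at hf
      exact hf.elim id id
  obtain ⟨S, hS4, hS2, htS, hwS, hSlist, ⟨k, hk, hkw⟩, hklein⟩ := stab_facts D hf hn
  set O := Cfsg.oddCore D.G0
  set A := Nat.card ↥(O ⊓ centralizer ({D.tX} : Set D.G0))
  set c := Nat.card ↥(O ⊓ centralizer ({D.tX, D.wX} : Set D.G0))
  have hf2 := two_le_f D
  have hr2 := two_le_r D
  have hnn : 4 ≤ Fintype.card Ω := by rw [hn]; exact Nat.mul_le_mul hf2 hf2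
  have hA : 0 < A := Nat.card_pos
  have hc0 : 0 < c := Nat.card_pos
  -- the quotient
  set tq : D.G0 ⧸ O := (D.tX : D.G0 ⧸ O)
  set wq : D.G0 ⧸ O := (D.wX : D.G0 ⧸ O)
  have hinj : ∀ {x y : D.G0}, x ∈ (S : Subgroup D.G0) → y ∈ (S : Subgroup D.G0) →
      (x : D.G0 ⧸ O) = y → x = y := fun hx hy h => sylowQuot_inj S hS2 hx hy h
  have htq1 : tq ≠ 1 := fun e => tX_ne D (hinj htS (one_mem _) e)
  have hwq1 : wq ≠ 1 := fun e => wX_ne D (hinj hwS (one_mem _) e)
  have hne : wq ≠ tq := fun e => wX_ne_tX D (hinj hwS htS e)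
  have htq : orderOf tq = 2 := orderOf_eq_prime (by
    rw [pow_two, ← QuotientGroup.mk_mul, tX_sq, QuotientGroup.mk_one]) htq1
  have hwq : orderOf wq = 2 := orderOf_eq_prime (by
    rw [pow_two, ← QuotientGroup.mk_mul, wX_sq, QuotientGroup.mk_one]) hwq1
  have hcq : Commute wq tq := (wX_comm D).map (QuotientGroup.mk' O)
  have h1 : Nat.card (centralizer ({tq} : Set (D.G0 ⧸ O))) * A = 4 * (D.f - 1) := by
    rw [← card_cent_tX D]; exact card_cent_quot (tX_sq D)
  have h2 : Nat.card (centralizer ({tq, wq} : Set (D.G0 ⧸ O))) * c = 4 * (D.r - 1) := by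
    rw [← card_cent_pairX D hev]; exact card_cent_pair_quot (tX_sq D) (wX_sq D) (wX_comm D)
  have h3 : Nat.card (D.G0 ⧸ O) * Nat.card O = 12 * (Fintype.card Ω - 1) := by
    rw [← card_G0 D]; exact (card_eq_card_quotient_mul_card_subgroup O).symm
  have hSc : (sylowQuot S : Subgroup (D.G0 ⧸ O)) ≤ centralizer ({tq, wq} : Set (D.G0 ⧸ O)) := by
    rintro _ ⟨x, hx, rfl⟩
    have hcomm : ∀ y ∈ (S : Subgroup D.G0), Commute x y := fun y hy =>
      TwoPointA5.GWFacts.comm_four S hS4 hS2 hx hy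
    exact mem_cent_pair.2 ⟨(hcomm _ htS).map (QuotientGroup.mk' O), (hcomm _ hwS).map (QuotientGroup.mk' O)⟩
  have hSq4 := (sylowQuot_facts S hS4 hS2).1
  have hle : centralizer ({tq, wq} : Set (D.G0 ⧸ O)) ≤ centralizer ({tq} : Set (D.G0 ⧸ O)) :=
    fun x hx => mem_centralizer_singleton_iff.2 (mem_cent_pair.1 hx).1.eq
  obtain ⟨i, hi⟩ := hSq4 ▸ card_dvd_of_le (hSc.trans hle)
  have hkc : k * D.tX * k⁻¹ ≠ D.tX := fun e => wX_ne_tX D (hkw.symm.trans e)
  have hshape := quot_shape S hS4 hS2 ⟨k, hk, D.tX, htS, hkc⟩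
  rcases hshape with ⟨-, h12, hCS⟩ | ⟨L, F, _, _, hLn, hodd, hq3, ⟨ε⟩, -, hCL, hinv, -⟩
  · exfalso
    have hC2 : centralizer ({tq, wq} : Set (D.G0 ⧸ O)) = (sylowQuot S : Subgroup (D.G0 ⧸ O)) := by
      refine le_antisymm (fun x hx => ?_) hSc
      rw [← hCS]
      refine mem_centralizer_iff.2 fun y hy => ?_
      obtain ⟨z, hz, rfl⟩ := hy
      obtain ⟨e1, e2⟩ := mem_cent_pair.1 hx
      rcases hSlist z hz with rfl | rfl | rfl | rfl
      · rw [map_one, one_mul, mul_one]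
      · exact e1.eq.symm
      · exact e2.eq.symm
      · rw [map_mul]; exact (e1.mul_right e2).eq.symm
    rw [hC2, hSq4] at h2
    have hi1 : i = 1 := by
      have hd := card_subgroup_dvd_card (centralizer ({tq} : Set (D.G0 ⧸ O)))
      rw [h12, hi, show 12 = 4 * 3 by norm_num] at hd
      rcases (Nat.dvd_prime Nat.prime_three).1 (Nat.dvd_of_mul_dvd_mul_left (by norm_num) hd) with e | e
      · exact e
      exfalso
      have htop : centralizer ({tq} : Set (D.G0 ⧸ O)) = ⊤ :=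
        eq_top_of_card_eq _ (by rw [hi, h12, e])
      have hkt : Commute (k : D.G0 ⧸ O) tq :=
        mem_centralizer_singleton_iff.1 (htop ▸ mem_top (k : D.G0 ⧸ O))
      refine hne ?_
      show (D.wX : D.G0 ⧸ O) = tq
      rw [← hkw, QuotientGroup.mk_mul, QuotientGroup.mk_mul, QuotientGroup.mk_inv, hkt.eq,
        mul_inv_cancel_right]
    rw [hi, hi1] at h1
    rw [h12] at h3
    have hA' : A = D.f - 1 := by omega
    have hc' : c = D.r - 1 := by omega
    have hO' : Nat.card O = Fintype.card Ω - 1 := by omega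
    rw [hA', hc', hO', hn] at hklein
    have hklein' : ((D.f : ℤ) * D.f - 1) * ((D.r : ℤ) - 1) ^ 2 = ((D.f : ℤ) - 1) ^ 3 := by
      have e : ((((D.f * D.f - 1) * (D.r - 1) ^ 2 : ℕ)) : ℤ) = (((D.f - 1) ^ 3 : ℕ) : ℤ) := by rw [hklein]
      have hff : 1 ≤ D.f * D.f := by omega
      push_cast [hff, (by omega : 1 ≤ D.r), (by omega : 1 ≤ D.f)] at e
      linear_combination e
    have hrz : (2 : ℤ) ≤ D.r := by exact_mod_cast hr2
    by_cases h : D.KerV
    · rw [show D.f = D.r from h.symm] at hklein'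
      have : ((D.r : ℤ) - 1) ^ 3 * D.r = 0 := by linear_combination hklein'
      rcases mul_eq_zero.1 this with e | e
      · have := pow_eq_zero_iff (n := 3) (by norm_num) |>.1 e; omega
      · omega
    · rw [hsq h, Nat.cast_mul] at hklein'
      have h0 : ((D.r : ℤ) * D.r - 1) * (((D.r : ℤ) - 1) ^ 2 * D.r) * 2 = 0 := by
        linear_combination -hklein'
      have : (0 : ℤ) < ((D.r : ℤ) * D.r - 1) * (((D.r : ℤ) - 1) ^ 2 * D.r) :=
        mul_pos (by nlinarith) (mul_pos (pow_pos (by omega) 2) (by omega))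
      omega
  haveI := hLn
  obtain ⟨N, δ, hδ, -, hQ, h2N, hCl, h4, -, hlist⟩ :=
    psl_facts hodd ε hinv htq hwq hne hcq
  set q := Fintype.card F with hqdef
  by_cases h : D.KerV
  · -- the kernel is the four-group
    have hac : A = c := Nat.card_congr (Equiv.subtypeEquivRight fun x => by
      simp only [mem_inf, mem_centralizer_singleton_iff, mem_cent_pair]
      exact ⟨fun e => ⟨e.1, e.2, cent_tX_of_kerV D h hev e.2⟩, fun e => ⟨e.1, e.2.1.eq⟩⟩)
    have hrf : D.r = D.f := h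
    have hCeq : centralizer ({tq, wq} : Set (D.G0 ⧸ O)) = centralizer ({tq} : Set (D.G0 ⧸ O)) := by
      refine eq_of_le_of_card_ge hle ?_
      rw [← hac, hrf] at h2
      exact (Nat.eq_of_mul_eq_mul_right hA (h1.trans h2.symm)).le
    have hClle : Nat.card ↥(L ⊓ centralizer ({tq} : Set (D.G0 ⧸ O))) ≤ 4 := by
      rw [← SetLike.coe_sort_coe, Nat.card_coe_set_eq]
      refine (Set.ncard_le_ncard (t := {1, tq, wq, tq * wq}) (fun x hx => ?_)).trans ?_
      · obtain ⟨e1, e2⟩ := mem_cent_pair.1 (hCeq ▸ hx.2 : x ∈ centralizer ({tq, wq} : Set (D.G0 ⧸ O)))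
        simpa only [Set.mem_insert_iff, Set.mem_singleton_iff] using hlist x hx.1 e1 e2
      · refine (Set.ncard_insert_le _ _).trans (Nat.succ_le_succ ?_)
        refine (Set.ncard_insert_le _ _).trans (Nat.succ_le_succ ?_)
        refine (Set.ncard_insert_le _ _).trans (Nat.succ_le_succ ?_)
        rw [Set.ncard_singleton]
    have hq5 : q = 5 ∧ δ = 1 := by
      have hqo : (q : ℤ) % 2 = 1 := by exact_mod_cast Nat.odd_iff.1 hodd
      rcases hδ with e | e <;> subst e <;> omega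
    obtain ⟨hq5, rfl⟩ := hq5
    have hCl4 : Nat.card ↥(L ⊓ centralizer ({tq} : Set (D.G0 ⧸ O))) = 4 := by
      rw [hq5] at hCl; omega
    have hN : N = 15 := by rw [hq5] at h2N; omega
    -- the core
    have hOA : Nat.card O = A := by
      rw [← hac] at hklein
      exact Nat.eq_of_mul_eq_mul_right (pow_pos hA 2) (hklein.trans (pow_succ' A 2))
    rw [hQ, hN, hOA, mul_assoc, h1, hn] at h3
    have hf4 : D.f = 4 := by
      have e : ((15 * (4 * (D.f - 1)) : ℕ) : ℤ) = ((12 * (D.f * D.f - 1) : ℕ) : ℤ) := by rw [h3]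
      have hff : 1 ≤ D.f * D.f := Nat.mul_pos (by omega) (by omega)
      push_cast [hff, (by omega : 1 ≤ D.f)] at e
      have hfz : (2 : ℤ) ≤ D.f := by exact_mod_cast hf2
      have : ((D.f : ℤ) - 1) * ((D.f : ℤ) - 4) = 0 := by linarith
      rcases mul_eq_zero.1 this with e' | e' <;> omega
    refine ⟨hf4, ?_⟩
    rw [hi, hf4] at h1
    have hA3 : A = 1 ∨ A = 3 := (Nat.dvd_prime Nat.prime_three).1 ⟨i, by
      have : 4 * (i * A) = 4 * i * A := (mul_assoc _ _ _).symm
      have : A * i = i * A := mul_comm _ _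
      omega⟩
    have hA3' : A = 3 := by
      refine hA3.resolve_left fun hA1 => ?_
      rw [hA1] at h1
      haveI : Fact (Nat.Prime 3) := ⟨Nat.prime_three⟩
      obtain ⟨⟨y, hy⟩, hyo⟩ := exists_prime_orderOf_dvd_card'
        (G := centralizer ({tq} : Set (D.G0 ⧸ O))) 3 (by rw [hi]; omega)
      have hy3 : orderOf y = 3 := by rw [← hyo, ← Subgroup.orderOf_coe]
      have hyt : Commute y tq := mem_centralizer_singleton_iff.1 hy
      have htL := hinv tq htq
      set β : MulAut (Matrix.ProjectiveSpecialLinearGroup (Fin 2) F) :=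
        MulAut.congr ε (MulAut.conjNormal y) with hβ
      have hb : β ^ 3 ^ 1 = 1 := by
        rw [pow_one, hβ, ← map_pow, ← map_pow, ← hy3, pow_orderOf_eq_one, map_one, map_one]
      have hεt : orderOf (ε ⟨tq, htL⟩) = 2 := by rw [MulEquiv.orderOf_eq, Subgroup.orderOf_mk, htq]
      obtain ⟨δ', hδ', hC', h4', -⟩ := GW.KleinPSL.centralizers hodd hεt
      obtain ⟨a', ha'⟩ := GW.ComponentPSL.inner_of_fix hodd hεt Nat.prime_three (by norm_num) β hb
        fun p hp hp2 _ x hx hxt => by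
          exfalso
          have hd := Subgroup.orderOf_dvd_natCard _ (mem_centralizer_singleton_iff.2 hxt.eq :
            x ∈ centralizer ({ε ⟨tq, htL⟩} : Set _))
          rw [hx] at hd
          have h44 : Nat.card (centralizer ({ε ⟨tq, htL⟩} : Set _)) = 4 := by
            rcases hδ' with e | e <;> subst e <;> omega
          rw [h44] at hd
          exact hp2 ((Nat.prime_dvd_prime_iff_eq hp Nat.prime_two).1 (hp.dvd_of_dvd_pow (n := 2) hd))
      set l : D.G0 ⧸ O := (ε.symm a' : D.G0 ⧸ O)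
      have hz : l⁻¹ * y ∈ centralizer (L : Set (D.G0 ⧸ O)) := by
        refine mem_centralizer_iff.2 fun m hm => ?_
        have e := congrArg (fun φ : MulAut _ => φ (ε ⟨m, hm⟩)) ha'
        simp only [MulAut.conj_apply] at e
        have e' : a' * ε ⟨m, hm⟩ * a'⁻¹ = ε (MulAut.conjNormal y ⟨m, hm⟩) := by
          rw [e, hβ]; simp [MulAut.congr]
        have e'' := congrArg (fun z => ((ε.symm z : L) : D.G0 ⧸ O)) e'
        simp only [map_mul, map_inv, MulEquiv.symm_apply_apply, coe_mul, InvMemClass.coe_inv,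
          MulAut.conjNormal_apply] at e''
        calc m * (l⁻¹ * y) = l⁻¹ * (l * m * l⁻¹) * y := by group
          _ = l⁻¹ * y * m := by rw [e'']; group
      rw [hCL, mem_bot, inv_mul_eq_one] at hz
      have hd := Subgroup.orderOf_dvd_natCard (L ⊓ centralizer ({tq} : Set (D.G0 ⧸ O)))
        (⟨hz ▸ (ε.symm a').2, hy⟩ : y ∈ L ⊓ centralizer ({tq} : Set (D.G0 ⧸ O)))
      rw [hy3, hCl4] at hd
      exact absurd hd (by decide)
    have hOt : O ≤ centralizer ({D.tX} : Set D.G0) := by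
      have : O ⊓ centralizer ({D.tX} : Set D.G0) = O := eq_of_le_of_card_ge inf_le_left hOA.le
      exact this ▸ inf_le_right
    haveI : Nontrivial O := Finite.one_lt_card_iff_nontrivial.1 (by rw [hOA, hA3']; norm_num)
    obtain ⟨⟨⟨ω, hω⟩, hωO⟩, hω1⟩ := exists_ne (1 : O)
    set ω' : D.G0 := ⟨ω, hω⟩
    have hω'1 : ω' ≠ 1 := fun e => hω1 (Subtype.ext e)
    have hωt : Commute ω' D.tX := mem_centralizer_singleton_iff.1 (hOt hωO)
    have hω3 : ω' ^ 3 = 1 := by
      have := congrArg Subtype.val (pow_card_eq_one' (x := (⟨ω', hωO⟩ : O)))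
      rwa [hOA, hA3'] at this
    refine ⟨ω, hω, congrArg Subtype.val hω3, fun e => hω'1 (Subtype.ext e),
      congrArg Subtype.val hωt, ?_⟩
    -- centrality
    set T : Set D.G0 := {x | ∃ g, g * ω' * g⁻¹ = x}
    have horb := card_conj_orbit (⊤ : Subgroup D.G0) ω' T (fun g _ => ⟨g, rfl⟩)
      fun s hs => hs.imp fun g hg => ⟨mem_top g, hg⟩
    rw [top_inf_eq, card_top, card_G0 D, hn, hf4] at horb
    have hT : T.ncard ≤ 2 := by
      have hsub : T ⊆ (O : Set D.G0) \ {1} := by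
        rintro _ ⟨g, rfl⟩
        exact ⟨(oddCoreNormal _).conj_mem _ hωO g, fun e => hω'1 (conj_eq_one_iff.1 e)⟩
      refine (Set.ncard_le_ncard hsub).trans ?_
      rw [Set.ncard_sdiff_singleton_of_mem (one_mem O), ← Nat.card_coe_set_eq, SetLike.coe_sort_coe,
        hOA, hA3']
    have h4C : 4 ∣ Nat.card (centralizer ({ω'} : Set D.G0)) := by
      refine hS4 ▸ card_dvd_of_le fun x hx => mem_centralizer_singleton_iff.2 ?_
      have hw' := cent_tX_of_kerV D h hev hωt
      rcases hSlist x hx with rfl | rfl | rfl | rfl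
      · rw [one_mul, mul_one]
      · exact hωt.eq.symm
      · exact hw'.eq.symm
      · exact (hωt.mul_right hw').eq.symm
    have hT1 : T.ncard = 1 := by
      obtain ⟨j, hj⟩ := h4C
      rw [hj] at horb
      generalize T.ncard = s at hT horb
      interval_cases s <;> omega
    obtain ⟨x₀, hx₀⟩ := Set.ncard_eq_one.1 hT1
    intro g hg
    have e1 : (⟨g, hg⟩ : D.G0) * ω' * (⟨g, hg⟩ : D.G0)⁻¹ = x₀ := by
      have : (⟨g, hg⟩ : D.G0) * ω' * (⟨g, hg⟩ : D.G0)⁻¹ ∈ T := ⟨_, rfl⟩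
      rwa [hx₀] at this
    have e2 : ω' = x₀ := by
      have : ω' ∈ T := ⟨1, by group⟩
      rwa [hx₀] at this
    exact congrArg Subtype.val (mul_inv_eq_iff_eq_mul.1 (e1.trans e2.symm))
  · -- only `⟨t⟩` in the kernel
    exfalso
    obtain ⟨j, hj⟩ : ∃ j : ℕ, Nat.card ↥(L ⊓ centralizer ({tq} : Set (D.G0 ⧸ O))) = 4 * j :=
      Int.natCast_dvd_natCast.1 (by rw [hCl]; exact h4)
    have h8 : ¬ 8 ∣ Nat.card (D.G0 ⧸ O) := fun hd => by
      have hd' : 8 ∣ 12 * (Fintype.card Ω - 1) := h3 ▸ hd.trans (dvd_mul_right _ _)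
      rw [hn] at hd'
      obtain ⟨e, he⟩ : Even (D.f * D.f) := hf.mul_left _
      omega
    have hprod := cent_product htq hwq hne hcq (hinv tq htq) (hinv wq hwq) h8 hj hlist
    rw [hprod] at h1 hQ
    rw [hQ] at h3
    set C2 := Nat.card (centralizer ({tq, wq} : Set (D.G0 ⧸ O)))
    rw [hsq h] at h1 hn
    rw [hn] at h3
    have hrr : 1 ≤ D.r * D.r := Nat.mul_pos (by omega) (by omega)
    have hrrrr : 1 ≤ D.r * D.r * (D.r * D.r) := Nat.mul_pos hrr hrr
    have E1 : (j : ℤ) * C2 * A = 4 * ((D.r : ℤ) * D.r - 1) := by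
      have e : ((j * C2 * A : ℕ) : ℤ) = ((4 * (D.r * D.r - 1) : ℕ) : ℤ) := by rw [h1]
      push_cast [hrr] at e; exact e
    have E2 : (C2 : ℤ) * c = 4 * ((D.r : ℤ) - 1) := by
      have e : ((C2 * c : ℕ) : ℤ) = ((4 * (D.r - 1) : ℕ) : ℤ) := by rw [h2]
      push_cast [(by omega : 1 ≤ D.r)] at e; exact e
    have E3 : (N : ℤ) * (j * C2) * Nat.card O = 12 * ((D.r : ℤ) * D.r * (D.r * D.r) - 1) := by
      have e : ((N * (j * C2) * Nat.card O : ℕ) : ℤ) =
          ((12 * (D.r * D.r * (D.r * D.r) - 1) : ℕ) : ℤ) := by rw [h3]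
      push_cast [hrrrr] at e; exact e
    have E4 : (Nat.card O : ℤ) * (c : ℤ) ^ 2 = (A : ℤ) ^ 3 := by exact_mod_cast hklein
    have hrz : (2 : ℤ) ≤ D.r := by exact_mod_cast hr2
    have hC2 : (C2 : ℤ) ≠ 0 := by exact_mod_cast (Nat.card_pos).ne'
    have hcz : (c : ℤ) ≠ 0 := by exact_mod_cast hc0.ne'
    -- `h a = c (r + 1)`
    have E5 : (j : ℤ) * A = c * (D.r + 1) :=
      mul_left_cancel₀ hC2 (by linear_combination E1 - ((D.r : ℤ) + 1) * E2)
    have hnz : (C2 : ℤ) * c ^ 3 * ((D.r : ℤ) + 1) ≠ 0 :=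
      mul_ne_zero (mul_ne_zero hC2 (pow_ne_zero 3 hcz)) (by omega)
    have key : (N : ℤ) * ((D.r : ℤ) + 1) ^ 2 = 3 * ((D.r : ℤ) ^ 2 + 1) * (j : ℤ) ^ 2 := by
      apply mul_left_cancel₀ hnz
      linear_combination (j : ℤ) ^ 2 * (c : ℤ) ^ 2 * E3 - (N : ℤ) * (j : ℤ) ^ 3 * C2 * E4
        - (N : ℤ) * C2 * (((j : ℤ) * A) ^ 2 + (j : ℤ) * A * (c * (D.r + 1)) + (c * ((D.r : ℤ) + 1)) ^ 2) * E5
        - 3 * (j : ℤ) ^ 2 * (c : ℤ) ^ 2 * ((D.r : ℤ) + 1) * ((D.r : ℤ) ^ 2 + 1) * E2
    have hj0 : 0 < j := Nat.pos_of_ne_zero fun e => by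
      rw [e, mul_zero] at hj
      exact (Nat.card_pos (α := ↥(L ⊓ centralizer ({tq} : Set (D.G0 ⧸ O))))).ne' hj
    have hqj : (q : ℤ) = 4 * j + δ := by rw [hj] at hCl; push_cast at hCl; omega
    refine quot_arith hrz (by exact_mod_cast hev) (by exact_mod_cast hj0 : (0 : ℤ) < j) hδ ?_ key
    have h2N' : 2 * (N : ℤ) = 2 * ((4 * j + δ) * (2 * j + δ)) := by rw [h2N, hqj]; ring
    omega

end Cfsg.Agent.TwoPointA4
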