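import Cfsg.Agent.Lib.TwoPointA4.TauOneEven

/-!
# The central exchange is a conjugate of `t`: two exchanges, even `r`
-/

set_option autoImplicit false
set_option linter.unusedSectionVars false
set_option linter.style.haveILetI false

namespace Cfsg.Agent.TwoPointA4

open MulAction Subgroup
open scoped Pointwise

universe u v

/-- A transitive odd group of automorphisms of the elementary group of order sixteen with these
orders does not exist. -/
theorem sixteen_false {P : Type u} [Group P] [Finite P] (hP : Nat.card P = 16) (L : Subgroup (MulAut P))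
    {m : ℕ} (hm : m ∣ 63) (hm9 : ¬ 9 ∣ m) (hL : Nat.card L = 45 * m) : False := by
  classical
  haveI : Finite (MulAut P) := Finite.of_injective _ DFunLike.coe_injective
  haveI h5 : Fact (Nat.Prime 5) := ⟨by norm_num⟩
  haveI h7 : Fact (Nat.Prime 7) := ⟨by norm_num⟩
  have hodd : Odd (Nat.card L) := by
    obtain ⟨c, hc⟩ := hm
    have : Odd m := (show Odd (m * c) by rw [← hc]; decide).of_dvd_nat (dvd_mul_right m c)
    rw [hL]
    exact (show Odd 45 by decide).mul this
  -- fixed points of a subgroup normalised by an element of order five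
  have hmod : ∀ (y : L), orderOf y = 5 → ∀ (U : Subgroup P), (∀ z ∈ U, (y : MulAut P) z ∈ U) →
      Nat.card U % 5 = Nat.card {z : U // (y : MulAut P) z = z} % 5 := by
    intro y hy U hU
    have hU' : ∀ g : zpowers (y : MulAut P), ∀ z ∈ U, (g : MulAut P) z ∈ U := by
      intro g
      have hle : zpowers (y : MulAut P) ≤
          (stabilizer (MulAut P) (U : Set P) : Subgroup (MulAut P)) := by
        rw [zpowers_le, mem_stabilizer_set']
        · exact fun z hz => hU z hz
        · exact Set.toFinite _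
      intro z hz
      have h := mem_stabilizer_iff.1 (hle g.2)
      rw [← SetLike.mem_coe, ← h]
      exact ⟨z, hz, rfl⟩
    letI : MulAction (zpowers (y : MulAut P)) U :=
      { smul := fun g z => ⟨(g : MulAut P) z, hU' g z z.2⟩
        one_smul := fun z => Subtype.ext rfl
        mul_smul := fun g g' z => Subtype.ext rfl }
    have hp : IsPGroup 5 (zpowers (y : MulAut P)) := IsPGroup.of_card (n := 1) (by
      rw [Nat.card_zpowers, Subgroup.orderOf_coe, hy, pow_one])
    have h1 := hp.card_modEq_card_fixedPoints U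
    rw [h1]
    congr 1
    refine Nat.card_congr (Equiv.subtypeEquivRight fun z => ?_)
    constructor
    · intro h
      exact congrArg Subtype.val (h ⟨_, mem_zpowers _⟩)
    · rintro h ⟨g, hg⟩
      refine Subtype.ext ?_
      show g (z : P) = z
      have hle : zpowers (y : MulAut P) ≤ stabilizer (MulAut P) (z : P) := zpowers_le.2 h
      exact hle hg
  obtain ⟨x, hx⟩ := exists_prime_orderOf_dvd_card' (G := L) 5 (by rw [hL]; exact Dvd.intro (9 * m) (by ring))
  -- an element of order five fixes only the identity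
  have hfix : ∀ z : P, (x : MulAut P) z = z → z = 1 := by
    let F : Subgroup P := (x : MulAut P).toMonoidHom.eqLocus (MonoidHom.id P)
    have h1 := hmod x hx ⊤ (fun z _ => mem_top _)
    have hF : Nat.card {z : (⊤ : Subgroup P) // (x : MulAut P) z = z} = Nat.card F :=
      Nat.card_congr { toFun := fun z => ⟨z.1.1, z.2⟩, invFun := fun z => ⟨⟨z.1, mem_top _⟩, z.2⟩ }
    rw [card_top, hP, hF] at h1
    have hd : Nat.card F ∣ 2 ^ 4 := (card_subgroup_dvd_card F).trans (dvd_of_eq (by rw [hP]; rfl))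
    obtain ⟨i, hi, hFi⟩ := (Nat.dvd_prime_pow Nat.prime_two).1 hd
    rw [hFi] at h1
    have : i = 0 ∨ i = 4 := by interval_cases i <;> simp_all
    rcases this with rfl | rfl
    · intro z hz
      have hb : F = ⊥ := card_eq_one.1 hFi
      exact mem_bot.1 (hb ▸ (hz : z ∈ F))
    · have htop : F = ⊤ := eq_top_of_card_eq _ (by rw [hFi, hP]; rfl)
      have : x = 1 := Subtype.ext (MulEquiv.ext fun z => (htop ▸ mem_top z : z ∈ F))
      rw [this, orderOf_one] at hx
      norm_num at hx
  -- so its centraliser is semiregular on the other fifteen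
  set C := centralizer ({x} : Set L) with hC
  obtain ⟨z₀, hz₀⟩ : ∃ z : P, z ≠ 1 := by
    haveI : Nontrivial P := Finite.one_lt_card_iff_nontrivial.1 (by omega)
    exact exists_ne 1
  have hC15 : Nat.card C ≤ 15 := by
    let f : C → {z : P // z ≠ 1} := fun y => ⟨(y : L).1 z₀, fun e => hz₀ ((y : L).1.injective
      (e.trans (map_one _).symm))⟩
    have hf : Function.Injective f := by
      rintro ⟨y, hy⟩ ⟨y', hy'⟩ e
      have e' : (y : MulAut P) z₀ = (y' : MulAut P) z₀ := congrArg Subtype.val e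
      set u : L := y⁻¹ * y'
      have hu : u * x = x * u := mem_centralizer_singleton_iff.1 (mul_mem (inv_mem hy) hy')
      have huz : (u : MulAut P) z₀ = z₀ := by
        show (y : MulAut P)⁻¹ ((y' : MulAut P) z₀) = z₀
        rw [← e']
        exact (y : MulAut P).symm_apply_apply z₀
      let U : Subgroup P := (u : MulAut P).toMonoidHom.eqLocus (MonoidHom.id P)
      have h1 := hmod x hx U (fun z (hz : (u : MulAut P) z = z) => by
        show (u : MulAut P) ((x : MulAut P) z) = (x : MulAut P) z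
        rw [← MulAut.mul_apply, ← coe_mul, hu, coe_mul, MulAut.mul_apply, hz])
      have hone : Nat.card {z : U // (x : MulAut P) z = z} = 1 := Nat.card_eq_one_iff_unique.2
        ⟨⟨fun z z' => Subtype.ext (Subtype.ext ((hfix _ z.2).trans (hfix _ z'.2).symm))⟩,
          ⟨⟨1, map_one _⟩⟩⟩
      rw [hone] at h1
      have hd : Nat.card U ∣ 2 ^ 4 := (card_subgroup_dvd_card U).trans (dvd_of_eq (by rw [hP]; rfl))
      obtain ⟨i, hi, hUi⟩ := (Nat.dvd_prime_pow Nat.prime_two).1 hd
      rw [hUi] at h1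
      have : i = 0 ∨ i = 4 := by interval_cases i <;> simp_all
      rcases this with rfl | rfl
      · exact absurd (mem_bot.1 (card_eq_one.1 hUi ▸ (huz : z₀ ∈ U))) hz₀
      · have htop : U = ⊤ := eq_top_of_card_eq _ (by rw [hUi, hP]; rfl)
        have : u = 1 := Subtype.ext (MulEquiv.ext fun z => (htop ▸ mem_top z : z ∈ U))
        exact Subtype.ext (inv_mul_eq_one.1 this)
    have h1 := Nat.card_le_card_of_injective f hf
    haveI := Fintype.ofFinite P
    rw [Nat.card_eq_fintype_card (α := {z : P // z ≠ 1}), Fintype.card_subtype_compl,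
      Fintype.card_subtype_eq, ← Nat.card_eq_fintype_card, hP] at h1
    exact h1
  -- Burnside's normal complement
  have hfac : (Nat.card L).factorization 5 = 1 := by
    have hm5 : ¬ 5 ∣ m := fun h => absurd (h.trans hm) (by norm_num)
    rw [hL, show 45 * m = 5 * (9 * m) by ring, Nat.factorization_mul (by norm_num)
      (fun e => hm5 (by rcases Nat.mul_eq_zero.1 e with h | h <;> simp_all)), Finsupp.add_apply,
      Nat.Prime.factorization_self h5.out, Nat.factorization_eq_zero_of_not_dvd (fun h =>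
        ((h5.out.dvd_mul.1 h).elim (by norm_num) hm5))]
  let R : Sylow 5 L := Sylow.ofCard (zpowers x) (by rw [Nat.card_zpowers, hx, hfac, pow_one])
  have hR : (R : Subgroup L) = zpowers x := rfl
  have hcenR : centralizer ((R : Subgroup L) : Set L) = C := by
    rw [hR, hC, zpowers_eq_closure, centralizer_closure]
  have hNC : normalizer ((R : Subgroup L) : Set L) ≤ centralizer ((R : Subgroup L) : Set L) := by
    intro y hy
    set φ := Subgroup.normalizerMonoidHom (R : Subgroup L)
    have h4 : Nat.card (MulAut (R : Subgroup L)) = 4 := by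
      haveI : IsCyclic (R : Subgroup L) := isCyclic_of_prime_card (p := 5) (by
        rw [hR, Nat.card_zpowers, hx])
      rw [IsCyclic.card_mulAut, hR, Nat.card_zpowers, hx]
      decide
    have h1 : orderOf (φ ⟨y, hy⟩) ∣ 4 := h4 ▸ orderOf_dvd_natCard _
    have h2 : Odd (orderOf (φ ⟨y, hy⟩)) := (hodd.of_dvd_nat
      ((orderOf_dvd_natCard y))).of_dvd_nat ((orderOf_map_dvd φ _).trans (by rw [Subgroup.orderOf_mk]))
    have h3 : orderOf (φ ⟨y, hy⟩) = 1 := by
      have := Nat.le_of_dvd (by norm_num) h1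
      generalize orderOf (φ ⟨y, hy⟩) = o at *
      interval_cases o <;> simp_all (config := {decide := true})
    have h5' : (⟨y, hy⟩ : normalizer ((R : Subgroup L) : Set L)) ∈ φ.ker := orderOf_eq_one_iff.1 h3
    rw [Subgroup.normalizerMonoidHom_ker] at h5'
    exact h5'
  set K := (MonoidHom.transferSylow R hNC).ker with hK
  have hcomp := MonoidHom.ker_transferSylow_isComplement' R hNC
  have hKc : Nat.card K = 9 * m := by
    have h := hcomp.card_mul
    rw [show Nat.card (R : Subgroup L) = 5 by rw [hR, Nat.card_zpowers, hx], hL, ← hK] at h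
    omega
  have hdisj : Disjoint K (R : Subgroup L) := hcomp.disjoint
  -- invariant subgroups of the complement
  have hinv : ∀ U : Subgroup L, U ≤ K → U.Normal →
      ∃ c, c ≤ 3 ∧ c ∣ Nat.card U ∧ Nat.card U % 5 = c % 5 := by
    intro U hUK hUn
    refine ⟨Nat.card ↥(U ⊓ C), ?_, card_dvd_of_le inf_le_left, ?_⟩
    · let f : ↥(U ⊓ C) × (R : Subgroup L) → C := fun p => ⟨p.1.1 * p.2.1,
        mul_mem p.1.2.2 (mem_centralizer_singleton_iff.2 (by
          have h : (p.2 : L) ∈ zpowers x := p.2.2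
          obtain ⟨i, hi⟩ := mem_zpowers_iff.1 h
          rw [← hi]; exact (Commute.self_zpow x i).symm.eq))⟩
      have hf : Function.Injective f := by
        rintro ⟨⟨u, hu⟩, ⟨r, hr⟩⟩ ⟨⟨u', hu'⟩, ⟨r', hr'⟩⟩ e
        have e' : u * r = u' * r' := congrArg Subtype.val e
        have h1 : u'⁻¹ * u ∈ K := mul_mem (inv_mem (hUK hu'.1)) (hUK hu.1)
        have h2 : u'⁻¹ * u = r' * r⁻¹ := by
          rw [show u = u' * r' * r⁻¹ by rw [← e']; group]; group
        have h3 : u'⁻¹ * u = 1 := mem_bot.1 (hdisj.le_bot ⟨h1, h2 ▸ (R : Subgroup L).mul_mem hr' ((R : Subgroup L).inv_mem hr)⟩)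
        obtain rfl := inv_mul_eq_one.1 h3
        obtain rfl := mul_left_cancel e'
        rfl
      have h1 := Nat.card_le_card_of_injective f hf
      rw [Nat.card_prod, show Nat.card (R : Subgroup L) = 5 by rw [hR, Nat.card_zpowers, hx]] at h1
      omega
    · haveI := hUn
      letI : MulAction (zpowers x) U :=
        { smul := fun g u => ⟨g * u * (g : L)⁻¹, hUn.conj_mem u u.2 g⟩
          one_smul := fun u => Subtype.ext (show (1 : L) * u * (1 : L)⁻¹ = u by group)
          mul_smul := fun g g' u => Subtype.ext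
            (show (g * g' : L) * u * (g * g' : L)⁻¹ = g * (g' * u * (g' : L)⁻¹) * (g : L)⁻¹ by group) }
      have hp : IsPGroup 5 (zpowers x) := IsPGroup.of_card (n := 1) (by
        rw [Nat.card_zpowers, hx, pow_one])
      rw [hp.card_modEq_card_fixedPoints U]
      congr 1
      refine Nat.card_congr
        { toFun := fun u => ⟨u.1.1, u.1.2, mem_centralizer_singleton_iff.2 ?_⟩
          invFun := fun u => ⟨⟨u.1, u.2.1⟩, fun g => Subtype.ext ?_⟩
          left_inv := fun _ => rfl
          right_inv := fun _ => rfl }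
      · have h : x * u.1.1 * x⁻¹ = u.1.1 := congrArg Subtype.val (u.2 ⟨x, mem_zpowers x⟩)
        exact (mul_inv_eq_iff_eq_mul.1 h).symm
      · obtain ⟨i, hi⟩ := mem_zpowers_iff.1 g.2
        show (g : L) * u.1 * (g : L)⁻¹ = u.1
        have hc : Commute x u.1 := (mem_centralizer_singleton_iff.1 u.2.2).symm
        rw [← hi, (hc.zpow_left i).eq, mul_inv_cancel_right]
  haveI : K.Normal := MonoidHom.normal_ker _
  by_cases h7d : 7 ∣ m
  · -- the Sylow 7-subgroup of `K` is normal in `L`
    obtain ⟨m', rfl⟩ := h7d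
    have hm' : m' ∣ 9 := Nat.dvd_of_mul_dvd_mul_left (k := 7) (by norm_num) hm
    have h7m : ¬ 7 ∣ 9 * m' := fun h => absurd (h.trans (Nat.mul_dvd_mul_left 9 hm')) (by norm_num)
    obtain ⟨S⟩ := (inferInstance : Nonempty (Sylow 7 K))
    have hS : Nat.card (S : Subgroup K) = 7 := by
      rw [S.card_eq_multiplicity, hKc, show 9 * (7 * m') = 7 * (9 * m') by ring,
        Nat.factorization_mul (by norm_num) (fun e => h7m (by rw [e]; exact dvd_zero _)),
        Finsupp.add_apply, h7.out.factorization_self, Nat.factorization_eq_zero_of_not_dvd h7m,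
        pow_one]
    have hidx : (S : Subgroup K).index = 9 * m' := by
      have := (S : Subgroup K).card_mul_index
      rw [hS, hKc] at this
      omega
    have hn1 : Nat.card (Sylow 7 K) = 1 := by
      have h1 := card_sylow_modEq_one 7 K
      have h2 : Nat.card (Sylow 7 K) ∣ 81 := (Sylow.card_dvd_index S).trans
        (hidx ▸ Nat.mul_dvd_mul_left 9 hm')
      obtain ⟨i, hi, hni⟩ := (Nat.dvd_prime_pow Nat.prime_three).1 (show Nat.card (Sylow 7 K) ∣ 3 ^ 4 from h2)
      rw [hni] at h1 ⊢
      have : i = 0 := by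
        interval_cases i <;> simp_all [Nat.ModEq]
      rw [this, pow_zero]
    haveI := (Nat.card_eq_one_iff_unique.1 hn1).1
    haveI : (S : Subgroup K).Characteristic := Sylow.characteristic_of_subsingleton S
    obtain ⟨c, hc, hcd, hcm⟩ := hinv ((S : Subgroup K).map K.subtype) (map_subtype_le _) inferInstance
    rw [card_subtype, hS] at hcd hcm
    rcases (Nat.dvd_prime h7.out).1 hcd with rfl | rfl <;> omega
  · obtain ⟨c, hc, hcd, hcm⟩ := hinv K le_rfl inferInstance
    rw [hKc] at hcd hcm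
    have hm' : m ∣ 9 := (Nat.Coprime.dvd_mul_right (((h7.out.coprime_iff_not_dvd).2 h7d).symm)).1
      (show m ∣ 9 * 7 from hm)
    have := Nat.le_of_dvd (by norm_num) hm'
    have hc0 : 0 < c := Nat.pos_of_dvd_of_pos hcd (by
      rcases Nat.eq_zero_or_pos m with rfl | h
      · exact absurd (dvd_zero 9) hm9
      · positivity)
    interval_cases m <;> interval_cases c <;> simp_all (config := {decide := true})

variable {G : Type u} [Group G] [Finite G] {Ω : Type v} [Fintype Ω] [MulAction G Ω]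
  [FaithfulSMul G Ω] (D : Data G Ω) {τ : G} (hτ : D.IsTau τ)

include hτ in
theorem k_two_even_false (hT : D.IsT τ) (h : ¬ D.KerV) (hk : (D.X2 h).k = 2) (hev : Even D.r) :
    False := by
  classical
  obtain ⟨m, hm0, hm⟩ := r_two_pow D hev
  have hdeg := (D.X2 h).deg_eq
  rw [hk, card_Ft, X2_r] at hdeg
  set P := D.P hτ hev with hP
  set M := normalizer (P : Set G) with hM
  have hPC : P ≤ centralizer ({D.t} : Set G) := fun x hx =>
    mem_centralizer_singleton_iff.2 ((mem_N D).1 hx.1).1
  have hr2 := two_le_r D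
  obtain ⟨j, hj⟩ : ∃ j, D.r = j + 2 := ⟨D.r - 2, by omega⟩
  have hfm : D.f = (j + 2) * (2 * j + 3) := by
    rw [hdeg, hj, show j + 2 - 1 = j + 1 by omega]; ring
  have hf1 : D.f - 1 = (j + 1) * (2 * j + 5) := by
    rw [hfm]
    have : (j + 2) * (2 * j + 3) = (j + 1) * (2 * j + 5) + 1 := by ring
    omega
  have hCt : Nat.card (centralizer ({D.t} : Set G)) = 2 ^ (m + 2) * ((2 * j + 3) * (D.f - 1)) := by
    rw [card_cent, pow_add, ← hm, hj]
    nth_rewrite 1 [hfm]
    ring
  have ho : Odd ((2 * j + 3) * (D.f - 1)) := by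
    refine Odd.mul ⟨j + 1, by ring⟩ ?_
    rw [hf1]
    refine Odd.mul ?_ ⟨j + 2, by ring⟩
    obtain ⟨i, hi⟩ := hev
    exact ⟨i - 1, by omega⟩
  have hcard : Nat.card P = 2 ^ (m + 2) := by rw [hP, card_P, pow_add, ← hm]; ring
  -- the normaliser is transitive on the nontrivial elements
  have htr : ∀ x ∈ (P : Set G) \ {1}, ∃ g ∈ M, g * D.t * g⁻¹ = x := by
    rintro x ⟨hx, hx1⟩
    obtain ⟨g, hg⟩ := all_isT D hτ hT h hx.2 hx1
    set Q : Subgroup G := P.map (MulAut.conj g⁻¹).toMonoidHom with hQ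
    have hQC : Q ≤ centralizer ({D.t} : Set G) := by
      rintro _ ⟨y, hy, rfl⟩
      refine mem_centralizer_singleton_iff.2 ?_
      show g⁻¹ * y * g⁻¹⁻¹ * D.t = D.t * (g⁻¹ * y * g⁻¹⁻¹)
      calc g⁻¹ * y * g⁻¹⁻¹ * D.t = g⁻¹ * (y * (g * D.t * g⁻¹)) * g := by group
        _ = g⁻¹ * ((g * D.t * g⁻¹) * y) * g := by rw [hg, P_comm D hτ hev hy hx]
        _ = D.t * (g⁻¹ * y * g⁻¹⁻¹) := by group
    obtain ⟨n, hn, hn'⟩ := conj_in hPC hQC ho hCt hcard
      (by rw [hQ, card_map_of_injective (MulEquiv.injective _), hcard])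
    refine ⟨g * n, mem_normalizer_iff.2 fun z => ?_, by
      rw [show g * n * D.t * (g * n)⁻¹ = g * (n * D.t * n⁻¹) * g⁻¹ by group,
        mem_centralizer_singleton_iff.1 hn, mul_inv_cancel_right, hg]⟩
    rw [hn' z]
    constructor
    · rintro ⟨y, hy, e⟩
      have e' : g⁻¹ * y * g⁻¹⁻¹ = n * z * n⁻¹ := e
      rw [show g * n * z * (g * n)⁻¹ = g * (n * z * n⁻¹) * g⁻¹ by group, ← e']
      simpa [mul_assoc] using hy
    · intro hz
      exact ⟨_, hz, show g⁻¹ * (g * n * z * (g * n)⁻¹) * g⁻¹⁻¹ = n * z * n⁻¹ by group⟩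
  have htP : D.t ∈ P := V_le_P D hτ hev (t_mem_V D)
  have hcount := card_conj_orbit M D.t ((P : Set G) \ {1})
    (fun g hg => ⟨(mem_normalizer_iff.1 hg _).1 htP, fun e => t_ne D (conj_eq_one_iff.1 e)⟩) htr
  set M₀ := M ⊓ centralizer ({D.t} : Set G) with hM₀
  have hNM : D.N ≤ M₀ := le_inf (fun g hg => mem_normalizer_iff.2 fun z =>
    ⟨fun hz => P_normal D hτ hev hg hz, fun hz => by
      have := P_normal D hτ hev (inv_mem hg) hz
      rwa [show g⁻¹ * (g * z * g⁻¹) * g⁻¹⁻¹ = z by group] at this⟩) inf_le_left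
  obtain ⟨m', hm'⟩ := card_dvd_of_le hNM
  obtain ⟨c', hc'⟩ := card_dvd_of_le (inf_le_right : M₀ ≤ centralizer ({D.t} : Set G))
  obtain ⟨q, hq⟩ := card_subgroup_dvd_card M
  rw [card_N, hj, show j + 2 - 1 = j + 1 by omega] at hm'
  rw [card_cent, hm', hfm, show (j + 2) * (2 * j + 3) - 1 = D.f - 1 by rw [hfm], hf1] at hc'
  have hS : ((P : Set G) \ {1}).ncard = 4 * j + 7 := by
    rw [Set.ncard_sdiff_singleton_of_mem (one_mem P), ← Nat.card_coe_set_eq, SetLike.coe_sort_coe,
      hP, card_P, hj]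
    omega
  rw [hS, hm'] at hcount
  obtain ⟨i, hi⟩ : ∃ i, Fintype.card Ω = D.f + i := ⟨Fintype.card Ω - D.f, by
    have := f_lt D; omega⟩
  have hcnt := count D
  have hk4 : D.k = 4 := by
    rcases k_of_isT D hτ hT with ⟨hk', -⟩ | ⟨-, hnone⟩
    · exact hk'
    · exact absurd (k_four D hτ hT h _ (t_mem_V D)) (hnone _ (t_mem_V D) (t_ne D))
  rw [hk4, hi, Nat.add_sub_cancel_left, hf1, hfm] at hcnt
  have hG := card_G D
  rw [hcount] at hq
  rw [hq, hi, show D.f + i - 1 = (D.f - 1) + i by have := two_le_f D; omega, hf1, hfm] at hG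
  have e1 : 3 * ((j + 2) * (2 * j + 3) + i) = (j + 2) * (2 * j + 3) * (4 * ((j + 2) * (2 * j + 3)) - 1) := by
    have h' : 4 * ((j + 2) * (2 * j + 3)) - 1 = 4 * ((j + 1) * (2 * j + 5)) + 3 := by
      have : (j + 2) * (2 * j + 3) = (j + 1) * (2 * j + 5) + 1 := by ring
      omega
    rw [h']
    linarith
  have e2 : 3 * ((j + 1) * (2 * j + 5) + i) =
      (j + 1) * (2 * j + 5) * (4 * ((j + 2) * (2 * j + 3)) + 3) := by linarith
  set A := 4 * ((j + 2) * (2 * j + 3)) - 1 with hA
  have e3 : 4 * ((j + 2) * (j + 1)) * (3 * (q * m') * (4 * j + 7)) = 4 * ((j + 2) * (j + 1)) *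
      ((2 * j + 3) * (2 * j + 5) * A * (4 * ((j + 2) * (2 * j + 3)) + 3)) := by
    calc _ = 3 * ((4 * j + 7) * (4 * ((j + 2) * (j + 1)) * m') * q) := by ring
      _ = 4 * ((3 * ((j + 2) * (2 * j + 3) + i)) * (3 * ((j + 1) * (2 * j + 5) + i))) := by
        rw [hG]; ring
      _ = _ := by rw [e1, e2]; ring
  have e4 := Nat.eq_of_mul_eq_mul_left (by positivity) e3
  -- hence `4 r - 1` divides `45`
  have hdvd : 4 * j + 7 ∣ 45 := by
    have hz : ((4 * j + 7 : ℕ) : ℤ) ∣ 45 := by
      have e5 := congrArg (fun n : ℕ => (n : ℤ)) e4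
      have hA' : (A : ℤ) = 4 * (((j : ℤ) + 2) * (2 * j + 3)) - 1 := by
        rw [hA, Nat.cast_sub (by nlinarith)]; push_cast; ring
      push_cast at e5
      rw [hA'] at e5
      push_cast
      set x : ℤ := 4 * (j : ℤ) + 7 with hx
      refine ⟨16 * (3 * ((q : ℤ) * m')) -
        (x ^ 5 + 2 * x ^ 4 - x ^ 3 + 4 * x ^ 2 - 21 * x - 30), ?_⟩
      rw [hx] at e5 ⊢
      linear_combination (-16 : ℤ) * e5
    exact_mod_cast hz
  have hj2 : j = 2 := by
    have := Nat.le_of_dvd (by norm_num) hdvd
    have hj9 : j ≤ 9 := by omega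
    revert hdvd
    interval_cases j <;> norm_num
  subst hj2
  rw [hA] at e4
  norm_num at e4 hm' hc' hcount
  -- the automorphisms induced on `P`
  haveI : Finite (MulAut P) := Finite.of_injective _ DFunLike.coe_injective
  set φ := Subgroup.normalizerMonoidHom P with hφ
  have hker : φ.ker = P.subgroupOf M := by
    rw [hφ, Subgroup.normalizerMonoidHom_ker]
    refine le_antisymm (fun x hx => ?_) fun x hx => ?_
    · have hc : ∀ y ∈ P, y * (x : G) = x * y := fun y hy => mem_centralizer_iff.1 hx y hy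
      have hxt : (x : G) * D.t = D.t * x := (hc _ htP).symm
      have hxN : (x : G) ∈ D.N := (mem_N D).2 ⟨hxt, mem_normalizer_iff.2 fun z => by
        refine ⟨fun hz => by rw [← hc z (V_le_P D hτ hev hz), mul_inv_cancel_right]; exact hz,
          fun hz => ?_⟩
        have e := hc _ (V_le_P D hτ hev hz)
        rw [inv_mul_cancel_right] at e
        rwa [← mul_left_cancel e] at hz⟩
      refine mem_subgroupOf.2 ⟨hxN, ?_⟩
      by_cases hxV : (x : G) ∈ D.V
      · exact hxV.2
      refine (fpf_tau D hτ hev hxN fun z hz e => hxV ?_).2.1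
      refine (vHom_eq_one D (g := ⟨(x : G), hxN⟩)).1 (Equiv.ext fun w => Subtype.ext ?_)
      obtain ⟨y₁, hy₁, e₁⟩ := P_trans D hτ hev hz
      obtain ⟨y₂, hy₂, e₂⟩ := P_trans D hτ hev w.2
      show (x : G) • (w : Ω) = w
      have hxa : (x : G) • D.a = D.a := by
        have := congrArg (y₁⁻¹ • ·) e
        simpa only [← e₁, ← mul_smul, ← mul_assoc, hc _ (inv_mem hy₁), mul_assoc (x : G),
          inv_mul_cancel, mul_one, one_smul] using this
      rw [← e₂, ← mul_smul, ← hc y₂ hy₂, mul_smul, hxa]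
    · exact mem_centralizer_iff.2 fun y hy => P_comm D hτ hev hy (mem_subgroupOf.1 hx)
  have hm16 : Nat.card P = 16 := by rw [hP, card_P, hj]
  have hrange : Nat.card φ.range * 16 = Nat.card M := by
    rw [← φ.ker.card_mul_index, hker, Nat.card_congr (subgroupOfEquivOfLe le_normalizer).toEquiv,
      hm16, ← hker, index_ker, mul_comm]
  have hm63 : m' ∣ 63 := ⟨c', by rw [mul_assoc] at hc'; omega⟩
  refine sixteen_false hm16 φ.range hm63 ?_ (by rw [hcount] at hrange; omega)
  intro h9
  have h1 : 9 ∣ q * m' := h9.mul_left q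
  omega

end Cfsg.Agent.TwoPointA4
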