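import Cfsg.Agent.Lib.TwoPointA4.Induced

/-!
# Involutions of `N` on the fixed points of the four-group
-/

set_option autoImplicit false
set_option linter.unusedSectionVars false
set_option linter.style.haveILetI false

namespace Cfsg.Agent.TwoPointA4

open MulAction Subgroup

universe u v

variable {G : Type u} [Group G] [Finite G] {Ω : Type v} [Fintype Ω] [MulAction G Ω]
  [FaithfulSMul G Ω] (D : Data G Ω)

noncomputable instance : Fintype D.FV := Fintype.ofFinite _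

theorem card_FV : Fintype.card D.FV = D.r := (Nat.card_eq_fintype_card).symm

theorem r_prime_pow : ∃ p m : ℕ, p.Prime ∧ m ≠ 0 ∧ D.r = p ^ m := by
  obtain ⟨T⟩ := exists_trans_FV D
  exact ⟨T.p, T.k, T.prime, T.k_ne, (card_FV D).symm.trans T.card_eq⟩

theorem r_two_pow (hev : Even D.r) : ∃ m : ℕ, m ≠ 0 ∧ D.r = 2 ^ m := by
  obtain ⟨p, m, hp, hm, hr⟩ := r_prime_pow D
  refine ⟨m, hm, ?_⟩
  rw [hr]
  congr 1
  rw [hr] at hev
  exact ((Nat.prime_dvd_prime_iff_eq Nat.prime_two hp).1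
    (Nat.prime_two.dvd_of_dvd_pow (even_iff_two_dvd.1 hev))).symm

/-- An element of `N` with square in `V` fixes no point of `FV` when `r` is even, and exactly one
when `r` is odd, unless it lies in `V`. -/
theorem invol_N {g : G} (hg : g ∈ D.N) (hg2 : g * g ∈ D.V) (hgV : g ∉ D.V) :
    (Odd D.r → ∃! x : D.FV, g • (x : Ω) = x) ∧ (Even D.r → ∀ x ∈ D.FV, g • x ≠ x) := by
  have key := TwoPointA5.fix_card_invol (A_sharp D) (g := (⟨D.vHom ⟨g, hg⟩, _, rfl⟩ : D.A))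
    (fun x => Subtype.ext (show g • g • (x : Ω) = x by rw [← mul_smul]; exact x.2 _ hg2))
    (by
      by_contra! h
      exact hgV ((vHom_eq_one D).1 (Equiv.ext fun x => h x)))
  rw [card_FV] at key
  refine ⟨fun h => ?_, fun h x hx e => key.2 h ⟨x, hx⟩ (Subtype.ext e)⟩
  obtain ⟨x, hx, hu⟩ := key.1 h
  exact ⟨x, congrArg Subtype.val hx, fun y hy => hu y (Subtype.ext hy)⟩

/-- An element of `N` with square in `V` and two fixed points in `FV` lies in `V`. -/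
theorem swaps_not_V {g : G} (hg : D.Swaps g) : g ∉ D.V :=
  fun h => swaps_notMem_K D hg h.1

theorem fpf_conj {y : G} (hy : y ∈ D.N) (hyf : ∀ x ∈ D.FV, y • x ≠ x) {g : G} (hg : g ∈ D.N)
    (hgf : ∀ x ∈ D.FV, g • x ≠ x) : ∃ h ∈ D.N, ∃ v ∈ D.V, g = h * (y * v) * h⁻¹ := by
  obtain ⟨h, hh, hv⟩ := translation_conj D hy hg hyf hgf
  refine ⟨h, hh, h⁻¹ * ((h * y * h⁻¹)⁻¹ * g) * h, ?_, by group⟩
  exact (mem_normalizer_iff''.1 ((mem_N D).1 hh).2 _).1 hv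

theorem tau_mem_N {τ : G} (hτ : D.IsTau τ) : τ ∈ D.N :=
  swaps_mem_N D (hτ.2.2 D.t (t_mem D)).symm hτ.1

theorem tau_cen {τ : G} (hτ : D.IsTau τ) : D.Cen τ := fun v hv => by
  rw [← hτ.2.2 v hv.1, mul_inv_cancel_right]

theorem tau_fpf {τ : G} (hτ : D.IsTau τ) (hev : Even D.r) : ∀ x ∈ D.FV, τ • x ≠ x :=
  (invol_N D (tau_mem_N D hτ) (by rw [hτ.2.1]; exact one_mem _) (swaps_not_V D hτ.1)).2 hev

/-- With a central exchange and even `r`, fixed point free elements of `N` are conjugates of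
`τ v`. -/
theorem fpf_tau {τ : G} (hτ : D.IsTau τ) (hev : Even D.r) {g : G} (hg : g ∈ D.N)
    (hgf : ∀ x ∈ D.FV, g • x ≠ x) :
    D.Cen g ∧ g * g = 1 ∧ ∃ h ∈ D.N, ∃ v ∈ D.V, g = h * (τ * v) * h⁻¹ := by
  obtain ⟨h, hh, v, hv, rfl⟩ := fpf_conj D (tau_mem_N D hτ) (tau_fpf D hτ hev) hg hgf
  refine ⟨(cen_conj D hh (mul_mem (tau_mem_N D hτ) (V_le_N D hv))).2
    (cen_mul D (tau_cen D hτ) (cen_of_mem_V D hv)), ?_, h, hh, v, hv, rfl⟩
  have h1 := ((tau_swappers D hτ).2 ⟨v, hv, rfl⟩).2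
  rw [show h * (τ * v) * h⁻¹ * (h * (τ * v) * h⁻¹) = h * ((τ * v) * (τ * v)) * h⁻¹ by group, h1]
  group

theorem tau_N_cen {τ : G} (hτ : D.IsTau τ) (hev : Even D.r) {g : G} (hg : g ∈ D.N)
    (hg2 : g * g ∈ D.V) : D.Cen g := by
  by_cases hgV : g ∈ D.V
  · exact cen_of_mem_V D hgV
  · exact (fpf_tau D hτ hev hg ((invol_N D hg hg2 hgV).2 hev)).1

theorem invol_trans (hev : Even D.r) (T : TwoPointA5.Translations D.A D.FV) {x : G} (hx : x ∈ D.N)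
    (hx2 : x * x ∈ D.V) : (⟨D.vHom ⟨x, hx⟩, _, rfl⟩ : D.A) ∈ T.N :=
  T.invol_mem (A_sharp D) (by rw [card_FV]; exact hev) fun z =>
    Subtype.ext (show x • x • (z : Ω) = z by rw [← mul_smul]; exact z.2 _ hx2)

/-- The elements of `N` of square one. -/
def Data.P {τ : G} (hτ : D.IsTau τ) (hev : Even D.r) : Subgroup G where
  carrier := {x | x ∈ D.N ∧ x * x = 1}
  one_mem' := ⟨one_mem _, one_mul 1⟩
  mul_mem' := by
    rintro x y ⟨hx, hx2⟩ ⟨hy, hy2⟩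
    refine ⟨mul_mem hx hy, ?_⟩
    obtain ⟨T⟩ := exists_trans_FV D
    have hm : (⟨D.vHom ⟨x * y, mul_mem hx hy⟩, _, rfl⟩ : D.A) ∈ T.N := by
      have h1 := mul_mem (invol_trans D hev T hx (by rw [hx2]; exact one_mem _))
        (invol_trans D hev T hy (by rw [hy2]; exact one_mem _))
      have e : (⟨D.vHom ⟨x * y, mul_mem hx hy⟩, _, rfl⟩ : D.A) =
          ⟨D.vHom ⟨x, hx⟩, _, rfl⟩ * ⟨D.vHom ⟨y, hy⟩, _, rfl⟩ :=
        Subtype.ext (map_mul D.vHom ⟨x, hx⟩ ⟨y, hy⟩)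
      rwa [e]
    rcases (T.mem_iff _).1 hm with h | h
    · exact ((vHom_eq_one D).1 (Equiv.ext fun z => h z)).2
    · exact (fpf_tau D hτ hev (mul_mem hx hy) fun z hz e => h ⟨z, hz⟩ (Subtype.ext e)).2.1
  inv_mem' := by
    rintro x ⟨hx, hx2⟩
    exact ⟨inv_mem hx, by rw [← _root_.mul_inv_rev, hx2, inv_one]⟩

theorem mem_P {τ : G} {hτ : D.IsTau τ} {hev : Even D.r} {x : G} :
    x ∈ D.P hτ hev ↔ x ∈ D.N ∧ x * x = 1 := Iff.rfl

variable {τ : G} (hτ : D.IsTau τ) (hev : Even D.r)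

theorem V_le_P : D.V ≤ D.P hτ hev := fun _ hv => ⟨V_le_N D hv, hv.2⟩

theorem P_trans {x : Ω} (hx : x ∈ D.FV) : ∃ g ∈ D.P hτ hev, g • D.a = x := by
  obtain ⟨T⟩ := exists_trans_FV D
  obtain ⟨⟨_, g, rfl⟩, hg, e⟩ := T.trans ⟨D.a, a_mem_FV D⟩ ⟨x, hx⟩
  refine ⟨g, ⟨g.2, ?_⟩, congrArg Subtype.val e⟩
  rcases (T.mem_iff _).1 hg with h | h
  · exact ((vHom_eq_one D).1 (Equiv.ext fun z => h z)).2
  · exact (fpf_tau D hτ hev g.2 fun z hz e => h ⟨z, hz⟩ (Subtype.ext e)).2.1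

theorem P_fix {g : G} (hg : g ∈ D.P hτ hev) {x : Ω} (hx : x ∈ D.FV) (e : g • x = x) : g ∈ D.V := by
  by_contra h
  exact (invol_N D hg.1 (by rw [hg.2]; exact one_mem _) h).2 hev x hx e

theorem card_P : Nat.card (D.P hτ hev) = 4 * D.r := by
  haveI : Finite (D.P hτ hev) := inferInstance
  have h1 := (stabilizer (D.P hτ hev) D.a).card_mul_index
  have hs : stabilizer (D.P hτ hev) D.a = D.V.subgroupOf (D.P hτ hev) := by
    ext ⟨g, hg⟩
    exact ⟨fun e => mem_subgroupOf.2 (P_fix D hτ hev hg (a_mem_FV D) e),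
      fun h => (mem_subgroupOf.1 h).1.1⟩
  have ho : orbit (D.P hτ hev) D.a = D.FV := by
    ext x
    constructor
    · rintro ⟨⟨g, hg⟩, rfl⟩
      exact N_inv D g hg.1 _ (a_mem_FV D)
    · intro hx
      obtain ⟨g, hg, rfl⟩ := P_trans D hτ hev hx
      exact ⟨⟨g, hg⟩, rfl⟩
  rw [index_stabilizer, ho, hs, Nat.card_congr (subgroupOfEquivOfLe (V_le_P D hτ hev)).toEquiv,
    card_V, ← Nat.card_coe_set_eq] at h1
  exact h1.symm

theorem P_comm {x y : G} (hx : x ∈ D.P hτ hev) (hy : y ∈ D.P hτ hev) : x * y = y * x :=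
  calc x * y = x * ((x * y) * (x * y)) * y := by rw [(mul_mem hx hy).2, mul_one]
    _ = (x * x) * (y * x) * (y * y) := by group
    _ = y * x := by rw [hx.2, hy.2, one_mul, mul_one]

theorem P_normal {g x : G} (hg : g ∈ D.N) (hx : x ∈ D.P hτ hev) : g * x * g⁻¹ ∈ D.P hτ hev :=
  ⟨mul_mem (mul_mem hg hx.1) (inv_mem hg), by
    rw [show g * x * g⁻¹ * (g * x * g⁻¹) = g * (x * x) * g⁻¹ by group, hx.2]; group⟩

end Cfsg.Agent.TwoPointA4
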